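import Mathlib
import Cfsg.Agent.S0118
import Cfsg.Agent.S1461
import Cfsg.Agent.Helper2.ZJeBasic

/-!
# Bender–Glauberman, Corollary 10.7 (c), (d), (e) from p-length one (helper52)

For a minimal simple group `G` of odd order in which every proper subgroup has `p`-length at most
one (`hpl`, the conclusion of B&G 10.7(a)), the normalizer of a Sylow `p`-subgroup `P` controls
strong fusion in `P` (`bg107_control`).  The proof combines Glauberman's `ZJ`-theorem
(`S0118`) with the fusion lemma for groups of `p`-length one (`S1461`).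
-/

set_option autoImplicit false

open Cfsg

namespace Cfsg.Agent.Helper52.BG107

variable {G : Type*} [Group G] [Finite G]

omit [Finite G] in
/-- A group of odd order has no section isomorphic to `SL(2, p)`. -/
theorem no_sl2_section (hodd : Odd (Nat.card G)) {p : ℕ} [Fact p.Prime] (hp : p ≠ 2) :
    ¬ ∃ (H K : Subgroup G) (_ : (K.subgroupOf H).Normal),
      Nonempty ((H ⧸ K.subgroupOf H) ≃* Matrix.SpecialLinearGroup (Fin 2) (ZMod p)) := by
  rintro ⟨H, K, _, ⟨e⟩⟩
  have : Fact (2 < p) := ⟨lt_of_le_of_ne (Fact.out : p.Prime).two_le (Ne.symm hp)⟩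
  let z : Matrix.SpecialLinearGroup (Fin 2) (ZMod p) :=
    ⟨!![-1, 0; 0, -1], by simp [Matrix.det_fin_two]⟩
  have hne : z ≠ 1 := by
    intro h
    have h1 := congrArg (fun m : Matrix.SpecialLinearGroup (Fin 2) (ZMod p) => m.1 0 0) h
    simp [z] at h1
    exact ZMod.neg_one_ne_one h1
  have hsq : z ^ 2 = 1 := by
    rw [pow_two]
    ext i j
    simp only [Matrix.SpecialLinearGroup.coe_mul]
    fin_cases i <;> fin_cases j <;> simp [z, Matrix.mul_apply, Fin.sum_univ_two]
  have ho : orderOf z = 2 := orderOf_eq_prime hsq hne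
  have ho' : orderOf (e.symm z) = 2 := by rw [MulEquiv.orderOf_eq]; exact ho
  have h2 : 2 ∣ Nat.card (H ⧸ K.subgroupOf H) := ho' ▸ orderOf_dvd_natCard _
  have h3 : Nat.card (H ⧸ K.subgroupOf H) ∣ Nat.card H := Subgroup.card_quotient_dvd_card _
  have h4 : Nat.card H ∣ Nat.card G := Subgroup.card_subgroup_dvd_card H
  exact (Nat.not_even_iff_odd.mpr hodd) (even_iff_two_dvd.mpr (h2.trans (h3.trans h4)))

/-- An element conjugating a finite subgroup into itself normalizes it. -/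
theorem mem_normalizer_of_conj_mem {H : Subgroup G} {g : G} (h : ∀ x ∈ H, g * x * g⁻¹ ∈ H) :
    g ∈ Subgroup.normalizer (H : Set G) := by
  have hle : H.map (MulAut.conj g).toMonoidHom ≤ H := by
    rintro _ ⟨x, hx, rfl⟩
    exact h x hx
  have hcard : Nat.card (H.map (MulAut.conj g).toMonoidHom) = Nat.card H :=
    Subgroup.card_map_of_injective (MulAut.conj g).injective
  have heq : H.map (MulAut.conj g).toMonoidHom = H :=
    Subgroup.eq_of_le_of_card_ge hle (by rw [hcard])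
  exact Subgroup.mem_normalizer_iff_map_conj_eq.mpr heq

omit [Finite G] in
/-- `N_G(P) ≤ N_G(Z(J(P)))`. -/
theorem normalizer_le_normalizer_ZJ (p : ℕ) (P : Subgroup G) :
    Subgroup.normalizer (P : Set G) ≤
      Subgroup.normalizer (Cfsg.centerThompsonOf p P : Set G) := by
  intro g hg
  have h1 : P.map (MulAut.conj g).toMonoidHom = P := Subgroup.mem_normalizer_iff_map_conj_eq.mp hg
  have h2 := Cfsg.Agent.Helper2.zje_centerThompsonOf_map p (MulAut.conj g).toMonoidHom
    (MulAut.conj g).injective P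
  rw [h1] at h2
  exact Subgroup.mem_normalizer_iff_map_conj_eq.mpr h2.symm

/-- `Z(J(P)) ≠ 1` for a nontrivial `p`-group `P`. -/
theorem ZJ_ne_bot {p : ℕ} [Fact p.Prime] {P : Subgroup G} (hP : IsPGroup p P) (hne : P ≠ ⊥) :
    Cfsg.centerThompsonOf p P ≠ ⊥ := by
  rw [Cfsg.Agent.Helper2.zje_centerThompsonOf_eq]
  have hJ : Helper19.JJ p P ≠ ⊥ := Helper19.JJ_ne_bot hP hne
  have hJp : IsPGroup p (Helper19.JJ p P) := hP.to_le (Helper19.JJ_le p P)
  have : Nontrivial (Helper19.JJ p P) := (Subgroup.nontrivial_iff_ne_bot _).mpr hJ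
  have hc := hJp.center_nontrivial
  obtain ⟨z, hz⟩ := exists_ne (1 : Subgroup.center (Helper19.JJ p P))
  intro hbot
  have hmem : ((z : Helper19.JJ p P) : G) ∈
      Helper19.JJ p P ⊓ Subgroup.centralizer (Helper19.JJ p P : Set G) := by
    refine Subgroup.mem_inf.mpr ⟨(z : Helper19.JJ p P).2, ?_⟩
    rw [Subgroup.mem_centralizer_iff]
    intro h hh
    have h1 := Subgroup.mem_center_iff.mp z.2 ⟨h, hh⟩
    exact congrArg Subtype.val h1
  rw [hbot, Subgroup.mem_bot] at hmem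
  apply hz
  ext
  simpa using hmem

omit [Finite G] in
/-- `Z(J(P))` is abelian, so it is not the whole of a nonabelian group. -/
theorem ZJ_ne_top (hne : ¬ IsMulCommutative G) (p : ℕ) (P : Subgroup G) :
    Cfsg.centerThompsonOf p P ≠ ⊤ := by
  intro htop
  apply hne
  refine ⟨⟨fun a b => ?_⟩⟩
  have ha : a ∈ Cfsg.centerThompsonOf p P := htop ▸ Subgroup.mem_top a
  have hb : b ∈ Cfsg.centerThompsonOf p P := htop ▸ Subgroup.mem_top b
  unfold Cfsg.centerThompsonOf at ha hb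
  exact (Subgroup.mem_centralizer_iff.mp (Subgroup.mem_inf.mp hb).2 a (Subgroup.mem_inf.mp ha).1)

/-- **Control of strong fusion by `N_G(P)`** (B&G 10.7(c), strong form): in a minimal simple group
of odd order all of whose proper subgroups have `p`-length at most one, if `A ⊆ P` and
`g⁻¹ A g ⊆ P` then conjugation by `g` on `A` is induced by an element of `N_G(P)`. -/
theorem bg107_control (hG : IsMinSimpleOddOrder G) {p : ℕ} [Fact p.Prime]
    (hpl : ∀ H : Subgroup G, H ≠ ⊤ → PLengthLE p 1 H)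
    (P : Sylow p G) (A : Set G) (hA : A ⊆ ((P : Subgroup G) : Set G)) (g : G)
    (hg : ∀ a ∈ A, g⁻¹ * a * g ∈ (P : Subgroup G)) :
    ∃ y ∈ Subgroup.normalizer ((P : Subgroup G) : Set G), ∀ a ∈ A, y⁻¹ * a * y = g⁻¹ * a * g := by
  have hsimple : IsSimpleGroup G := hG.2.1
  by_cases hP1 : (P : Subgroup G) = ⊥
  · refine ⟨1, one_mem _, fun a ha => ?_⟩
    have h1 : a = 1 := by
      have := hA ha
      rw [SetLike.mem_coe, hP1, Subgroup.mem_bot] at this
      exact this
    subst h1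
    group
  have hp2 : p ≠ 2 := by
    rintro rfl
    have h1 : 2 ∣ Nat.card (P : Subgroup G) := by
      obtain ⟨n, hn⟩ := IsPGroup.iff_card.mp P.2
      rw [hn]
      cases n with
      | zero =>
        exfalso
        apply hP1
        rw [pow_zero] at hn
        exact Subgroup.card_eq_one.mp hn
      | succ n => exact dvd_pow_self 2 (Nat.succ_ne_zero n)
    exact (Nat.not_even_iff_odd.mpr hG.1)
      (even_iff_two_dvd.mpr (h1.trans (Subgroup.card_subgroup_dvd_card _)))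
  obtain ⟨n, hn, hna⟩ := Cfsg.Agent.S0118.result hp2 (no_sl2_section hG.1 hp2) P A hA g
    (by rintro _ ⟨a, ha, rfl⟩; exact hg a ha)
  set N : Subgroup G := Subgroup.normalizer (Cfsg.centerThompsonOf p (P : Subgroup G) : Set G)
    with hNdef
  have hNtop : N ≠ ⊤ := by
    intro h
    have hnorm : (Cfsg.centerThompsonOf p (P : Subgroup G)).Normal :=
      Subgroup.normalizer_eq_top_iff.mp h
    exact hnorm.eq_bot_or_eq_top.elim (ZJ_ne_bot P.2 hP1) (ZJ_ne_top hG.2.2.1 p _)
  have hPN : (P : Subgroup G) ≤ N :=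
    Subgroup.le_normalizer.trans (normalizer_le_normalizer_ZJ p _)
  have hsolv : Group.IsSolvable ↥N := hG.2.2.2 N hNtop
  have hplN : PLengthLE p 1 ↥N := hpl N hNtop
  let S : Sylow p ↥N := P.subtype hPN
  have hS : ∀ x : ↥N, x ∈ (S : Subgroup ↥N) ↔ (x : G) ∈ (P : Subgroup G) := fun x => by
    show x ∈ (P : Subgroup G).subgroupOf N ↔ _
    rw [Subgroup.mem_subgroupOf]
  obtain ⟨g', hg', c, hc, hgc⟩ := (Cfsg.Agent.S1461.result p hplN S).2.1
    {y : ↥N | (y : G) ∈ A} ⟨n⁻¹, inv_mem hn⟩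
    (fun y hy => (hS y).mpr (hA hy))
    (by
      rintro _ ⟨y, hy, rfl⟩
      rw [SetLike.mem_coe, hS]
      have h1 := hna (y : G) hy
      have h2 : ((⟨n⁻¹, inv_mem hn⟩ * y * (⟨n⁻¹, inv_mem hn⟩ : ↥N)⁻¹ : ↥N) : G)
          = n⁻¹ * (y : G) * n := by simp
      rw [h2, h1]
      exact hg _ hy)
  have hg'N : (g' : G) ∈ Subgroup.normalizer ((P : Subgroup G) : Set G) := by
    apply mem_normalizer_of_conj_mem
    intro x hx
    have hxS : (⟨x, hPN hx⟩ : ↥N) ∈ (S : Subgroup ↥N) := (hS _).mpr hx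
    have h1 := (Subgroup.mem_normalizer_iff.mp hg' ⟨x, hPN hx⟩).mp hxS
    exact (hS _).mp h1
  refine ⟨(g' : G)⁻¹, inv_mem hg'N, fun a ha => ?_⟩
  rw [← hna a ha]
  have haN : a ∈ N := hPN (hA ha)
  have hca : c * ⟨a, haN⟩ = ⟨a, haN⟩ * c :=
    (Subgroup.mem_centralizer_iff.mp hc ⟨a, haN⟩ ha).symm
  have hca' : (c : G) * a = a * (c : G) := congrArg Subtype.val hca
  have hn' : n⁻¹ = (g' : G) * (c : G) := by
    have := congrArg Subtype.val hgc
    simpa using this.symm
  have hn'' : n = (c : G)⁻¹ * (g' : G)⁻¹ := by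
    rw [← inv_inv n, hn']; group
  rw [hn', hn'']
  have : (g' : G) * (c : G) * a * ((c : G)⁻¹ * (g' : G)⁻¹) =
      (g' : G) * ((c : G) * a) * (c : G)⁻¹ * (g' : G)⁻¹ := by group
  rw [this, hca']
  group

/-- A `p`-subgroup is conjugate into a given Sylow `p`-subgroup. -/
theorem exists_conj_mem_sylow {p : ℕ} [Fact p.Prime] (P : Sylow p G) {R : Subgroup G}
    (hR : IsPGroup p R) : ∃ h : G, ∀ x ∈ R, h⁻¹ * x * h ∈ (P : Subgroup G) := by
  obtain ⟨P₂, hP₂⟩ := hR.exists_le_sylow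
  obtain ⟨h, rfl⟩ := MulAction.exists_smul_eq G P P₂
  refine ⟨h, fun x hx => ?_⟩
  have h1 := hP₂ hx
  rw [Sylow.coe_subgroup_smul, Subgroup.mem_pointwise_smul_iff_inv_smul_mem] at h1
  simpa [MulAut.smul_def, MulAut.conj_inv_apply] using h1

/-- **B&G 10.7(c)**: subgroups of `P` conjugate in `G` are conjugate in `N_G(P)`. -/
theorem bg107_c (hG : IsMinSimpleOddOrder G) {p : ℕ} [Fact p.Prime]
    (hpl : ∀ H : Subgroup G, H ≠ ⊤ → PLengthLE p 1 H) (P : Sylow p G) (Q : Subgroup G) (x : G)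
    (hQ : Q ≤ (P : Subgroup G)) (hQx : Q.map (MulAut.conj x).toMonoidHom ≤ (P : Subgroup G)) :
    ∃ y ∈ Subgroup.normalizer ((P : Subgroup G) : Set G),
      Q.map (MulAut.conj x).toMonoidHom = Q.map (MulAut.conj y).toMonoidHom := by
  obtain ⟨y, hy, hya⟩ := bg107_control hG hpl P (Q : Set G) hQ x⁻¹ (fun a ha => by
    rw [inv_inv]; exact hQx ⟨a, ha, by simp [MulAut.conj_apply]⟩)
  refine ⟨y⁻¹, inv_mem hy, ?_⟩
  ext z
  constructor
  · rintro ⟨q, hq, rfl⟩
    refine ⟨q, hq, ?_⟩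
    have := hya q hq
    simp only [MulEquiv.coe_toMonoidHom, MulAut.conj_apply, inv_inv] at this ⊢
    exact this
  · rintro ⟨q, hq, rfl⟩
    refine ⟨q, hq, ?_⟩
    have := hya q hq
    simp only [MulEquiv.coe_toMonoidHom, MulAut.conj_apply, inv_inv] at this ⊢
    exact this.symm

/-- **B&G 10.7(d)**: `N_P(Q)` is a Sylow `p`-subgroup of `N_G(Q)` for every `Q ≤ P`. -/
theorem bg107_d (hG : IsMinSimpleOddOrder G) {p : ℕ} [Fact p.Prime]
    (hpl : ∀ H : Subgroup G, H ≠ ⊤ → PLengthLE p 1 H) (P : Sylow p G) (Q : Subgroup G)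
    (hQ : Q ≤ (P : Subgroup G)) :
    ¬ p ∣ ((P : Subgroup G) ⊓ Subgroup.normalizer (Q : Set G)).relIndex
      (Subgroup.normalizer (Q : Set G)) := by
  set NQ : Subgroup G := Subgroup.normalizer (Q : Set G) with hNQ
  set T : Subgroup G := (P : Subgroup G) ⊓ NQ with hT
  have hTp : IsPGroup p T := P.2.to_le inf_le_left
  have hTp' : IsPGroup p (T.subgroupOf NQ) := hTp.comap_subtype
  obtain ⟨R, hR⟩ := hTp'.exists_le_sylow
  set R' : Subgroup G := (R : Subgroup NQ).map NQ.subtype with hR'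
  have hR'p : IsPGroup p R' := R.2.map _
  have hR'N : R' ≤ NQ := Subgroup.map_subtype_le _
  have hTR' : T ≤ R' := by
    intro t ht
    exact ⟨⟨t, (Subgroup.mem_inf.mp ht).2⟩, hR (Subgroup.mem_subgroupOf.mpr ht), rfl⟩
  have hQT : Q ≤ T := le_inf hQ Subgroup.le_normalizer
  obtain ⟨g, hconj⟩ := exists_conj_mem_sylow P hR'p
  obtain ⟨y, hy, hya⟩ := bg107_control hG hpl P (Q : Set G) hQ g
    (fun a ha => hconj a (hTR' (hQT ha)))
  have hcC : g * y⁻¹ ∈ Subgroup.centralizer (Q : Set G) := by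
    rw [Subgroup.mem_centralizer_iff]
    intro a ha
    have h1 := hya a ha
    symm
    calc g * y⁻¹ * a = g * (y⁻¹ * a * y) * y⁻¹ := by group
      _ = g * (g⁻¹ * a * g) * y⁻¹ := by rw [h1]
      _ = a * (g * y⁻¹) := by group
  have hcN : g * y⁻¹ ∈ NQ := Subgroup.centralizer_le_normalizer _ hcC
  have hmap : R'.map (MulAut.conj (g * y⁻¹)⁻¹).toMonoidHom ≤ T := by
    rintro _ ⟨x, hx, rfl⟩
    simp only [MulEquiv.coe_toMonoidHom, MulAut.conj_apply, inv_inv]
    refine Subgroup.mem_inf.mpr ⟨?_, ?_⟩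
    · have h1 := (Subgroup.mem_normalizer_iff.mp hy _).mp (hconj x hx)
      have e : (g * y⁻¹)⁻¹ * x * (g * y⁻¹) = y * (g⁻¹ * x * g) * y⁻¹ := by group
      rw [e]; exact h1
    · exact mul_mem (mul_mem (inv_mem hcN) (hR'N hx)) hcN
  have hcard : Nat.card R' ≤ Nat.card T := by
    have h1 : Nat.card (R'.map (MulAut.conj (g * y⁻¹)⁻¹).toMonoidHom) = Nat.card R' :=
      Subgroup.card_map_of_injective (MulAut.conj (g * y⁻¹)⁻¹).injective
    rw [← h1]
    exact Subgroup.card_le_of_le hmap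
  have hTR : T = R' := Subgroup.eq_of_le_of_card_ge hTR' hcard
  have hsub : T.subgroupOf NQ = (R : Subgroup NQ) := by
    rw [hTR, hR']
    exact Subgroup.comap_map_eq_self_of_injective NQ.subtype_injective _
  rw [Subgroup.relIndex, hsub]
  exact R.not_dvd_index

/-- **B&G 10.7(e)**: a subgroup of `P ∩ R` normal in `N_G(P)` is normal in `N_G(R)`, for every
`p`-subgroup `R`. -/
theorem bg107_e (hG : IsMinSimpleOddOrder G) {p : ℕ} [Fact p.Prime]
    (hpl : ∀ H : Subgroup G, H ≠ ⊤ → PLengthLE p 1 H) (P : Sylow p G) (R Q : Subgroup G)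
    (hR : IsPGroup p R) (hQ : Q ≤ (P : Subgroup G) ⊓ R)
    (hN : Subgroup.normalizer ((P : Subgroup G) : Set G) ≤ Subgroup.normalizer (Q : Set G)) :
    Subgroup.normalizer (R : Set G) ≤ Subgroup.normalizer (Q : Set G) := by
  have key : ∀ u : G, (∀ a ∈ Q, u⁻¹ * a * u ∈ (P : Subgroup G)) →
      u ∈ Subgroup.normalizer (Q : Set G) := by
    intro u hu
    obtain ⟨y, hy, hya⟩ := bg107_control hG hpl P (Q : Set G) (hQ.trans inf_le_left) u hu
    have h1 : u⁻¹ ∈ Subgroup.normalizer (Q : Set G) := by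
      apply mem_normalizer_of_conj_mem
      intro a ha
      rw [inv_inv, ← hya a ha]
      have hyQ : y⁻¹ ∈ Subgroup.normalizer (Q : Set G) := inv_mem (hN hy)
      have := (Subgroup.mem_normalizer_iff.mp hyQ a).mp ha
      rwa [inv_inv] at this
    simpa using inv_mem h1
  obtain ⟨h, hconj⟩ := exists_conj_mem_sylow P hR
  have hh : h ∈ Subgroup.normalizer (Q : Set G) :=
    key h (fun a ha => hconj a (Subgroup.mem_inf.mp (hQ ha)).2)
  intro n hn
  have hnh : n * h ∈ Subgroup.normalizer (Q : Set G) := key (n * h) (fun a ha => by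
    have h1 : n⁻¹ * a * n ∈ R := by
      have := (Subgroup.mem_normalizer_iff.mp (inv_mem hn) a).mp (Subgroup.mem_inf.mp (hQ ha)).2
      rwa [inv_inv] at this
    have h2 := hconj _ h1
    have e : (n * h)⁻¹ * a * (n * h) = h⁻¹ * (n⁻¹ * a * n) * h := by group
    rw [e]; exact h2)
  have e : n = (n * h) * h⁻¹ := by group
  rw [e]; exact mul_mem hnh (inv_mem hh)

end Cfsg.Agent.Helper52.BG107
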