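import Cfsg.Agent.Helper24.BG11b

/-!
# PIECE P1 of CALL S1419 (B&G Theorem 12.7): `p`-th powers lying in `A` are central in `S`
-/

set_option autoImplicit false

namespace Cfsg.Agent.Helper52

open Cfsg Subgroup Cfsg.Agent.Helper22 Cfsg.Agent.Helper23 Cfsg.Agent.Helper35

universe u

variable {G : Type u} [Group G] [Finite G]

/-- PIECE P1 of CALL S1419. -/
theorem bg127_pow_central (h12 : Cfsg.Agent.Helper24.BGRk2 G) {p : ℕ} [Fact p.Prime]
    (hp2 : p ≠ 2) (S : Sylow p G) {A : Subgroup G} (hAS : A ≤ (S : Subgroup G))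
    (hA : IsElementaryAbelian p A) (hAc : Nat.card A = p ^ 2)
    (hmax : ∀ B : Subgroup G, IsElementaryAbelian p B → A ≤ B → B = A) {s : G}
    (hs : s ∈ (S : Subgroup G)) (hsA : s ^ p ∈ A) :
    ∀ t ∈ (S : Subgroup G), s ^ p * t = t * s ^ p := by
  have hp : p.Prime := Fact.out
  by_cases hr : PRankLE p 2 ↥(S : Subgroup G)
  · rcases h12 p S hr with hab | ⟨P₁, P₂, hsup, hcomm, -, -, hexp, hcyc, -⟩
    · intro t ht
      exact congrArg Subtype.val (hab.is_comm.comm ⟨s ^ p, pow_mem hs p⟩ ⟨t, ht⟩)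
    · have hdec : ∀ s ∈ (S : Subgroup G), ∃ s₁ ∈ P₁, ∃ s₂ ∈ P₂, s = s₁ * s₂ := by
        let T : Subgroup G :=
          { carrier := {s | ∃ s₁ ∈ P₁, ∃ s₂ ∈ P₂, s = s₁ * s₂}
            mul_mem' := by
              rintro _ _ ⟨s₁, h1, s₂, h2, rfl⟩ ⟨t₁, h3, t₂, h4, rfl⟩
              refine ⟨s₁ * t₁, mul_mem h1 h3, s₂ * t₂, mul_mem h2 h4, ?_⟩
              have e := hcomm t₁ h3 s₂ h2
              calc s₁ * s₂ * (t₁ * t₂) = s₁ * (s₂ * t₁) * t₂ := by group
                _ = s₁ * (t₁ * s₂) * t₂ := by rw [e]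
                _ = s₁ * t₁ * (s₂ * t₂) := by group
            one_mem' := ⟨1, one_mem _, 1, one_mem _, by simp⟩
            inv_mem' := by
              rintro _ ⟨s₁, h1, s₂, h2, rfl⟩
              refine ⟨s₁⁻¹, inv_mem h1, s₂⁻¹, inv_mem h2, ?_⟩
              have e := hcomm s₁⁻¹ (inv_mem h1) s₂⁻¹ (inv_mem h2)
              rw [mul_inv_rev, e] }
        have hT : P₁ ⊔ P₂ ≤ T :=
          sup_le (fun s hs => ⟨s, hs, 1, one_mem _, by simp⟩)
            (fun s hs => ⟨1, one_mem _, s, hs, by simp⟩)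
        intro s hs
        exact hT (by rw [hsup]; exact hs)
      have hP₂comm : ∀ u ∈ P₂, ∀ v ∈ P₂, u * v = v * u := by
        have hc : IsMulCommutative ↥P₂ := IsCyclic.isMulCommutative
        intro u hu v hv
        exact congrArg Subtype.val (hc.is_comm.comm ⟨u, hu⟩ ⟨v, hv⟩)
      obtain ⟨s₁, hs₁, s₂, hs₂, rfl⟩ := hdec s hs
      have hs₁p : s₁ ^ p = 1 := by
        have h := Monoid.pow_exponent_eq_one (⟨s₁, hs₁⟩ : ↥P₁)
        rw [hexp] at h
        have h' := congrArg Subtype.val h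
        simpa using h'
      have hpow : (s₁ * s₂) ^ p = s₂ ^ p := by
        have hc12 : Commute s₁ s₂ := hcomm s₁ hs₁ s₂ hs₂
        rw [hc12.mul_pow, hs₁p, one_mul]
      rw [hpow]
      intro t ht
      obtain ⟨t₁, ht₁, t₂, ht₂, rfl⟩ := hdec t ht
      have e1 : t₁ * s₂ ^ p = s₂ ^ p * t₁ := hcomm t₁ ht₁ (s₂ ^ p) (pow_mem hs₂ p)
      have e2 : s₂ ^ p * t₂ = t₂ * s₂ ^ p := hP₂comm _ (pow_mem hs₂ p) t₂ ht₂
      calc s₂ ^ p * (t₁ * t₂) = (s₂ ^ p * t₁) * t₂ := by rw [mul_assoc]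
        _ = (t₁ * s₂ ^ p) * t₂ := by rw [e1]
        _ = t₁ * (s₂ ^ p * t₂) := by rw [mul_assoc]
        _ = t₁ * (t₂ * s₂ ^ p) := by rw [e2]
        _ = t₁ * t₂ * s₂ ^ p := by rw [mul_assoc]
  · have hS : IsPGroup p ↥(S : Subgroup G) := S.isPGroup'
    obtain ⟨E, hEdef⟩ : ∃ E : Subgroup ↥(S : Subgroup G), E = A.subgroupOf S := ⟨_, rfl⟩
    have hmemE : ∀ u : ↥(S : Subgroup G), u ∈ E ↔ (u : G) ∈ A := fun u => by
      rw [hEdef, Subgroup.mem_subgroupOf]
    have hEcomm : ∀ u ∈ E, ∀ v ∈ E, u * v = v * u := by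
      intro u hu v hv
      apply Subtype.ext
      exact bg11_elemAb_comm hA u ((hmemE u).mp hu) v ((hmemE v).mp hv)
    have hE : IsElementaryAbelian p E := by
      refine ⟨⟨⟨fun u v => Subtype.ext (hEcomm u u.2 v v.2)⟩⟩, fun a ha => ?_⟩
      apply Subtype.ext
      rw [Subgroup.coe_pow]; exact hA.2 _ ((hmemE a).mp ha)
    have hE2 : Nat.card E = p ^ 2 := by
      rw [hEdef, Helper35.card_subgroupOf_of_le hAS, hAc]
    have hEmax : ∀ B : Subgroup ↥(S : Subgroup G), IsElementaryAbelian p B → E ≤ B → B = E := by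
      intro B hB hle
      have hB' : IsElementaryAbelian p (B.map (S : Subgroup G).subtype) := by
        refine ⟨⟨⟨?_⟩⟩, ?_⟩
        · rintro ⟨_, ⟨u, hu, rfl⟩⟩ ⟨_, ⟨v, hv, rfl⟩⟩
          apply Subtype.ext
          have h1 := hB.1.is_comm.comm ⟨u, hu⟩ ⟨v, hv⟩
          exact congrArg (fun w : ↥B => ((w : ↥(S : Subgroup G)) : G)) h1
        · rintro _ ⟨u, hu, rfl⟩
          have h1 := hB.2 u hu
          have h2 := congrArg (fun w : ↥(S : Subgroup G) => (w : G)) h1
          simpa using h2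
      have hAB : A ≤ B.map (S : Subgroup G).subtype := by
        intro a ha
        exact ⟨⟨a, hAS ha⟩, hle ((hmemE _).mpr ha), rfl⟩
      have h1 := hmax _ hB' hAB
      refine le_antisymm ?_ hle
      intro u hu
      rw [hmemE, ← h1]
      exact ⟨u, hu, rfl⟩
    obtain ⟨hnle, hZcard, -, hTchar, hTidx⟩ :=
      Cfsg.Agent.S1453.result (R := ↥(S : Subgroup G)) p hp2 hS hr E hE hE2 hEmax
    obtain ⟨T, hTdef⟩ : ∃ T : Subgroup ↥(S : Subgroup G), T = centralizer ((closure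
        {x : ↥(S : Subgroup G) | x ∈ Subgroup.upperCentralSeries ↥(S : Subgroup G) 2 ∧ x ^ p = 1} :
          Subgroup ↥(S : Subgroup G)) : Set ↥(S : Subgroup G)) := ⟨_, rfl⟩
    rw [← hTdef] at hnle hTchar hTidx
    have hTn : T.Normal := Subgroup.normal_of_characteristic T
    obtain ⟨Z, hZdef⟩ : ∃ Z : Subgroup ↥(S : Subgroup G), Z = closure
        {x : ↥(S : Subgroup G) | x ∈ Subgroup.center ↥(S : Subgroup G) ∧ x ^ p = 1} := ⟨_, rfl⟩
    rw [← hZdef] at hZcard
    have hZcen : Z ≤ Subgroup.center ↥(S : Subgroup G) := by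
      rw [hZdef, Subgroup.closure_le]
      intro x hx
      exact hx.1
    have hZT : Z ≤ T := by
      intro z hz
      rw [hTdef, Subgroup.mem_centralizer_iff]
      intro w _
      exact Subgroup.mem_center_iff.mp (hZcen hz) w
    have hZel : IsElementaryAbelian p Z := by
      have hZcomm : ∀ u ∈ Z, ∀ v ∈ Z, u * v = v * u := fun u hu v _ =>
        (Subgroup.mem_center_iff.mp (hZcen hu) v).symm
      refine ⟨⟨⟨fun u v => Subtype.ext (hZcomm u u.2 v v.2)⟩⟩, ?_⟩
      intro z hz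
      have key : ∀ z ∈ closure
          {x : ↥(S : Subgroup G) | x ∈ Subgroup.center ↥(S : Subgroup G) ∧ x ^ p = 1},
          z ∈ Subgroup.center ↥(S : Subgroup G) ∧ z ^ p = 1 := by
        intro z hz
        induction hz using Subgroup.closure_induction with
        | mem x hx => exact hx
        | one => exact ⟨Subgroup.one_mem _, one_pow p⟩
        | mul x y _ _ ihx ihy =>
          have hxy : Commute x y := (Subgroup.mem_center_iff.mp ihx.1 y).symm
          exact ⟨Subgroup.mul_mem _ ihx.1 ihy.1, by rw [hxy.mul_pow, ihx.2, ihy.2, one_mul]⟩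
        | inv x _ ihx => exact ⟨Subgroup.inv_mem _ ihx.1, by rw [inv_pow, ihx.2, inv_one]⟩
      rw [hZdef] at hz
      exact (key z hz).2
    have hZE : Z ≤ E := by
      have hcomm : ∀ u ∈ E, ∀ v ∈ Z, u * v = v * u := fun u _ v hv =>
        Subgroup.mem_center_iff.mp (hZcen hv) u
      have hsup := bg11_sup_elemAb hE hZel hcomm
      have h1 := hEmax _ hsup le_sup_left
      rw [← h1]
      exact le_sup_right
    have hTE : Nat.card ↥(T ⊓ E) ≤ p := by
      have hle : T ⊓ E ≤ E := inf_le_right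
      have hdvd : Nat.card ↥(T ⊓ E) ∣ p ^ 2 := by
        rw [← hE2]; exact Subgroup.card_dvd_of_le hle
      obtain ⟨k, hk, hcard⟩ := (Nat.dvd_prime_pow hp).mp hdvd
      have hk1 : k ≤ 1 := by
        by_contra hk2
        have hk2' : k = 2 := by omega
        subst hk2'
        have h1 := Subgroup.eq_of_le_of_card_ge hle (by rw [hcard, hE2])
        exact hnle (by rw [← h1]; exact inf_le_left)
      rw [hcard]
      calc p ^ k ≤ p ^ 1 := Nat.pow_le_pow_right hp.pos hk1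
        _ = p := pow_one p
    have hZeq : Z = T ⊓ E :=
      Subgroup.eq_of_le_of_card_ge (le_inf hZT hZE) (by rw [hZcard]; exact hTE)
    have hsT : (⟨s, hs⟩ : ↥(S : Subgroup G)) ^ p ∈ T := by
      have hcardQ : Nat.card (↥(S : Subgroup G) ⧸ T) = p := by
        rw [← Subgroup.index_eq_card]; exact hTidx
      have h1 : (QuotientGroup.mk (⟨s, hs⟩ : ↥(S : Subgroup G)) : ↥(S : Subgroup G) ⧸ T)
          ^ Nat.card (↥(S : Subgroup G) ⧸ T) = 1 := pow_card_eq_one'
      rw [hcardQ, ← QuotientGroup.mk_pow, QuotientGroup.eq_one_iff] at h1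
      exact h1
    have hsE : (⟨s, hs⟩ : ↥(S : Subgroup G)) ^ p ∈ E := by
      rw [hmemE, Subgroup.coe_pow]
      exact hsA
    have hsZ : (⟨s, hs⟩ : ↥(S : Subgroup G)) ^ p ∈ Z := by
      rw [hZeq]
      exact ⟨hsT, hsE⟩
    intro t ht
    have h := Subgroup.mem_center_iff.mp (hZcen hsZ) ⟨t, ht⟩
    have h' := congrArg Subtype.val h
    simp only [Subgroup.coe_mul, Subgroup.coe_pow] at h'
    exact h'.symm

end Cfsg.Agent.Helper52
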