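import Mathlib

/-!
# Definitions for CALL S0434 (simple groups of order 7920: Sylow 3-normalisers have order 144)

`O7920Hyp G` : the standing hypotheses of the second part of the proof, where the case
"220 Sylow 3-subgroups" is refuted.

`O7920Conf G R D j` : the configuration studied there: a subgroup `D` of order 3 of the Sylow
3-subgroup `R` that lies in exactly four Sylow 3-subgroups, and a 2-element `j` of the normaliser
of `R` that inverts `R`.
-/

set_option autoImplicit false

namespace Cfsg.Agent.Helper52

/-- `G` is simple of order `7920 = 2^4·3^2·5·11`, its Sylow 11-subgroups are self-centralising,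
its Sylow 5-normalisers have order 20 (and the Sylow 5-centralisers order dividing 10), and its
Sylow 3-normalisers have order 36 (the case to be refuted). -/
structure O7920Hyp (G : Type*) [Group G] : Prop where
  simple : IsSimpleGroup G
  card : Nat.card G = 7920
  c11 : ∀ P : Sylow 11 G, Nat.card ↥(Subgroup.centralizer ((P : Subgroup G) : Set G)) = 11
  n5 : ∀ Q : Sylow 5 G, Nat.card ↥(Subgroup.normalizer ((Q : Subgroup G) : Set G)) = 20
  c5 : ∀ Q : Sylow 5 G, Nat.card ↥(Subgroup.centralizer ((Q : Subgroup G) : Set G)) ∣ 10
  n3 : ∀ R : Sylow 3 G, Nat.card ↥(Subgroup.normalizer ((R : Subgroup G) : Set G)) = 36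

/-- the configuration: `D ≤ R` of order 3 lies in exactly four Sylow 3-subgroups, its normaliser
is twice its centraliser, and `j` is a 2-element of `N(R)` inverting `R`. -/
structure O7920Conf (G : Type*) [Group G] (R : Sylow 3 G) (D : Subgroup G) (j : G) : Prop where
  hyp : O7920Hyp G
  hDR : D ≤ (R : Subgroup G)
  hD : Nat.card ↥D = 3
  hjN : j ∈ Subgroup.normalizer ((R : Subgroup G) : Set G)
  hj4 : j ^ 4 = 1
  hjinv : ∀ r ∈ (R : Subgroup G), j * r * j⁻¹ = r⁻¹
  four : Nat.card {S : Sylow 3 G // D ≤ (S : Subgroup G)} = 4
  nD : Nat.card ↥(Subgroup.normalizer (D : Set G)) = 2 * Nat.card ↥(Subgroup.centralizer (D : Set G))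

end Cfsg.Agent.Helper52
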