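import Mathlib
import Cfsg.Agent.Helper52.O7920Defs

/-!
# More definitions for CALL S0434 (simple groups of order 7920)

`O7920Conf2 G R D j` bundles the configuration `O7920Conf G R D j` with the facts that the later
pieces use: the three centraliser lemmas (pieces L11, L5, L5i), the order and commutativity of the
Sylow 3-subgroups, and the conclusions of piece ST (stabiliser count, transitivity).
-/

set_option autoImplicit false

namespace Cfsg.Agent.Helper52

structure O7920Conf2 (G : Type*) [Group G] (R : Sylow 3 G) (D : Subgroup G) (j : G) : Prop where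
  conf : O7920Conf G R D j
  /-- Sylow 3-subgroups have order 9 and are abelian -/
  syl3 : ∀ S : Sylow 3 G, Nat.card ↥(S : Subgroup G) = 9 ∧
    ∀ a ∈ (S : Subgroup G), ∀ b ∈ (S : Subgroup G), a * b = b * a
  /-- piece L11 -/
  l11 : ∀ x : G, x ≠ 1 → orderOf x ≠ 11 →
    ¬ 11 ∣ Nat.card ↥(Subgroup.centralizer ({x} : Set G))
  /-- piece L5 -/
  l5 : ∀ x : G, x * x ≠ 1 → ¬ 5 ∣ orderOf x →
    ¬ 5 ∣ Nat.card ↥(Subgroup.centralizer ({x} : Set G))
  /-- piece L5i -/
  l5i : ∀ x : G, x ≠ 1 → x * x = 1 → 5 ∣ Nat.card ↥(Subgroup.centralizer ({x} : Set G)) →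
    ∃ k, Nat.card ↥(Subgroup.centralizer ({x} : Set G)) = 20 * k ∧ k % 5 = 1
  /-- piece ST, first half -/
  stab : 4 * Nat.card ↥(Subgroup.centralizer (D : Set G) ⊓
      Subgroup.normalizer ((R : Subgroup G) : Set G)) =
    Nat.card ↥(Subgroup.centralizer (D : Set G))
  /-- piece ST, second half: the centraliser of `D` is transitive on the Sylow 3-subgroups
  containing `D` -/
  trans : ∀ S : Sylow 3 G, D ≤ (S : Subgroup G) →
    ∃ x ∈ Subgroup.centralizer (D : Set G), ∀ y : G,
      y ∈ (S : Subgroup G) ↔ x⁻¹ * y * x ∈ (R : Subgroup G)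

end Cfsg.Agent.Helper52
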