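import Mathlib
import Cfsg.Agent.Helper13.TLDefs

set_option autoImplicit false

/-!
# CALL S5954 piece UNDBLK (helper52): `und_blk`, statement verbatim from the skeleton
(mirror of the symplectic piece `nd_blk` of helper46 with one chain).
-/

namespace Cfsg.Agent.Helper52.TI5954

open Module Polynomial
open Cfsg.Agent.Helper13.TIu Cfsg.Agent.Helper13.TIsp

section geom

variable {F : Type*} [Field F] {σ : F →+* F} {V : Type*} [AddCommGroup V] [Module F V]
  [FiniteDimensional F V] (B : V →ₛₗ[σ] V →ₗ[F] F)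

set_option linter.unusedSectionVars false in
/-- a combination of the chain vectors which is orthogonal to all chain vectors has zero
coefficients -/
theorem und_blk_coeff (N : Module.End F V) (a : ℕ) (v : V)
    (hz : ∀ (i i' : ℕ), a ≤ i + i' → B ((N ^ i) v) ((N ^ i') v) = 0)
    (ha : ∀ (i i' : ℕ), i + i' + 1 = a →
      B ((N ^ i) v) ((N ^ i') v) = (-1) ^ i * B v ((N ^ (a - 1)) v))
    (hβ : B v ((N ^ (a - 1)) v) ≠ 0)
    (α : Fin 1 × Fin a → F)
    (hα : ∀ (i' : ℕ), i' < a →
      B (∑ x : Fin 1 × Fin a, α x • (N ^ (x.2 : ℕ)) v) ((N ^ i') v) = 0) :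
    ∀ x, α x = 0 := by
  classical
  have hα' : ∀ (i' : ℕ), i' < a →
      ∑ i : Fin a, σ (α (0, i)) * B ((N ^ (i : ℕ)) v) ((N ^ i') v) = 0 := by
    intro i' hi'
    have h1 := hα i' hi'
    rw [map_sum, LinearMap.sum_apply, Fintype.sum_prod_type, Fin.sum_univ_one] at h1
    rw [← h1]
    apply Finset.sum_congr rfl
    intro i _
    rw [map_smulₛₗ, LinearMap.smul_apply, smul_eq_mul]
  have key : ∀ n : ℕ, ∀ i : Fin a, (i : ℕ) = n → α (0, i) = 0 := by
    intro n
    induction n using Nat.strong_induction_on with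
    | _ n ih =>
      intro i hin
      have h1 := hα' (a - 1 - (i : ℕ)) (by have := i.2; omega)
      rw [Finset.sum_eq_single i] at h1
      · rw [ha (i : ℕ) (a - 1 - (i : ℕ)) (by have := i.2; omega)] at h1
        rcases mul_eq_zero.1 h1 with h3 | h3
        · exact (map_eq_zero σ).1 h3
        · rcases mul_eq_zero.1 h3 with h4 | h4
          · exact absurd h4 (pow_ne_zero _ (neg_ne_zero.2 one_ne_zero))
          · exact absurd h4 hβ
      · intro i' _ hne
        rcases lt_or_gt_of_ne (Fin.val_ne_of_ne hne) with hlt | hgt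
        · rw [ih (i' : ℕ) (hin ▸ hlt) i' rfl, map_zero, zero_mul]
        · rw [hz (i' : ℕ) (a - 1 - (i : ℕ)) (by have := i.2; omega), mul_zero]
      · intro h
        exact absurd (Finset.mem_univ _) h
  rintro ⟨j, i⟩
  have hj : j = 0 := Subsingleton.elim _ _
  subst hj
  exact key (i : ℕ) i rfl

set_option linter.unusedSectionVars false in
theorem und_blk (N : Module.End F V) (a : ℕ) (v : V)
    (hz : ∀ (i i' : ℕ), a ≤ i + i' → B ((N ^ i) v) ((N ^ i') v) = 0)
    (ha : ∀ (i i' : ℕ), i + i' + 1 = a →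
      B ((N ^ i) v) ((N ^ i') v) = (-1) ^ i * B v ((N ^ (a - 1)) v))
    (hβ : B v ((N ^ (a - 1)) v) ≠ 0) :
    LinearIndependent F (fun x : Fin 1 × Fin a => (N ^ (x.2 : ℕ)) v) ∧
    UNd B (Submodule.span F (Set.range (fun x : Fin 1 × Fin a => (N ^ (x.2 : ℕ)) v))) := by
  classical
  constructor
  · rw [Fintype.linearIndependent_iff]
    intro α hα
    apply und_blk_coeff B N a v hz ha hβ α
    intro i' _
    rw [hα, map_zero, LinearMap.zero_apply]
  · intro w hw hvw
    obtain ⟨α, rfl⟩ := (Submodule.mem_span_range_iff_exists_fun F).1 hw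
    have h1 := und_blk_coeff B N a v hz ha hβ α (by
      intro i' hi'
      apply hvw
      apply Submodule.subset_span
      exact ⟨((0 : Fin 1), ⟨i', hi'⟩), rfl⟩)
    apply Finset.sum_eq_zero
    intro x _
    rw [h1 x, zero_smul]

end geom

end Cfsg.Agent.Helper52.TI5954
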