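import Mathlib
import Cfsg.Agent.Helper13.TLDefs
import Cfsg.Agent.Helper52.TLUXFER
import Cfsg.Agent.Helper52.TLUMODELODDaux

set_option autoImplicit false

/-!
# CALL S5954 piece UMODELODD (helper52): `umodel_odd`, statement verbatim from the skeleton.
-/

namespace Cfsg.Agent.Helper52.TI5954

open Module Polynomial
open Cfsg.Agent.Helper13.TIu Cfsg.Agent.Helper13.TIsp

section std2

variable {F : Type*} [Field F] {σ : F →+* F}

theorem umodel_odd [Finite F] (hσ2 : ∀ a, σ (σ a) = a) (hσne : σ ≠ RingHom.id F) (p : ℕ)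
    [Fact p.Prime] [CharP F p] (h2 : (2 : F) ≠ 0) (a : ℕ) (ha : 1 ≤ a) (hap : a ≤ p) :
    ∃ T : Module.End F (Fin a → F), UPres (stdH σ a) T ∧ T ^ p = 1 ∧
      JT (T - 1) ⊤ (Multiset.replicate 1 a) := by
  obtain ⟨k, rfl⟩ : ∃ k, a = k + 1 := ⟨a - 1, by omega⟩
  exact umodel_odd_aux hσ2 hσne p h2 k hap
    (fun B hS hnd => u_xfer B hσ2 hσne hS hnd (k + 1) (by rw [Module.finrank_fin_fun]))

end std2

end Cfsg.Agent.Helper52.TI5954
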