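import Mathlib
import Cfsg.Prelude.Def_OddOrderLocal
import Cfsg.Agent.S1355
import Cfsg.Agent.S1365

/-!
# CALL BG17 (helper25), piece TF1: the first clauses of `IsOfTypeF ↥M'`.
-/

set_option autoImplicit false
set_option linter.unusedSectionVars false

namespace Cfsg.Agent.Helper52

open Cfsg Subgroup

universe u

variable {G : Type u} [Group G] [Finite G]

theorem bg17_typeF_basic (hG : IsMinSimpleOddOrder G) {M K U : Subgroup G} (hM : IsCoatom M)
    (hKU : IsSigmaDecomposition M K U) (hK1 : K ≠ ⊥) (hU1 : U ≠ ⊥)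
    (hFH : fittingHallOf ⁅M, M⁆ = sigmaCore M) :
    Group.IsSolvable ↥⁅M, M⁆ ∧ Odd (Nat.card ↥⁅M, M⁆) ∧ fittingHall ↥⁅M, M⁆ ≠ ⊥ ∧
      fittingHall ↥⁅M, M⁆ ≠ ⊤ ∧ fittingHall ↥⁅M, M⁆ = (sigmaCore M).subgroupOf ⁅M, M⁆ := by
  obtain ⟨hF1, hFσ, hσM', hM'lt, -⟩ := Cfsg.Agent.S1355.result hG M hM
  obtain ⟨hM'eq, -⟩ := Cfsg.Agent.S1365.result hG M hM K U hKU hK1
  have hM'top : ⁅M, M⁆ ≠ ⊤ := by
    intro h
    rw [h] at hM'lt
    exact not_top_lt hM'lt
  have hσ1 : sigmaCore M ≠ ⊥ := by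
    intro h
    rw [h] at hFσ
    exact hF1 (le_bot_iff.1 hFσ)
  have hmap : (fittingHall ↥⁅M, M⁆).map (⁅M, M⁆ : Subgroup G).subtype = sigmaCore M := hFH
  have hcomap : fittingHall ↥⁅M, M⁆ = (sigmaCore M).subgroupOf ⁅M, M⁆ := by
    rw [← hmap]
    exact (Subgroup.comap_map_eq_self_of_injective (Subgroup.subtype_injective _) _).symm
  refine ⟨hG.2.2.2 _ hM'top, hG.1.of_dvd_nat (Subgroup.card_subgroup_dvd_card _), ?_, ?_, hcomap⟩
  · intro h
    rw [h, Subgroup.map_bot] at hmap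
    exact hσ1 hmap.symm
  · intro h
    rw [h, ← MonoidHom.range_eq_map, Subgroup.range_subtype] at hmap
    have hUle : U ≤ sigmaCore M := by
      rw [← hmap, hM'eq]
      exact le_sup_left
    have hint := hKU.compl.2.2.1
    apply hU1
    rw [eq_bot_iff, ← hint]
    exact le_inf le_rfl (hUle.trans le_sup_right)

end Cfsg.Agent.Helper52
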