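import Mathlib

/-!
# Definitions for CALL S0435 (simple groups of order 7920: involution centralisers have order 48)

`U7920Hyp G` bundles what is known about a simple group `G` of order 7920 after S0434:
there are 55 Sylow 3-subgroups, abelian of order 9, with normalisers of order 144, and the three
centraliser lemmas (11 does not divide a centraliser order except for elements of order 11, ...).
-/

set_option autoImplicit false

namespace Cfsg.Agent.Helper52

structure U7920Hyp (G : Type*) [Group G] : Prop where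
  simple : IsSimpleGroup G
  card : Nat.card G = 7920
  /-- there are 55 Sylow 3-subgroups -/
  num3 : Nat.card (Sylow 3 G) = 55
  /-- their normalisers have order 144 -/
  n3 : ∀ R : Sylow 3 G, Nat.card ↥(Subgroup.normalizer ((R : Subgroup G) : Set G)) = 144
  /-- Sylow 3-subgroups have order 9 and are abelian -/
  syl3 : ∀ S : Sylow 3 G, Nat.card ↥(S : Subgroup G) = 9 ∧
    ∀ a ∈ (S : Subgroup G), ∀ b ∈ (S : Subgroup G), a * b = b * a
  l11 : ∀ x : G, x ≠ 1 → orderOf x ≠ 11 →
    ¬ 11 ∣ Nat.card ↥(Subgroup.centralizer ({x} : Set G))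
  l5 : ∀ x : G, x * x ≠ 1 → ¬ 5 ∣ orderOf x →
    ¬ 5 ∣ Nat.card ↥(Subgroup.centralizer ({x} : Set G))
  l5i : ∀ x : G, x ≠ 1 → x * x = 1 → 5 ∣ Nat.card ↥(Subgroup.centralizer ({x} : Set G)) →
    ∃ k, Nat.card ↥(Subgroup.centralizer ({x} : Set G)) = 20 * k ∧ k % 5 = 1

end Cfsg.Agent.Helper52
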