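import Mathlib
import Cfsg.Agent.Helper9.OrdTools
import Cfsg.Agent.Helper52.O7920Defs

/-!
# Sylow 3-subgroups containing a given subgroup (order 7920)

Helper lemmas for CALL S0434 (pieces ST and CDX): in a group of order 7920 the Sylow 3-subgroups
are abelian of order 9, so those containing a subgroup `D` lie in the centraliser of `D` and are
conjugate under it.
-/

set_option autoImplicit false

namespace Cfsg.Agent.Helper52

open Subgroup Cfsg.Agent.Helper9.OrdTools

variable {G : Type*} [Group G] [Finite G]

/-- Sylow 3-subgroups have order 9 and centralise themselves -/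
theorem o7920_syl3_ab (hG : Nat.card G = 7920) (R : Sylow 3 G) :
    Nat.card (R : Subgroup G) = 9 ∧
    (R : Subgroup G) ≤ centralizer ((R : Subgroup G) : Set G) := by
  have : Fact (Nat.Prime 3) := ⟨by norm_num⟩
  have hR : Nat.card (R : Subgroup G) = 9 := by
    have := sylow_card 2 880 (hG.trans (by norm_num)) (by norm_num) R
    simpa using this
  refine ⟨hR, ?_⟩
  have hcomm : IsMulCommutative ↥(R : Subgroup G) :=
    IsPGroup.isMulCommutative_of_card_eq_prime_sq (p := 3) (by rw [hR]; norm_num)
  intro x hx
  rw [Subgroup.mem_centralizer_iff]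
  intro y hy
  have := hcomm.is_comm.comm ⟨y, hy⟩ ⟨x, hx⟩
  exact congrArg Subtype.val this

/-- a Sylow 3-subgroup containing `D` lies in the centraliser of `D` -/
theorem o7920_le_centralizer (hG : Nat.card G = 7920) (D : Subgroup G) (S : Sylow 3 G)
    (hDS : D ≤ (S : Subgroup G)) : (S : Subgroup G) ≤ centralizer (D : Set G) :=
  (o7920_syl3_ab hG S).2.trans (Subgroup.centralizer_le hDS)

omit [Finite G] in
/-- membership in a conjugate Sylow subgroup -/
theorem o7920_mem_smul {p : ℕ} (g : G) (P : Sylow p G) (q : G) :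
    q ∈ ((g • P : Sylow p G) : Subgroup G) ↔ g⁻¹ * q * g ∈ (P : Subgroup G) := by
  rw [Sylow.coe_subgroup_smul, Subgroup.mem_pointwise_smul_iff_inv_smul_mem]
  simp [MulAut.smul_def]

/-- two Sylow 3-subgroups containing `D` are conjugate under the centraliser of `D` -/
theorem o7920_conj_cent (hG : Nat.card G = 7920) (D : Subgroup G) (R S : Sylow 3 G)
    (hDR : D ≤ (R : Subgroup G)) (hDS : D ≤ (S : Subgroup G)) :
    ∃ x ∈ centralizer (D : Set G), x • R = S := by
  have : Fact (Nat.Prime 3) := ⟨by norm_num⟩
  have hR := o7920_le_centralizer hG D R hDR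
  have hS := o7920_le_centralizer hG D S hDS
  obtain ⟨n, hn⟩ := MulAction.exists_smul_eq ↥(centralizer (D : Set G))
    (R.subtype hR) (S.subtype hS)
  rw [Sylow.smul_subtype] at hn
  exact ⟨n.1, n.2, Sylow.subtype_injective hn⟩

omit [Finite G] in
/-- a conjugate of a Sylow subgroup containing `D` by an element centralising `D` contains `D` -/
theorem o7920_le_smul {p : ℕ} (D : Subgroup G) (R : Sylow p G) (hDR : D ≤ (R : Subgroup G))
    (x : G) (hx : x ∈ centralizer (D : Set G)) : D ≤ ((x • R : Sylow p G) : Subgroup G) := by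
  intro d hd
  rw [o7920_mem_smul]
  have h1 : d * x = x * d := Subgroup.mem_centralizer_iff.mp hx d hd
  have h2 : x⁻¹ * d * x = d := by rw [mul_assoc, h1, ← mul_assoc, inv_mul_cancel, one_mul]
  rw [h2]
  exact hDR hd

end Cfsg.Agent.Helper52
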