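import Mathlib
import Cfsg.Agent.Helper52.O7920Defs
import Cfsg.Agent.Helper52.T7920Syl

/-!
# CALL S0434, pieces ST and CDX

The centraliser of `D` is transitive on the Sylow 3-subgroups containing `D`; the stabiliser
count; and the count of these Sylow 3-subgroups as the number of Sylow 3-subgroups of the
centraliser.
-/

set_option autoImplicit false

namespace Cfsg.Agent.Helper52

open Subgroup

variable {G : Type*} [Group G] [Finite G]

/-- piece ST -/
theorem o7920_stab {R : Sylow 3 G} {D : Subgroup G} {j : G} (c : O7920Conf G R D j) :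
    4 * Nat.card ↥(Subgroup.centralizer (D : Set G) ⊓
        Subgroup.normalizer ((R : Subgroup G) : Set G)) =
      Nat.card ↥(Subgroup.centralizer (D : Set G)) ∧
    ∀ S : Sylow 3 G, D ≤ (S : Subgroup G) →
      ∃ x ∈ Subgroup.centralizer (D : Set G), ∀ y : G,
        y ∈ (S : Subgroup G) ↔ x⁻¹ * y * x ∈ (R : Subgroup G) := by
  have hG := c.hyp.card
  constructor
  · have key := (MulAction.stabilizer ↥(centralizer (D : Set G)) R).card_mul_index
    rw [MulAction.index_stabilizer, ← Nat.card_coe_set_eq] at key
    have horb : Nat.card (MulAction.orbit ↥(centralizer (D : Set G)) R) = 4 := by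
      rw [← c.four]
      apply Nat.card_congr
      refine Equiv.subtypeEquivRight ?_
      intro S
      constructor
      · rintro ⟨n, rfl⟩
        exact o7920_le_smul D R c.hDR n.1 n.2
      · intro hDS
        obtain ⟨x, hx, hxS⟩ := o7920_conj_cent hG D R S c.hDR hDS
        exact ⟨⟨x, hx⟩, hxS⟩
    have hstab : Nat.card (MulAction.stabilizer ↥(centralizer (D : Set G)) R) =
        Nat.card ↥(centralizer (D : Set G) ⊓ normalizer ((R : Subgroup G) : Set G)) := by
      have h1 : MulAction.stabilizer ↥(centralizer (D : Set G)) R =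
          (normalizer ((R : Subgroup G) : Set G)).subgroupOf (centralizer (D : Set G)) := by
        ext n
        rw [MulAction.mem_stabilizer_iff, Subgroup.mem_subgroupOf]
        exact Sylow.smul_eq_iff_mem_normalizer
      rw [h1, inf_comm, ← Subgroup.inf_subgroupOf_right]
      exact Nat.card_congr (Subgroup.subgroupOfEquivOfLe inf_le_right).toEquiv
    rw [horb, hstab] at key
    omega
  · intro S hDS
    obtain ⟨x, hx, hxS⟩ := o7920_conj_cent hG D R S c.hDR hDS
    refine ⟨x, hx, fun y => ?_⟩
    rw [← hxS]
    exact o7920_mem_smul x R y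

/-- piece CDX -/
theorem o7920_sylow_count (hG : Nat.card G = 7920) (D : Subgroup G) (R : Sylow 3 G)
    (hDR : D ≤ (R : Subgroup G)) :
    Nat.card {S : Sylow 3 G // D ≤ (S : Subgroup G)} =
      Nat.card (Sylow 3 ↥(Subgroup.centralizer (D : Set G))) := by
  have : Fact (Nat.Prime 3) := ⟨by norm_num⟩
  apply Nat.card_congr
  refine Equiv.ofBijective
    (fun S => (S.1.subtype (o7920_le_centralizer hG D S.1 S.2) :
      Sylow 3 ↥(centralizer (D : Set G)))) ⟨?_, ?_⟩
  · intro S S' h
    exact Subtype.ext (Sylow.subtype_injective h)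
  · intro S'
    obtain ⟨n, hn⟩ := MulAction.exists_smul_eq ↥(centralizer (D : Set G))
      (R.subtype (o7920_le_centralizer hG D R hDR)) S'
    rw [Sylow.smul_subtype] at hn
    exact ⟨⟨n • R, o7920_le_smul D R hDR n.1 n.2⟩, hn⟩

end Cfsg.Agent.Helper52
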