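import Mathlib
import Cfsg.Agent.Helper9.OrdTools
import Cfsg.Agent.Helper9.OrdTools2
import Cfsg.Agent.Helper8.SylFix
import Cfsg.Agent.S0985
import Cfsg.Agent.Helper52.O7920Defs
import Cfsg.Agent.Helper52.O7920Defs2
import Cfsg.Agent.Helper52.T7920ST
import Cfsg.Agent.Helper19.T7920NC
import Cfsg.Agent.Helper48.T7920C5b
import Cfsg.Agent.Helper88.T7920PAR
import Cfsg.Agent.Helper10.T7920J1
import Cfsg.Agent.Helper83.T7920CN
import Cfsg.Agent.Helper83.T7920CU
import Cfsg.Agent.Helper52.T7920Mine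
import Cfsg.Agent.Helper10.T7920C2d
import Cfsg.Agent.Helper48.T7920C4c
import Cfsg.Agent.Helper85.T7920N11b
import Cfsg.Agent.Helper83.T7920ND
import Cfsg.Agent.Helper19.T7920CD
import Cfsg.Agent.Helper34.T7920A2a
import Cfsg.Agent.Helper88.T7920J2
import Cfsg.Agent.Helper31.T7920C5a
import Cfsg.Agent.Helper51.T7920A2b
import Cfsg.Agent.Helper85.T7920N5a
import Cfsg.Agent.Helper85.T7920N5b
import Cfsg.Agent.Helper31.T7920K11
import Cfsg.Agent.Helper31.T7920L11
import Cfsg.Agent.Helper31.T7920L5i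
import Cfsg.Agent.Helper83.T7920NRD
import Cfsg.Agent.Helper83.T7920FUS
import Cfsg.Agent.Helper83.T7920C4b
import Cfsg.Agent.Helper48.T7920CSQ
import Cfsg.Agent.Helper31.T7920B1b
import Cfsg.Agent.Helper51.T7920A3b
import Cfsg.Agent.Helper31.T7920CZE
import Cfsg.Agent.Helper51.T7920A3a
import Cfsg.Agent.Helper31.T7920PAR16
import Cfsg.Agent.Helper51.T7920B1a

/-!
# Simple groups of order 7920: the normaliser of a Sylow 3-subgroup has order 144

Assembly of the pieces contributed by the team (see the imports) with the Sylow numerics: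
144 Sylow 11-subgroups (self-centralising), Sylow 5-normalisers of order 20, and 55 or 220
Sylow 3-subgroups; the case 220 is refuted by studying the centraliser of the intersection
`D` (of order 3) of two Sylow 3-subgroups, in three cases.
-/

set_option autoImplicit false

namespace Cfsg.Agent.Helper52

variable {G : Type*} [Group G] [Finite G]

open Cfsg.Agent.Helper9 Cfsg.Agent.Helper9.OrdTools

/-- proper subgroups have index at least 11 -/
theorem o7920_index [IsSimpleGroup G] (hG : Nat.card G = 7920) (H : Subgroup G) (hH : H ≠ ⊤) :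
    11 ≤ H.index := by
  have h := card_dvd_factorial_index H hH
  rw [hG] at h
  by_contra hlt
  push Not at hlt
  have h0 : H.index ≠ 0 := Subgroup.index_ne_zero_of_finite
  interval_cases hi : H.index <;> revert h <;> decide

theorem o7920_arith11 (n : ℕ) (hd : n ∣ 720) (hm : n % 11 = 1) :
    n = 1 ∨ n = 12 ∨ n = 45 ∨ n = 144 := by
  obtain ⟨k, hk⟩ := hd
  by_cases hle : n ≤ 144
  · interval_cases n <;> omega
  · have hk3 : k ≤ 4 := by
      by_contra h
      push Not at h
      have : 145 * 5 ≤ n * k := Nat.mul_le_mul (by omega) (by omega)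
      omega
    interval_cases k <;> omega

theorem o7920_arith5 (n : ℕ) (hd : n ∣ 1584) (hm : n % 5 = 1) :
    n = 1 ∨ n = 6 ∨ n = 11 ∨ n = 16 ∨ n = 36 ∨ n = 66 ∨ n = 176 ∨ n = 396 := by
  obtain ⟨k, hk⟩ := hd
  by_cases hle : n ≤ 396
  · interval_cases n <;> omega
  · have hk3 : k ≤ 3 := by
      by_contra h
      push Not at h
      have : 397 * 4 ≤ n * k := Nat.mul_le_mul (by omega) (by omega)
      omega
    interval_cases k <;> omega

theorem o7920_arith3 (n : ℕ) (hd : n ∣ 880) (hm : n % 3 = 1) :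
    n = 1 ∨ n = 4 ∨ n = 10 ∨ n = 16 ∨ n = 22 ∨ n = 40 ∨ n = 55 ∨ n = 88 ∨ n = 220 ∨
      n = 880 := by
  obtain ⟨k, hk⟩ := hd
  by_cases hle : n ≤ 220
  · interval_cases n <;> omega
  · have hk3 : k ≤ 3 := by
      by_contra h
      push Not at h
      have : 221 * 4 ≤ n * k := Nat.mul_le_mul (by omega) (by omega)
      omega
    interval_cases k <;> omega

open Subgroup in
/-- Sylow 11 numerics: 144 Sylow 11-subgroups, self-centralising, normaliser of order 55 -/
theorem o7920_syl11 [IsSimpleGroup G] (hG : Nat.card G = 7920) (P : Sylow 11 G) :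
    Nat.card ↥(centralizer ((P : Subgroup G) : Set G)) = 11 ∧
    Nat.card ↥(normalizer ((P : Subgroup G) : Set G)) = 55 := by
  have : Fact (Nat.Prime 11) := ⟨by norm_num⟩
  have hP : Nat.card (P : Subgroup G) = 11 := by
    have := sylow_card 1 720 (hG.trans (by norm_num)) (by norm_num) P
    simpa using this
  obtain ⟨hd, hm, hne, hN⟩ := sylow_num P (by rw [hP]; norm_num) (by rw [hP, hG]; norm_num)
  have hidxP : (P : Subgroup G).index = 720 := by
    have := (P : Subgroup G).card_mul_index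
    rw [hP, hG] at this
    omega
  rw [hidxP] at hd
  obtain ⟨e, he, he1, hNe, hdc⟩ := normalizer_centralizer_prime P hP (by rw [hG]; norm_num)
  have he10 : e ≤ 10 := by
    have := Nat.le_of_dvd (by norm_num) he
    omega
  rw [hG] at hN
  obtain ⟨c, hc⟩ := hdc
  rcases o7920_arith11 _ hd hm with h1 | h1 | h1 | h1
  · exact absurd h1 hne
  · exfalso
    have hC := card_centralizer_of_num P hP (by rw [h1])
    rw [h1, hNe, hC] at hN
    omega
  · exact absurd h1 (Cfsg.Agent.Helper85.o7920_n11_ne_45 hG)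
  · rw [h1, hNe, hc] at hN
    rw [hNe, hc]
    interval_cases e <;> omega

open Subgroup in
/-- Sylow 5 numerics: normaliser of order 20, centraliser of order dividing 10 -/
theorem o7920_syl5 [IsSimpleGroup G] (hG : Nat.card G = 7920)
    (hC11 : ∀ P : Sylow 11 G, Nat.card ↥(centralizer ((P : Subgroup G) : Set G)) = 11)
    (hN11 : ∀ P : Sylow 11 G, Nat.card ↥(normalizer ((P : Subgroup G) : Set G)) = 55)
    (Q : Sylow 5 G) :
    Nat.card ↥(normalizer ((Q : Subgroup G) : Set G)) = 20 ∧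
    Nat.card ↥(centralizer ((Q : Subgroup G) : Set G)) ∣ 10 := by
  have : Fact (Nat.Prime 5) := ⟨by norm_num⟩
  have hQ : Nat.card (Q : Subgroup G) = 5 := by
    have := sylow_card 1 1584 (hG.trans (by norm_num)) (by norm_num) Q
    simpa using this
  obtain ⟨hd, hm, hne, hN⟩ := sylow_num Q (by rw [hQ]; norm_num) (by rw [hQ, hG]; norm_num)
  have hidxQ : (Q : Subgroup G).index = 1584 := by
    have := (Q : Subgroup G).card_mul_index
    rw [hQ, hG] at this
    omega
  rw [hidxQ] at hd
  obtain ⟨e, he, he1, hNe, hdc⟩ := normalizer_centralizer_prime Q hQ (by rw [hG]; norm_num)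
  have he4 : e ≤ 4 := by
    have := Nat.le_of_dvd (by norm_num) he
    omega
  have he' : e ∣ 4 := he
  have hle := Cfsg.Agent.Helper85.o7920_norm5_le hG hC11 hN11 Q (Cfsg.Agent.Helper85.o7920_fix5_le hG hC11 hN11 Q)
  rw [hG] at hN
  obtain ⟨c, hc⟩ := hdc
  rcases o7920_arith5 _ hd hm with h1 | h1 | h1 | h1 | h1 | h1 | h1 | h1
  · exact absurd h1 hne
  · rw [h1] at hN; omega
  · rw [h1] at hN; omega
  · rw [h1] at hN; omega
  · rw [h1] at hN; omega
  · rw [h1] at hN; omega
  · exfalso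
    rw [h1, hNe, hc] at hN
    interval_cases e <;> omega
  · rw [h1, hNe, hc] at hN
    rw [hNe, hc]
    interval_cases e
    · have hc2 : c = 2 := by omega
      subst hc2; norm_num
    · omega
    · have hc1 : c = 1 := by omega
      subst hc1; norm_num

open Subgroup in
/-- a Sylow 3-subgroup (of order 9) is abelian -/
theorem o7920_syl3_comm (hG : Nat.card G = 7920) (R : Sylow 3 G) :
    Nat.card (R : Subgroup G) = 9 ∧
    (R : Subgroup G) ≤ centralizer ((R : Subgroup G) : Set G) := by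
  have : Fact (Nat.Prime 3) := ⟨by norm_num⟩
  have hR : Nat.card (R : Subgroup G) = 9 := by
    have := sylow_card 2 880 (hG.trans (by norm_num)) (by norm_num) R
    simpa using this
  refine ⟨hR, ?_⟩
  have hcomm : IsMulCommutative ↥(R : Subgroup G) :=
    IsPGroup.isMulCommutative_of_card_eq_prime_sq (p := 3) (by rw [hR]; norm_num)
  intro x hx
  rw [Subgroup.mem_centralizer_iff]
  intro y hy
  have := hcomm.is_comm.comm ⟨y, hy⟩ ⟨x, hx⟩
  exact congrArg Subtype.val this

open Subgroup in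
/-- the number of Sylow 3-subgroups is 55 or 220 -/
theorem o7920_n3 [IsSimpleGroup G] (hG : Nat.card G = 7920)
    (hC11 : ∀ P : Sylow 11 G, Nat.card ↥(centralizer ((P : Subgroup G) : Set G)) = 11)
    (hC5 : ∀ Q : Sylow 5 G, Nat.card ↥(centralizer ((Q : Subgroup G) : Set G)) ∣ 10) :
    Nat.card (Sylow 3 G) = 55 ∨ Nat.card (Sylow 3 G) = 220 := by
  have : Fact (Nat.Prime 3) := ⟨by norm_num⟩
  obtain ⟨R⟩ : Nonempty (Sylow 3 G) := inferInstance
  obtain ⟨hR, hRC⟩ := o7920_syl3_comm hG R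
  obtain ⟨hd, hm, hne, hN⟩ := sylow_num R (by rw [hR]; norm_num) (by rw [hR, hG]; norm_num)
  have hidxR : (R : Subgroup G).index = 880 := by
    have := (R : Subgroup G).card_mul_index
    rw [hR, hG] at this
    omega
  rw [hidxR] at hd
  have hNidx : (normalizer ((R : Subgroup G) : Set G)).index = Nat.card (Sylow 3 G) :=
    (Sylow.card_eq_index_normalizer R).symm
  have hNtop : normalizer ((R : Subgroup G) : Set G) ≠ ⊤ := by
    intro h
    rw [h, Subgroup.index_top] at hNidx
    exact hne hNidx.symm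
  have h11 := o7920_index hG _ hNtop
  rw [hNidx] at h11
  have hK11 := Cfsg.Agent.Helper31.o7920_no_eleven_three hG hC11 R
  have hK5 := Cfsg.Agent.Helper31.o7920_no_five_three hG hC5 R
  rw [hG] at hN
  rcases o7920_arith3 _ hd hm with h1 | h1 | h1 | h1 | h1 | h1 | h1 | h1 | h1 | h1
  · exact absurd h1 hne
  · omega
  · omega
  · exfalso; apply hK11; rw [h1] at hN; exact ⟨45, by omega⟩
  · exfalso; apply hK5; rw [h1] at hN; exact ⟨72, by omega⟩
  · exfalso; apply hK11; rw [h1] at hN; exact ⟨18, by omega⟩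
  · exact Or.inl h1
  · exfalso; apply hK5; rw [h1] at hN; exact ⟨18, by omega⟩
  · exact Or.inr h1
  · exfalso
    rw [h1] at hN
    have hN9 : Nat.card ↥(normalizer ((R : Subgroup G) : Set G)) = 9 := by omega
    apply not_normalizer_le_centralizer R (by rw [hR]; norm_num) (by rw [hR, hG]; norm_num)
    have hRN : (R : Subgroup G) = normalizer ((R : Subgroup G) : Set G) :=
      Subgroup.eq_of_le_of_card_ge Subgroup.le_normalizer (by rw [hR, hN9])
    intro x hx
    exact hRC (hRN ▸ hx)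

open Subgroup in
/-- two Sylow 3-subgroups meeting in a subgroup of order 3 -/
theorem o7920_pair (hG : Nat.card G = 7920) (h220 : Nat.card (Sylow 3 G) = 220) :
    ∃ Q Q' : Sylow 3 G, Q ≠ Q' ∧
      Nat.card ↥((Q : Subgroup G) ⊓ (Q' : Subgroup G)) = 3 := by
  have : Fact (Nat.Prime 3) := ⟨by norm_num⟩
  have hmod : ¬ Nat.card (Sylow 3 G) ≡ 1 [MOD 3 ^ 2] := by
    rw [h220]; decide
  obtain ⟨Q, Q', hne, hi⟩ := Cfsg.Agent.S0985.result 3 2 hmod
  refine ⟨Q, Q', hne, ?_⟩
  have hQ : Nat.card (Q : Subgroup G) = 9 := (o7920_syl3_comm hG Q).1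
  have hci := ((Q' : Subgroup G).subgroupOf (Q : Subgroup G)).card_mul_index
  rw [hQ] at hci
  have hcard : Nat.card ↥((Q' : Subgroup G).subgroupOf (Q : Subgroup G)) =
      Nat.card ↥((Q : Subgroup G) ⊓ (Q' : Subgroup G)) := by
    rw [inf_comm, ← Subgroup.inf_subgroupOf_right]
    exact Nat.card_congr (Subgroup.subgroupOfEquivOfLe inf_le_right).toEquiv
  rw [hcard] at hci
  have hi1 : ((Q' : Subgroup G).subgroupOf (Q : Subgroup G)).index ≠ 1 := by
    intro h1
    rw [Subgroup.index_eq_one, Subgroup.subgroupOf_eq_top] at h1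
    exact hne (Sylow.ext (Q.3 Q'.2 h1)).symm
  have hi0 : ((Q' : Subgroup G).subgroupOf (Q : Subgroup G)).index ≠ 0 :=
    Subgroup.index_ne_zero_of_finite
  have hi3 : ((Q' : Subgroup G).subgroupOf (Q : Subgroup G)).index ≤ 3 := by simpa using hi
  interval_cases hidx : ((Q' : Subgroup G).subgroupOf (Q : Subgroup G)).index <;> omega

open Subgroup in
/-- a 2-element of the normaliser of a Sylow 3-subgroup that inverts it -/
theorem o7920_invert (h : O7920Hyp G) (R : Sylow 3 G) :
    ∃ j ∈ normalizer ((R : Subgroup G) : Set G), j ^ 4 = 1 ∧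
      ∀ r ∈ (R : Subgroup G), j * r * j⁻¹ = r⁻¹ := by
  obtain ⟨T, hT, hT4, hfix⟩ := Cfsg.Agent.Helper10.o7920_syl2_norm h R
  obtain ⟨j, hj, hjinv⟩ := Cfsg.Agent.Helper88.o7920_invert_of h.card R T hT hT4 hfix
  refine ⟨j, hT hj, ?_, hjinv⟩
  have h1 : (⟨j, hj⟩ : ↥T) ^ 4 = 1 := by rw [← hT4]; exact pow_card_eq_one'
  exact congrArg Subtype.val h1

open Subgroup in
/-- the configuration in the case of 220 Sylow 3-subgroups -/
theorem o7920_conf (h : O7920Hyp G) (h220 : Nat.card (Sylow 3 G) = 220) :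
    ∃ (R : Sylow 3 G) (D : Subgroup G) (j : G), O7920Conf2 G R D j ∧
      (Nat.card ↥(centralizer (D : Set G)) = 36 ∨
        Nat.card ↥(centralizer (D : Set G)) = 72) := by
  have : Fact (Nat.Prime 3) := ⟨by norm_num⟩
  obtain ⟨R, R', hne, hD3⟩ := o7920_pair h.card h220
  obtain ⟨j, hjN, hj4, hjinv⟩ := o7920_invert h R
  have hDR : (R : Subgroup G) ⊓ (R' : Subgroup G) ≤ (R : Subgroup G) := inf_le_left
  have hND := Cfsg.Agent.Helper83.o7920_norm_D ((R : Subgroup G) ⊓ (R' : Subgroup G)) hD3 j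
    (fun d hd => hjinv d (hDR hd))
  have hX := Cfsg.Agent.Helper52.o7920_sylow_count h.card ((R : Subgroup G) ⊓ (R' : Subgroup G)) R hDR
  obtain ⟨hCD, hfour⟩ := Cfsg.Agent.Helper19.o7920_cent_D h.card (Cfsg.Agent.Helper31.o7920_cent_not11 h) (Cfsg.Agent.Helper31.o7920_cent_not5 h) R R' hne
    _ hD3 hDR inf_le_right hND hX
  have c : O7920Conf G R ((R : Subgroup G) ⊓ (R' : Subgroup G)) j :=
    ⟨h, hDR, hD3, hjN, hj4, hjinv, hfour, hND⟩
  obtain ⟨hst, htr⟩ := Cfsg.Agent.Helper52.o7920_stab c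
  refine ⟨R, _, j, ⟨c, ?_, Cfsg.Agent.Helper31.o7920_cent_not11 h, Cfsg.Agent.Helper31.o7920_cent_not5 h, Cfsg.Agent.Helper31.o7920_cent_invol5 h,
    hst, htr⟩, hCD⟩
  intro S
  obtain ⟨hS, hSC⟩ := o7920_syl3_comm h.card S
  exact ⟨hS, fun a ha b hb => ((Subgroup.mem_centralizer_iff.mp (hSC ha)) b hb).symm⟩

open Subgroup in
/-- case A: the centraliser of `D` has order 36 -/
theorem o7920_caseA {R : Sylow 3 G} {D : Subgroup G} {j : G} (c : O7920Conf2 G R D j)
    (h36 : Nat.card ↥(centralizer (D : Set G)) = 36)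
    (hCR : Nat.card ↥(centralizer ((R : Subgroup G) : Set G)) = 9)
    (hle : centralizer (D : Set G) ⊓ normalizer ((R : Subgroup G) : Set G) ≤
      centralizer ((R : Subgroup G) : Set G)) : False := by
  have hG := c.conf.hyp.card
  obtain ⟨V, hV, hV9, hV2, hVn⟩ := Cfsg.Agent.Helper19.o7920_compl hG R D c.conf.hDR (by rw [h36]; norm_num) hle
  have hV4 : Nat.card ↥V = 4 := by rw [h36] at hV9; omega
  have hpow : ∀ v ∈ V, v ^ 4 = 1 := by
    intro v hv
    have h1 : (⟨v, hv⟩ : ↥V) ^ 4 = 1 := by rw [← hV4]; exact pow_card_eq_one'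
    exact congrArg Subtype.val h1
  have hVR : ∀ v ∈ V, v ≠ 1 → ∃ r ∈ (R : Subgroup G), r * v * r⁻¹ ≠ v := by
    intro v hv hv1
    by_contra hcon
    push Not at hcon
    apply hv1
    have hvC : v ∈ centralizer ((R : Subgroup G) : Set G) := by
      rw [Subgroup.mem_centralizer_iff]
      intro r hr
      have h1 := hcon r hr
      calc r * v = r * v * r⁻¹ * r := by group
        _ = v * r := by rw [h1]
    have h9 : (⟨v, hvC⟩ : ↥(centralizer ((R : Subgroup G) : Set G))) ^ 9 = 1 := by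
      rw [← hCR]; exact pow_card_eq_one'
    have h9' : v ^ 9 = 1 := congrArg Subtype.val h9
    have h4 := hpow v hv
    calc v = v ^ 9 * ((v ^ 4) ^ 2)⁻¹ := by group
      _ = 1 := by rw [h9', h4]; simp
  obtain ⟨B, hB8, hVB, hna⟩ := Cfsg.Agent.Helper34.o7920_A_B c hCR V hV hV4 hVn hVR
  obtain ⟨e, he1, h16, heV⟩ := Cfsg.Agent.Helper51.o7920_center8 hG B hB8 hna
  have he := heV V hVB hV4
  have h24 := Cfsg.Agent.Helper51.o7920_A_stab c h36 V hV hV4 hVn hVR e he he1
  exact Cfsg.Agent.Helper51.o7920_A_final c hCR e (hV he) he1 (hpow e he) h16 h24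

open Subgroup in
/-- case B: the centraliser of `D` has order 72 and `R` is self-centralising -/
theorem o7920_caseB {R : Sylow 3 G} {D : Subgroup G} {j : G} (c : O7920Conf2 G R D j)
    (h72 : Nat.card ↥(centralizer (D : Set G)) = 72)
    (hCR : Nat.card ↥(centralizer ((R : Subgroup G) : Set G)) = 9) : False := by
  have : Fact (Nat.Prime 2) := ⟨by norm_num⟩
  have hG := c.conf.hyp.card
  have hsimple : IsSimpleGroup G := c.conf.hyp.simple
  have hNR := Cfsg.Agent.Helper83.o7920_NR_le c h72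
  have hfus := fun g hg => Cfsg.Agent.Helper83.o7920_fusion c hNR g hg
  obtain ⟨x, r2, hx, hr2, hr2D, hxr⟩ := Cfsg.Agent.Helper51.o7920_B_exists c h72 hCR
  have hxc := fun g => Cfsg.Agent.Helper31.o7920_B_noconj c hCR hfus x r2 hx hr2 hr2D hxr g
  have h8 : 2 ^ 3 ∣ Nat.card ↥(centralizer (D : Set G)) := by rw [h72]; norm_num
  obtain ⟨H, hH⟩ := Sylow.exists_subgroup_card_pow_prime 2 h8
  have hM : Nat.card ↥(H.map (centralizer (D : Set G)).subtype) = 8 := by
    rw [Subgroup.card_map_of_injective (Subgroup.subtype_injective _), hH]; norm_num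
  have hMle : H.map (centralizer (D : Set G)).subtype ≤ centralizer (D : Set G) :=
    Subgroup.map_subtype_le H
  exact Cfsg.Agent.Helper88.o7920_parity hG _ hM x hx (fun g hg => hxc g (hMle hg))

open Subgroup in
/-- case C: the centraliser of `D` has order 72 and the centraliser of `R` order 18 -/
theorem o7920_caseC {R : Sylow 3 G} {D : Subgroup G} {j : G} (c : O7920Conf2 G R D j)
    (h72 : Nat.card ↥(centralizer (D : Set G)) = 72)
    (hCR : Nat.card ↥(centralizer ((R : Subgroup G) : Set G)) = 18)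
    (hle : centralizer (D : Set G) ⊓ normalizer ((R : Subgroup G) : Set G) ≤
      centralizer ((R : Subgroup G) : Set G))
    (hCRle : centralizer ((R : Subgroup G) : Set G) ≤ centralizer (D : Set G)) : False := by
  have : Fact (Nat.Prime 2) := ⟨by norm_num⟩
  have hG := c.conf.hyp.card
  have hsimple : IsSimpleGroup G := c.conf.hyp.simple
  have h2dvd : 2 ∣ Nat.card ↥(centralizer ((R : Subgroup G) : Set G)) := by
    rw [hCR]; norm_num
  obtain ⟨⟨z, hzR⟩, hz'⟩ := exists_prime_orderOf_dvd_card' 2 h2dvd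
  have hz : orderOf z = 2 := by rw [← hz']; exact (Subgroup.orderOf_mk z hzR).symm
  have hu := fun x hx hx16 => Cfsg.Agent.Helper83.o7920_C_invol hG R hCR z hz hzR x hx hx16
  have hNRz := Cfsg.Agent.Helper83.o7920_C_NR R z hz hzR hu
  obtain ⟨E, hE, hE9, hE2, hEn⟩ := Cfsg.Agent.Helper19.o7920_compl hG R D c.conf.hDR (by rw [h72]) hle
  have hE8 : Nat.card ↥E = 8 := by rw [h72] at hE9; omega
  have hz2 : z ^ 2 = 1 := by rw [← hz]; exact pow_orderOf_eq_one z
  have hzE : z ∈ E := hE2 z (hCRle hzR) (by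
    calc z ^ 16 = (z ^ 2) ^ 8 := by rw [← pow_mul]
      _ = 1 := by rw [hz2, one_pow])
  have hzc := Cfsg.Agent.Helper31.o7920_C_center c E hE hE8 hEn z hzE hzR hu
  have hND := Cfsg.Agent.Helper52.o7920_C_ND_le c h72 E hE hE8 z hzc hNRz
  have hC144 := Cfsg.Agent.Helper10.o7920_C_card_z c h72 z hz hND hNRz
  have hzC : centralizer ({z} : Set G) = normalizer (D : Set G) :=
    (Subgroup.eq_of_le_of_card_ge hND (by rw [hC144, c.conf.nD, h72])).symm
  have hNR : normalizer ((R : Subgroup G) : Set G) ≤ normalizer (D : Set G) := hzC ▸ hNRz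
  have hfus := fun g hg => Cfsg.Agent.Helper83.o7920_fusion c hNR g hg
  have hzu := fun g hg => Cfsg.Agent.Helper52.o7920_C_unique c hfus z hzC g hg
  have hpowE : ∀ b ∈ E, b ^ 8 = 1 := by
    intro b hb
    have h1 : (⟨b, hb⟩ : ↥E) ^ 8 = 1 := by rw [← hE8]; exact pow_card_eq_one'
    exact congrArg Subtype.val h1
  have hstar : ∀ b ∈ E, b ≠ 1 → b ≠ z → ∀ g : G,
      (∀ d ∈ D, (g * d * g⁻¹) * b = b * (g * d * g⁻¹)) → ∀ d ∈ D, g * d * g⁻¹ ∈ D := by
    intro b hb hb1 hbz g hg
    have h9 := Cfsg.Agent.Helper52.o7920_C_no9 c z hu hzu b (hE hb) (hpowE b hb) hb1 hbz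
    rcases Cfsg.Agent.Helper48.o7920_C_square c E hE hE8 hEn z hz hzE hzR hu hzc b hb hb1 hbz with
      ⟨hbb, hbE⟩ | hbb
    · exact Cfsg.Agent.Helper48.o7920_C_star2 c h72 E hE hE8 b (hE hb) hb1 hbb hbE h9 g hg
    · exact Cfsg.Agent.Helper83.o7920_C_star4 c z hzC b (hE hb) hbb h9 g hg
  have hcent := fun g hyz hzy b hb hby =>
    Cfsg.Agent.Helper31.o7920_C_centE c E z hz hzE hzC hzu hstar g hyz hzy b hb hby
  have hpar := fun T hT => Cfsg.Agent.Helper31.o7920_parity16 hG T hT z hz hC144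
  exact Cfsg.Agent.Helper48.o7920_C_count hG D E hE hE8 z hz hzE hzu hcent hpar

open Subgroup in
/-- the case of 220 Sylow 3-subgroups is impossible -/
theorem o7920_no220 (h : O7920Hyp G) (h220 : Nat.card (Sylow 3 G) = 220) : False := by
  obtain ⟨R, D, j, c, hCD⟩ := o7920_conf h h220
  obtain ⟨hR, hRC⟩ := o7920_syl3_comm h.card R
  have hst := c.stab
  have hCRle : centralizer ((R : Subgroup G) : Set G) ≤ centralizer (D : Set G) :=
    Subgroup.centralizer_le c.conf.hDR
  have hCRle2 : centralizer ((R : Subgroup G) : Set G) ≤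
      centralizer (D : Set G) ⊓ normalizer ((R : Subgroup G) : Set G) :=
    le_inf hCRle (Subgroup.centralizer_le_normalizer _)
  have h9dvd : 9 ∣ Nat.card ↥(centralizer ((R : Subgroup G) : Set G)) := by
    rw [← hR]; exact Subgroup.card_dvd_of_le hRC
  have hdvd := Subgroup.card_dvd_of_le hCRle2
  have hpos : 0 < Nat.card ↥(centralizer ((R : Subgroup G) : Set G)) := Nat.card_pos
  rcases hCD with h36 | h72
  · have h9 : Nat.card ↥(centralizer (D : Set G) ⊓
        normalizer ((R : Subgroup G) : Set G)) = 9 := by rw [h36] at hst; omega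
    have hCR : Nat.card ↥(centralizer ((R : Subgroup G) : Set G)) = 9 := by
      rw [h9] at hdvd
      exact Nat.dvd_antisymm hdvd h9dvd
    have hle : centralizer (D : Set G) ⊓ normalizer ((R : Subgroup G) : Set G) ≤
        centralizer ((R : Subgroup G) : Set G) :=
      le_of_eq (Subgroup.eq_of_le_of_card_ge hCRle2 (by rw [h9, hCR])).symm
    exact o7920_caseA c h36 hCR hle
  · have h18 : Nat.card ↥(centralizer (D : Set G) ⊓
        normalizer ((R : Subgroup G) : Set G)) = 18 := by rw [h72] at hst; omega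
    have hCR : Nat.card ↥(centralizer ((R : Subgroup G) : Set G)) = 9 ∨
        Nat.card ↥(centralizer ((R : Subgroup G) : Set G)) = 18 := by
      rw [h18] at hdvd
      have hle := Nat.le_of_dvd (by norm_num) hdvd
      omega
    rcases hCR with hCR | hCR
    · exact o7920_caseB c h72 hCR
    · have hle : centralizer (D : Set G) ⊓ normalizer ((R : Subgroup G) : Set G) ≤
          centralizer ((R : Subgroup G) : Set G) :=
        le_of_eq (Subgroup.eq_of_le_of_card_ge hCRle2 (by rw [h18, hCR])).symm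
      exact o7920_caseC c h72 hCR hle hCRle

open Subgroup in
/-- in a simple group of order 7920 the normaliser of a Sylow 3-subgroup has order 144 -/
theorem o7920_main [IsSimpleGroup G] (hG : Nat.card G = 7920) (P : Sylow 3 G) :
    Nat.card ↥(normalizer ((P : Subgroup G) : Set G)) = 144 := by
  have : Fact (Nat.Prime 3) := ⟨by norm_num⟩
  have hC11 := fun P => (o7920_syl11 hG P).1
  have hN11 := fun P => (o7920_syl11 hG P).2
  have hN5 := fun Q => (o7920_syl5 hG hC11 hN11 Q).1
  have hC5 := fun Q => (o7920_syl5 hG hC11 hN11 Q).2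
  have hnum : ∀ R : Sylow 3 G,
      Nat.card ↥(normalizer ((R : Subgroup G) : Set G)) * Nat.card (Sylow 3 G) = 7920 := by
    intro R
    have hR := (o7920_syl3_comm hG R).1
    obtain ⟨-, -, -, hN⟩ := sylow_num R (by rw [hR]; norm_num) (by rw [hR, hG]; norm_num)
    rw [hG] at hN
    exact hN
  rcases o7920_n3 hG hC11 hC5 with h55 | h220
  · have hN := hnum P
    rw [h55] at hN
    omega
  · exfalso
    have hN36 : ∀ R : Sylow 3 G,
        Nat.card ↥(normalizer ((R : Subgroup G) : Set G)) = 36 := by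
      intro R
      have hN := hnum R
      rw [h220] at hN
      omega
    exact o7920_no220 ⟨inferInstance, hG, hC11, hN5, hC5, hN36⟩ h220

end Cfsg.Agent.Helper52
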