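import Mathlib
import Cfsg.Agent.Helper9.OrdTools
import Cfsg.Agent.Helper52.T7920Syl
import Cfsg.Agent.Helper52.T7920ST

/-!
# CALL S0435, piece TI1

For an element `d` of a Sylow 3-subgroup `R` of a group of order 7920: the number `F` of Sylow
3-subgroups containing `d` satisfies `F * |C(d) ⊓ N(R)| = |C(d)|` and `F ≡ 1 (mod 3)`.
-/

set_option autoImplicit false

namespace Cfsg.Agent.Helper52

open Subgroup

variable {G : Type*} [Group G] [Finite G]

/-- piece TI1 -/
theorem u7920_F_formula (hG : Nat.card G = 7920) (R : Sylow 3 G) (d : G)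
    (hd : d ∈ (R : Subgroup G)) :
    Nat.card {S : Sylow 3 G // d ∈ (S : Subgroup G)} *
        Nat.card ↥(Subgroup.centralizer ({d} : Set G) ⊓
          Subgroup.normalizer ((R : Subgroup G) : Set G)) =
      Nat.card ↥(Subgroup.centralizer ({d} : Set G)) ∧
    Nat.card {S : Sylow 3 G // d ∈ (S : Subgroup G)} % 3 = 1 := by
  have : Fact (Nat.Prime 3) := ⟨by norm_num⟩
  have hcent : centralizer ({d} : Set G) = centralizer ((zpowers d : Subgroup G) : Set G) :=
    Cfsg.Agent.Helper9.OrdTools.centralizer_singleton_eq rfl
  have hDR : zpowers d ≤ (R : Subgroup G) := (Subgroup.zpowers_le).mpr hd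
  have hF : Nat.card {S : Sylow 3 G // d ∈ (S : Subgroup G)} =
      Nat.card {S : Sylow 3 G // zpowers d ≤ (S : Subgroup G)} :=
    Nat.card_congr (Equiv.subtypeEquivRight fun S => (Subgroup.zpowers_le).symm)
  rw [hF, hcent]
  constructor
  · have key := (MulAction.stabilizer ↥(centralizer ((zpowers d : Subgroup G) : Set G))
      R).card_mul_index
    rw [MulAction.index_stabilizer, ← Nat.card_coe_set_eq] at key
    have horb : Nat.card (MulAction.orbit ↥(centralizer ((zpowers d : Subgroup G) : Set G)) R) =
        Nat.card {S : Sylow 3 G // zpowers d ≤ (S : Subgroup G)} := by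
      apply Nat.card_congr
      refine Equiv.subtypeEquivRight ?_
      intro S
      constructor
      · rintro ⟨n, rfl⟩
        exact o7920_le_smul (zpowers d) R hDR n.1 n.2
      · intro hDS
        obtain ⟨x, hx, hxS⟩ := o7920_conj_cent hG (zpowers d) R S hDR hDS
        exact ⟨⟨x, hx⟩, hxS⟩
    have hstab : Nat.card (MulAction.stabilizer
        ↥(centralizer ((zpowers d : Subgroup G) : Set G)) R) =
        Nat.card ↥(centralizer ((zpowers d : Subgroup G) : Set G) ⊓
          normalizer ((R : Subgroup G) : Set G)) := by
      have h1 : MulAction.stabilizer ↥(centralizer ((zpowers d : Subgroup G) : Set G)) R =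
          (normalizer ((R : Subgroup G) : Set G)).subgroupOf
            (centralizer ((zpowers d : Subgroup G) : Set G)) := by
        ext n
        rw [MulAction.mem_stabilizer_iff, Subgroup.mem_subgroupOf]
        exact Sylow.smul_eq_iff_mem_normalizer
      rw [h1, inf_comm, ← Subgroup.inf_subgroupOf_right]
      exact Nat.card_congr (Subgroup.subgroupOfEquivOfLe inf_le_right).toEquiv
    rw [horb, hstab] at key
    rw [← key, mul_comm]
  · rw [o7920_sylow_count hG (zpowers d) R hDR]
    exact card_sylow_modEq_one 3 ↥(centralizer ((zpowers d : Subgroup G) : Set G))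

end Cfsg.Agent.Helper52
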