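import Mathlib
import Cfsg.Agent.Helper9.OrdTools
import Cfsg.Agent.Helper9.OrdTools2
import Cfsg.Agent.Helper8.SylFix
import Cfsg.Agent.Helper52.U7920Defs
import Cfsg.Agent.Helper52.U7920Basic
import Cfsg.Agent.Helper52.T7920Main
import Cfsg.Agent.Helper48.M11Core
import Cfsg.Agent.Helper52.U7920TI1
import Cfsg.Agent.Helper20.U7920TI3b
import Cfsg.Agent.Helper67.U7920TI2
import Cfsg.Agent.Helper53.U7920TI4
import Cfsg.Agent.Helper66.U7920P2d2
import Cfsg.Agent.Helper70.U7920P2b
import Cfsg.Agent.Helper51.U7920TI3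
import Cfsg.Agent.Helper48.U7920TI5
import Cfsg.Agent.Helper51.U7920TI6a
import Cfsg.Agent.Helper48.U7920P2d1
import Cfsg.Agent.Helper91.U7920P2a
import Cfsg.Agent.Helper37.U7920P2c
import Cfsg.Agent.Helper67.U7920TI6b

/-!
# Simple groups of order 7920: involution centralisers have order 48

Assembly of the pieces contributed by the team (see the imports): distinct Sylow
3-subgroups meet trivially and they are self-centralising; the result then follows from
the lemma `m11_invol_of_c3` of Helper48.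
-/

set_option autoImplicit false

namespace Cfsg.Agent.Helper52

variable {G : Type*} [Group G] [Finite G]

open Cfsg.Agent.Helper9 Cfsg.Agent.Helper9.OrdTools

/-- a nonidentity element of a Sylow 3-subgroup lies in no other Sylow 3-subgroup -/
theorem u7920_TI_elem (h : U7920Hyp G) (R : Sylow 3 G) (d : G) (hd : d ∈ (R : Subgroup G))
    (hd1 : d ≠ 1) : Nat.card {S : Sylow 3 G // d ∈ (S : Subgroup G)} = 1 := by
  have hG := h.card
  have hR9 := (h.syl3 R).1
  have hN := h.n3 R
  have hloc : ∀ e ∈ (R : Subgroup G), e ≠ 1 →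
      Nat.card {S : Sylow 3 G // e ∈ (S : Subgroup G)} = 1 ∨
      (Nat.card {S : Sylow 3 G // e ∈ (S : Subgroup G)} = 4 ∧
        4 ∣ Nat.card {x : G // ∃ n ∈ Subgroup.normalizer ((R : Subgroup G) : Set G),
          x = n * e * n⁻¹}) := by
    intro e he he1
    obtain ⟨hE1, hmod⟩ := Cfsg.Agent.Helper52.u7920_F_formula hG R e he
    obtain ⟨b, hb, hC⟩ := Cfsg.Agent.Helper67.u7920_cent3 h R e he he1
    have horb := Cfsg.Agent.Helper51.u7920_orbit (Subgroup.normalizer ((R : Subgroup G) : Set G)) e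
    have hole := Cfsg.Agent.Helper20.u7920_orbit_le R hR9 (Subgroup.normalizer ((R : Subgroup G) : Set G))
      le_rfl e he he1
    have h9 : 9 ∣ Nat.card ↥(Subgroup.centralizer ({e} : Set G) ⊓
        Subgroup.normalizer ((R : Subgroup G) : Set G)) := by
      rw [← hR9]
      apply Subgroup.card_dvd_of_le
      intro r hr
      exact ⟨Subgroup.mem_centralizer_singleton_iff.mpr ((h.syl3 R).2 r hr e he),
        Subgroup.le_normalizer hr⟩
    rw [hN] at horb
    rw [hC] at hE1
    obtain ⟨m, hm⟩ := h9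
    rw [hm] at hE1 horb
    generalize Nat.card {S : Sylow 3 G // e ∈ (S : Subgroup G)} = F at hE1 hmod ⊢
    generalize Nat.card {x : G // ∃ n ∈ Subgroup.normalizer ((R : Subgroup G) : Set G),
      x = n * e * n⁻¹} = o at horb hole ⊢
    have ho : 1 ≤ o := by
      rcases Nat.eq_zero_or_pos o with h0 | h0
      · rw [h0] at horb; omega
      · exact h0
    have hm16 : m ≤ 16 := by
      by_contra hcon
      push Not at hcon
      have : 1 * (9 * 17) ≤ o * (9 * m) := Nat.mul_le_mul ho (by omega)
      omega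
    have hm1 : 1 ≤ m := by
      rcases Nat.eq_zero_or_pos m with h0 | h0
      · rw [h0] at horb; omega
      · exact h0
    interval_cases b <;> interval_cases m <;> omega
  have hF14 : ∀ e ∈ (R : Subgroup G), e ≠ 1 →
      Nat.card {S : Sylow 3 G // e ∈ (S : Subgroup G)} = 1 ∨
      Nat.card {S : Sylow 3 G // e ∈ (S : Subgroup G)} = 4 :=
    fun e he he1 => (hloc e he he1).imp id And.left
  have hpairs := Cfsg.Agent.Helper53.u7920_pairs R
  rw [hR9, Cfsg.Agent.Helper51.u7920_pairs_count R hR9 h.num3 hF14] at hpairs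
  have h4 := Cfsg.Agent.Helper67.u7920_four_dvd R (fun g d => Cfsg.Agent.Helper48.u7920_F_conj g d) (fun e he hF4 => by
    by_cases he1 : e = 1
    · exfalso
      subst he1
      have h55 : Nat.card {S : Sylow 3 G // (1 : G) ∈ (S : Subgroup G)} = 55 := by
        rw [← h.num3]
        exact Nat.card_congr (Equiv.subtypeUnivEquiv (fun S => one_mem _))
      omega
    · rcases hloc e he he1 with h1 | ⟨-, h4⟩
      · omega
      · exact h4)
  have hk9 : Nat.card {d : G // d ∈ (R : Subgroup G) ∧
      Nat.card {S : Sylow 3 G // d ∈ (S : Subgroup G)} = 4} ≤ 9 := by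
    rw [← hR9]
    exact Nat.card_le_card_of_injective (fun x => (⟨x.1, x.2.1⟩ : ↥(R : Subgroup G)))
      (fun a b hab => Subtype.ext (by
        have h' := congrArg Subtype.val hab
        exact h'))
  rcases hloc d hd hd1 with h1 | ⟨h4', -⟩
  · exact h1
  · exfalso
    have hpos : 0 < Nat.card {d : G // d ∈ (R : Subgroup G) ∧
        Nat.card {S : Sylow 3 G // d ∈ (S : Subgroup G)} = 4} :=
      Nat.card_pos_iff.mpr ⟨⟨⟨d, hd, h4'⟩⟩, inferInstance⟩
    omega

/-- distinct Sylow 3-subgroups meet trivially -/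
theorem u7920_TI (h : U7920Hyp G) (S S' : Sylow 3 G) (hne : S ≠ S') :
    (S : Subgroup G) ⊓ (S' : Subgroup G) = ⊥ := by
  rw [Subgroup.eq_bot_iff_forall]
  intro x hx
  by_contra hx1
  have h1 := u7920_TI_elem h S x hx.1 hx1
  have hsub : Subsingleton {T : Sylow 3 G // x ∈ (T : Subgroup G)} :=
    (Nat.card_eq_one_iff_unique.mp h1).1
  exact hne (congrArg Subtype.val (hsub.elim ⟨S, hx.1⟩ ⟨S', hx.2⟩))

/-- Sylow 3-subgroups are self-centralising -/
theorem u7920_cent_R (h : U7920Hyp G) (R : Sylow 3 G) :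
    Nat.card ↥(Subgroup.centralizer ((R : Subgroup G) : Set G)) = 9 := by
  by_contra hC
  have hTI := fun S S' hne => u7920_TI h S S' hne
  obtain ⟨z, hz, hNR⟩ := Cfsg.Agent.Helper91.u7920_central_invol h R hC
  have h144 := Cfsg.Agent.Helper70.u7920_cz_card h hTI R z hz hNR
  have hzC : Subgroup.centralizer ({z} : Set G) =
      Subgroup.normalizer ((R : Subgroup G) : Set G) :=
    (Subgroup.eq_of_le_of_card_ge hNR (by rw [h144, h.n3 R])).symm
  have hzR : ∀ r ∈ (R : Subgroup G), z * r = r * z := by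
    intro r hr
    exact (Subgroup.mem_centralizer_singleton_iff.mp (hNR (Subgroup.le_normalizer hr))).symm
  have hfix := Cfsg.Agent.Helper37.u7920_fix_z h hTI R z hz hzR
  have hinv := fun S hS hSR => Cfsg.Agent.Helper48.u7920_inverts h hTI R z hz hzC S hS hSR
  exact Cfsg.Agent.Helper66.u7920_conj_count h hTI R z hz h144 hfix hinv

open Subgroup in
/-- the hypothesis bundle holds in every simple group of order 7920 -/
theorem u7920_hyp [IsSimpleGroup G] (hG : Nat.card G = 7920) : U7920Hyp G := by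
  have : Fact (Nat.Prime 3) := ⟨by norm_num⟩
  have hC11 := fun P => (o7920_syl11 hG P).1
  have hN11 := fun P => (o7920_syl11 hG P).2
  have hN5 := fun Q => (o7920_syl5 hG hC11 hN11 Q).1
  have hC5 := fun Q => (o7920_syl5 hG hC11 hN11 Q).2
  have hn3 := fun R => o7920_main hG R
  obtain ⟨R⟩ : Nonempty (Sylow 3 G) := inferInstance
  have h55 : Nat.card (Sylow 3 G) = 55 := by
    have hidx : (normalizer ((R : Subgroup G) : Set G)).index = Nat.card (Sylow 3 G) :=
      (Sylow.card_eq_index_normalizer R).symm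
    have hci := (normalizer ((R : Subgroup G) : Set G)).card_mul_index
    rw [hn3 R, hG, hidx] at hci
    omega
  refine ⟨inferInstance, hG, h55, hn3, ?_, u7920_cent_not11 hG hC11, u7920_cent_not5 hG hC5,
    u7920_cent_invol5 hG hN5 hC5⟩
  intro S
  obtain ⟨hS, hSC⟩ := o7920_syl3_comm hG S
  exact ⟨hS, fun a ha b hb => ((Subgroup.mem_centralizer_iff.mp (hSC ha)) b hb).symm⟩

/-- involution centralisers in a simple group of order 7920 have order 48 -/
theorem u7920_result [IsSimpleGroup G] (hG : Nat.card G = 7920) (x : G) (hx : orderOf x = 2) :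
    Nat.card ↥(Subgroup.centralizer ({x} : Set G)) = 48 :=
  Cfsg.Agent.Helper48.M11Core.m11_invol_of_c3 hG (fun S => u7920_cent_R (u7920_hyp hG) S) x hx

end Cfsg.Agent.Helper52
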