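import Mathlib

set_option autoImplicit false

/-!
Helper library of helper52 (third file): Wielandt's theorem that the join of two subnormal
subgroups of a finite group is subnormal, via minimal normal subgroups.
-/

namespace Cfsg.Agent.Helper52

universe u

/-- `M` is a minimal normal subgroup. -/
def IsMinNormal {G : Type*} [Group G] (M : Subgroup G) : Prop :=
  M.Normal ∧ M ≠ ⊥ ∧ ∀ N : Subgroup G, N.Normal → N ≤ M → N = ⊥ ∨ N = M

theorem exists_isMinNormal (G : Type*) [Group G] [Finite G] [Nontrivial G] :
    ∃ M : Subgroup G, IsMinNormal M := by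
  obtain ⟨M, hM⟩ := exists_minimal_of_wellFoundedLT (fun N : Subgroup G => N.Normal ∧ N ≠ ⊥)
    ⟨⊤, inferInstance, top_ne_bot⟩
  refine ⟨M, hM.1.1, hM.1.2, fun N hN hNM => ?_⟩
  by_cases h : N = ⊥
  · exact Or.inl h
  · exact Or.inr (le_antisymm hNM (hM.2 ⟨hN, h⟩ hNM))

/-- A minimal normal subgroup of a finite group normalizes every subnormal subgroup. -/
theorem minNormal_le_normalizer_aux (n : ℕ) : ∀ (G : Type u) [Group G] [Finite G], Nat.card G = n →
    ∀ (M S : Subgroup G), IsMinNormal M → S.IsSubnormal → M ≤ Subgroup.normalizer (S : Set G) := by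
  induction n using Nat.strong_induction_on with
  | _ n ih =>
  intro G _ _ hn M S hM hS
  by_cases hStop : S = ⊤
  · subst hStop
    intro x _
    exact Subgroup.mem_normalizer_fintype (fun n _ => Subgroup.mem_top _)
  obtain ⟨H, hHn, hSH, hHlt⟩ := hS.exists_normal_and_le_and_lt_top_of_ne hStop
  have hMn : M.Normal := hM.1
  have hinf : (M ⊓ H).Normal := Subgroup.normal_inf_normal M H
  rcases hM.2.2 (M ⊓ H) hinf inf_le_left with h | h
  · intro m hm
    apply Subgroup.mem_normalizer_fintype
    intro s hs
    have hc := Subgroup.commute_of_normal_of_disjoint M H hMn hHn (disjoint_iff.mpr h) m s hm (hSH hs)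
    have h1 : m * s * m⁻¹ = s := by rw [hc.eq]; group
    rw [h1]; exact hs
  · have hMH : M ≤ H := by rw [← h]; exact inf_le_right
    have hcardH : Nat.card H < n := by
      rw [← hn]
      by_contra hcon
      exact hHlt.ne (Subgroup.eq_top_of_le_card H (not_lt.mp hcon))
    obtain ⟨L, hL⟩ := exists_minimal_of_wellFoundedLT
      (fun L : Subgroup G => L ≤ M ∧ L ≠ ⊥ ∧ H ≤ Subgroup.normalizer (L : Set G))
      ⟨M, le_rfl, hM.2.1, Subgroup.le_normalizer_of_normal⟩
    have hLH : L ≤ H := hL.1.1.trans hMH
    have hminL : IsMinNormal (L.subgroupOf H) := by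
      refine ⟨Subgroup.normal_subgroupOf_of_le_normalizer hL.1.2.2, ?_, ?_⟩
      · intro hbot
        rw [Subgroup.subgroupOf_eq_bot] at hbot
        apply hL.1.2.1
        have := hbot.eq_bot
        rwa [inf_eq_left.mpr hLH] at this
      · intro N hN hNL
        by_cases hNbot : N = ⊥
        · exact Or.inl hNbot
        right
        have hN' : N.map H.subtype ≤ L := by
          rintro _ ⟨x, hx, rfl⟩
          exact Subgroup.mem_subgroupOf.mp (hNL hx)
        have hP : N.map H.subtype ≤ M ∧ N.map H.subtype ≠ ⊥ ∧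
            H ≤ Subgroup.normalizer ((N.map H.subtype : Subgroup G) : Set G) := by
          refine ⟨hN'.trans hL.1.1, ?_, ?_⟩
          · intro hb
            apply hNbot
            rw [Subgroup.map_eq_bot_iff_of_injective _ H.subtype_injective] at hb
            exact hb
          · intro h hh
            apply Subgroup.mem_normalizer_fintype
            rintro _ ⟨x, hx, rfl⟩
            exact ⟨⟨h, hh⟩ * x * ⟨h, hh⟩⁻¹, hN.conj_mem x hx ⟨h, hh⟩, rfl⟩
        have hLle : L ≤ N.map H.subtype := hL.2 hP hN'
        apply le_antisymm hNL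
        intro x hx
        obtain ⟨y, hy, hyx⟩ := hLle (Subgroup.mem_subgroupOf.mp hx)
        have : y = x := Subtype.ext hyx
        rw [← this]; exact hy
    have key : ∀ S' : Subgroup G, S'.IsSubnormal → S' ≤ H →
        L ≤ Subgroup.normalizer (S' : Set G) := by
      intro S' hS' hS'H l hl
      have h1 := ih _ hcardH ↥H rfl (L.subgroupOf H) (S'.subgroupOf H) hminL hS'.subgroupOf
      have h2 : (⟨l, hLH hl⟩ : H) ∈ Subgroup.normalizer ((S'.subgroupOf H : Subgroup H) : Set H) :=
        h1 (Subgroup.mem_subgroupOf.mpr hl)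
      apply Subgroup.mem_normalizer_fintype
      intro s hs
      have h3 := (Subgroup.mem_normalizer_iff.mp h2 ⟨s, hS'H hs⟩).mp (Subgroup.mem_subgroupOf.mpr hs)
      exact Subgroup.mem_subgroupOf.mp h3
    have hcl : Subgroup.normalClosure (L : Set G) ≤ Subgroup.normalizer (S : Set G) := by
      unfold Subgroup.normalClosure
      rw [Subgroup.closure_le]
      intro x hx
      rw [Group.mem_conjugatesOfSet_iff] at hx
      obtain ⟨l, hl, hlx⟩ := hx
      obtain ⟨g, rfl⟩ := isConj_iff.mp hlx
      have hS' : (S.comap (MulAut.conj g).toMonoidHom).IsSubnormal := hS.comap _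
      have hS'H : S.comap (MulAut.conj g).toMonoidHom ≤ H := by
        intro y hy
        have h1 : g * y * g⁻¹ ∈ H := hSH hy
        have h2 := hHn.conj_mem _ h1 g⁻¹
        have h3 : g⁻¹ * (g * y * g⁻¹) * g⁻¹⁻¹ = y := by group
        rw [h3] at h2; exact h2
      have h4 := key _ hS' hS'H hl
      apply Subgroup.mem_normalizer_fintype
      intro s hs
      have h5 : g⁻¹ * s * g ∈ S.comap (MulAut.conj g).toMonoidHom := by
        show g * (g⁻¹ * s * g) * g⁻¹ ∈ S
        have : g * (g⁻¹ * s * g) * g⁻¹ = s := by group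
        rw [this]; exact hs
      have h6 := (Subgroup.mem_normalizer_iff.mp h4 _).mp h5
      have h7 : g * (l * (g⁻¹ * s * g) * l⁻¹) * g⁻¹ ∈ S := h6
      have h8 : g * (l * (g⁻¹ * s * g) * l⁻¹) * g⁻¹ = g * l * g⁻¹ * s * (g * l * g⁻¹)⁻¹ := by group
      rw [h8] at h7; exact h7
    have hncl : Subgroup.normalClosure (L : Set G) = M := by
      have h1 : Subgroup.normalClosure (L : Set G) ≤ M := Subgroup.normalClosure_le_normal hL.1.1
      rcases hM.2.2 _ Subgroup.normalClosure_normal h1 with h2 | h2
      · exfalso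
        apply hL.1.2.1
        rw [eq_bot_iff, ← h2]
        exact Subgroup.le_normalClosure
      · exact h2
    rw [← hncl]; exact hcl

/-- Wielandt: the join of two subnormal subgroups of a finite group is subnormal. -/
theorem subnormal_sup_aux (n : ℕ) : ∀ (G : Type u) [Group G] [Finite G], Nat.card G = n →
    ∀ A B : Subgroup G, A.IsSubnormal → B.IsSubnormal → (A ⊔ B).IsSubnormal := by
  induction n using Nat.strong_induction_on with
  | _ n ih =>
  intro G _ _ hn A B hA hB
  rcases subsingleton_or_nontrivial G with hsub | hnt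
  · have : A ⊔ B = ⊤ := by
      rw [eq_top_iff]
      intro x _
      have : x = 1 := Subsingleton.elim _ _
      rw [this]; exact Subgroup.one_mem _
    rw [this]; exact Subgroup.IsSubnormal.top
  · obtain ⟨M, hM⟩ := exists_isMinNormal G
    have hMn := hM.1
    have hMA := minNormal_le_normalizer_aux _ G rfl M A hM hA
    have hMB := minNormal_le_normalizer_aux _ G rfl M B hM hB
    have hcard : Nat.card (G ⧸ M) < n := by
      rw [← hn]
      have h1 := Subgroup.card_eq_card_quotient_mul_card_subgroup M
      have h2 : 1 < Nat.card M := (Subgroup.one_lt_card_iff_ne_bot M).mpr hM.2.1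
      have h3 : 0 < Nat.card (G ⧸ M) := Nat.card_pos
      nlinarith
    have h1 := ih _ hcard (G ⧸ M) rfl (A.map (QuotientGroup.mk' M)) (B.map (QuotientGroup.mk' M))
      hA.quotient hB.quotient
    rw [← Subgroup.map_sup] at h1
    have h2 := h1.comap (QuotientGroup.mk' M)
    rw [Subgroup.comap_map_eq, QuotientGroup.ker_mk'] at h2
    refine Subgroup.IsSubnormal.step _ _ le_sup_left h2 ?_
    rw [Subgroup.normal_subgroupOf_iff_le_normalizer le_sup_left]
    refine sup_le Subgroup.le_normalizer ?_
    intro m hm
    apply Subgroup.mem_normalizer_fintype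
    have hle : A ⊔ B ≤ (A ⊔ B).comap (MulAut.conj m).toMonoidHom := by
      refine sup_le ?_ ?_
      · intro a ha
        exact Subgroup.mem_sup_left ((Subgroup.mem_normalizer_iff.mp (hMA hm) a).mp ha)
      · intro b hb
        exact Subgroup.mem_sup_right ((Subgroup.mem_normalizer_iff.mp (hMB hm) b).mp hb)
    intro x hx
    exact hle hx

/-- Wielandt's join theorem. -/
theorem subnormal_sup {G : Type*} [Group G] [Finite G] (A B : Subgroup G)
    (hA : A.IsSubnormal) (hB : B.IsSubnormal) : (A ⊔ B).IsSubnormal :=
  subnormal_sup_aux _ G rfl A B hA hB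

/-- The join of a family of subnormal subgroups of a finite group is subnormal. -/
theorem subnormal_sSup {G : Type*} [Group G] [Finite G] (T : Set (Subgroup G))
    (hT : ∀ U ∈ T, U.IsSubnormal) : (sSup T).IsSubnormal := by
  have hfin : T.Finite := Set.toFinite T
  induction T, hfin using Set.Finite.induction_on with
  | empty => rw [sSup_empty]; exact Subgroup.IsSubnormal.bot
  | @insert a s ha hs ih =>
    rw [sSup_insert]
    exact subnormal_sup _ _ (hT a (Set.mem_insert _ _))
      (ih (fun U hU => hT U (Set.mem_insert_of_mem _ hU)))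

end Cfsg.Agent.Helper52
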