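import Mathlib
import Cfsg.Prelude.Def_Solvable

set_option autoImplicit false

namespace Cfsg.Agent.Helper52

/-- An endomorphism of a group of prime order `p` whose `p^k`-th iterate is the identity is the
identity. -/
theorem autchain_hom_prime_card {Q : Type*} [Group Q] {p : ℕ} [Fact p.Prime] (hQ : Nat.card Q = p)
    (f : Q →* Q) (k : ℕ) (hf : ∀ q, f^[p ^ k] q = q) (q : Q) : f q = q := by
  have hp : p.Prime := Fact.out
  have : Finite Q := Nat.finite_of_card_ne_zero (by rw [hQ]; exact hp.ne_zero)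
  have : IsCyclic Q := isCyclic_of_prime_card hQ
  obtain ⟨g, hg⟩ := IsCyclic.exists_generator (α := Q)
  obtain ⟨a, ha⟩ : ∃ a : ℤ, g ^ a = f g := Subgroup.mem_zpowers_iff.mp (hg (f g))
  have hiter : ∀ j : ℕ, f^[j] g = g ^ (a ^ j) := by
    intro j
    induction j with
    | zero => simp
    | succ j ih =>
      rw [Function.iterate_succ_apply', ih, map_zpow, ← ha, ← zpow_mul, pow_succ, mul_comm]
  have h1 : g ^ (a ^ (p ^ k)) = g := by rw [← hiter]; exact hf g
  have hord : orderOf g = p := by rw [orderOf_eq_card_of_forall_mem_zpowers hg, hQ]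
  have h2 : g ^ (a ^ (p ^ k) - 1) = 1 := by rw [zpow_sub, h1, zpow_one, mul_inv_cancel]
  have h3 : (p : ℤ) ∣ a ^ (p ^ k) - 1 := by
    have h := orderOf_dvd_iff_zpow_eq_one.mpr h2
    rwa [hord] at h
  have h4 : ((a : ZMod p)) = 1 := by
    have h := (ZMod.intCast_zmod_eq_zero_iff_dvd _ p).mpr h3
    push_cast at h
    rw [ZMod.pow_card_pow] at h
    exact sub_eq_zero.mp h
  have h5 : (p : ℤ) ∣ a - 1 := by
    rw [← ZMod.intCast_zmod_eq_zero_iff_dvd]; push_cast; rw [h4, sub_self]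
  have h6 : g ^ (a - 1) = 1 := by rw [← orderOf_dvd_iff_zpow_eq_one, hord]; exact h5
  have h7 : f g = g := by
    rw [← ha]
    rw [zpow_sub, zpow_one, mul_inv_eq_one] at h6
    exact h6
  obtain ⟨m, rfl⟩ := Subgroup.mem_zpowers_iff.mp (hg q)
  rw [map_zpow, h7]

/-- An automorphism of `p`-power order acts trivially on an invariant section of order `p`. -/
theorem autchain_step {H : Type*} [Group H] {p : ℕ} [Fact p.Prime] (N M : Subgroup H)
    [hN : N.Normal] (hidx : N.relIndex M = p)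
    (α : MulAut H) (hαM : ∀ x, α x ∈ M ↔ x ∈ M) (hαN : ∀ x, α x ∈ N ↔ x ∈ N) (k : ℕ)
    (hk : α ^ (p ^ k) = 1) : ∀ x ∈ M, x⁻¹ * α x ∈ N := by
  let f : M →* M := (α.toMonoidHom.comp M.subtype).codRestrict M (fun x => (hαM x).mpr x.2)
  have hcomap : N.subgroupOf M ≤ (N.subgroupOf M).comap f := by
    intro x hx
    show f x ∈ N.subgroupOf M
    rw [Subgroup.mem_subgroupOf] at hx ⊢
    exact (hαN x).mpr hx
  let fbar : M ⧸ N.subgroupOf M →* M ⧸ N.subgroupOf M :=
    QuotientGroup.map (N.subgroupOf M) (N.subgroupOf M) f hcomap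
  have hcard : Nat.card (M ⧸ N.subgroupOf M) = p := by
    rw [← Subgroup.index_eq_card]; exact hidx
  have hfj : ∀ (j : ℕ) (x : M), ((f^[j] x : M) : H) = (α ^ j) (x : H) := by
    intro j
    induction j with
    | zero => intro x; simp
    | succ j ih =>
      intro x
      rw [Function.iterate_succ_apply', pow_succ', MulAut.mul_apply, ← ih]
      rfl
  have hiter : ∀ (j : ℕ) (x : M), fbar^[j] (QuotientGroup.mk x) = QuotientGroup.mk (f^[j] x) := by
    intro j
    induction j with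
    | zero => intro x; simp
    | succ j ih =>
      intro x
      rw [Function.iterate_succ_apply', ih, Function.iterate_succ_apply']
      rfl
  have hfb : ∀ q : M ⧸ N.subgroupOf M, fbar^[p ^ k] q = q := by
    intro q
    induction q using QuotientGroup.induction_on with
    | H x =>
      rw [hiter]
      congr 1
      apply Subtype.ext
      rw [hfj, hk]
      rfl
  intro x hx
  have h1 := autchain_hom_prime_card hcard fbar k hfb (QuotientGroup.mk ⟨x, hx⟩)
  have h2 : (QuotientGroup.mk (f ⟨x, hx⟩) : M ⧸ N.subgroupOf M) = QuotientGroup.mk ⟨x, hx⟩ := h1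
  rw [QuotientGroup.eq] at h2
  have h3 : (⟨x, hx⟩ : M)⁻¹ * f ⟨x, hx⟩ ∈ N.subgroupOf M := by
    have := (N.subgroupOf M).inv_mem h2
    simpa [mul_assoc] using this
  exact h3

/-- If `β` fixes `N` pointwise and moves each `x ∈ M` inside `x N`, then `β ^ e` fixes `M`
pointwise as soon as `e` kills `N`. -/
theorem autchain_stab_pow {H : Type*} [Group H] (N M : Subgroup H) (β : MulAut H)
    (hN : ∀ n ∈ N, β n = n) (hM : ∀ x ∈ M, x⁻¹ * β x ∈ N) (e : ℕ) (he : ∀ n ∈ N, n ^ e = 1) :
    ∀ x ∈ M, (β ^ e) x = x := by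
  intro x hx
  obtain ⟨n, hn, hβx⟩ : ∃ n, n ∈ N ∧ β x = x * n := ⟨x⁻¹ * β x, hM x hx, by group⟩
  have key : ∀ j : ℕ, (β ^ j) x = x * n ^ j := by
    intro j
    induction j with
    | zero => simp
    | succ j ih =>
      rw [pow_succ', MulAut.mul_apply, ih, map_mul, map_pow, hN n hn, hβx, pow_succ', mul_assoc]
  rw [key, he n hn, mul_one]

/-- Let `H` be a finite `p`-group with a chain `1 = c 0 ≤ c 1 ≤ … ≤ c m = H` of normal subgroups
with all steps of index `p`, and `A` a group of automorphisms of `H` leaving every member of the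
chain invariant. Then `A` has a normal Sylow `p`-subgroup; in the form used for essential
subgroups: if `I` is a normal subgroup of `A` with `O_p(A/I) = 1`, then `p ∤ |A/I|`. -/
theorem autchain_not_dvd {H : Type*} [Group H] [Finite H] {p : ℕ} [Fact p.Prime] (hH : IsPGroup p H)
    (A : Subgroup (MulAut H)) (m : ℕ) (c : ℕ → Subgroup H) (h0 : c 0 = ⊥) (hm : c m = ⊤)
    (hstep : ∀ i < m, (c i).relIndex (c (i + 1)) = p)
    (hnorm : ∀ i, (c i).Normal)
    (hinv : ∀ i, ∀ α ∈ A, ∀ x, α x ∈ c i ↔ x ∈ c i)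
    (I : Subgroup A) [I.Normal] (hcore : Cfsg.pCore p (A ⧸ I) = ⊥) : ¬ p ∣ Nat.card (A ⧸ I) := by
  classical
  have hp : p.Prime := Fact.out
  -- the automorphisms in `A` acting trivially on all factors
  have hmul : ∀ α β : A, (∀ i < m, ∀ x ∈ c (i + 1), x⁻¹ * (α : MulAut H) x ∈ c i) →
      (∀ i < m, ∀ x ∈ c (i + 1), x⁻¹ * (β : MulAut H) x ∈ c i) →
      ∀ i < m, ∀ x ∈ c (i + 1), x⁻¹ * ((α * β : A) : MulAut H) x ∈ c i := by
    intro α β hα hβ i hi x hx
    have h1 := hβ i hi x hx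
    have hβx : (β : MulAut H) x ∈ c (i + 1) := (hinv (i + 1) β β.2 x).mpr hx
    have h2 := hα i hi _ hβx
    have h3 : x⁻¹ * ((α * β : A) : MulAut H) x =
        (x⁻¹ * (β : MulAut H) x) * (((β : MulAut H) x)⁻¹ * (α : MulAut H) ((β : MulAut H) x)) := by
      rw [Subgroup.coe_mul, MulAut.mul_apply]; group
    rw [h3]; exact (c i).mul_mem h1 h2
  have hpow : ∀ (α : A), (∀ i < m, ∀ x ∈ c (i + 1), x⁻¹ * (α : MulAut H) x ∈ c i) →
      ∀ j : ℕ, ∀ i < m, ∀ x ∈ c (i + 1), x⁻¹ * ((α ^ j : A) : MulAut H) x ∈ c i := by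
    intro α hα j
    induction j with
    | zero => intro i _ x _; simp
    | succ j ih => rw [pow_succ]; exact hmul _ _ ih hα
  -- such automorphisms have `p`-power order
  obtain ⟨a, hcardH⟩ := (IsPGroup.iff_card).mp hH
  have hKp : ∀ (α : A), (∀ i < m, ∀ x ∈ c (i + 1), x⁻¹ * (α : MulAut H) x ∈ c i) →
      α ^ (p ^ (a * m)) = 1 := by
    intro α hα
    have hfix : ∀ i ≤ m, ∀ x ∈ c i, ((α ^ ((Nat.card H) ^ i) : A) : MulAut H) x = x := by
      intro i
      induction i with
      | zero =>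
        intro _ x hx
        rw [h0, Subgroup.mem_bot] at hx
        rw [hx, map_one]
      | succ i ih =>
        intro hi x hx
        have h1 := autchain_stab_pow (c i) (c (i + 1)) ((α ^ ((Nat.card H) ^ i) : A) : MulAut H)
          (ih (by omega)) (hpow α hα _ i (by omega)) (Nat.card H) (fun n _ => pow_card_eq_one') x hx
        rw [pow_succ, pow_mul, Subgroup.coe_pow]
        exact h1
    apply Subtype.ext
    apply MulEquiv.ext
    intro x
    have h1 := hfix m le_rfl x (by rw [hm]; trivial)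
    rw [hcardH, ← pow_mul] at h1
    rw [h1]
    rfl
  -- automorphisms of `p`-power order act trivially on all factors
  have hpK : ∀ (α : A) (k : ℕ), α ^ (p ^ k) = 1 →
      ∀ i < m, ∀ x ∈ c (i + 1), x⁻¹ * (α : MulAut H) x ∈ c i := by
    intro α k hk i hi
    have := hnorm i
    refine autchain_step (c i) (c (i + 1)) (hstep i hi) (α : MulAut H)
      (hinv (i + 1) α α.2) (hinv i α α.2) k ?_
    have := congrArg (Subtype.val) hk
    simpa using this
  let K : Subgroup A :=
    { carrier := {α | ∀ i < m, ∀ x ∈ c (i + 1), x⁻¹ * (α : MulAut H) x ∈ c i}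
      one_mem' := by intro i _ x _; simp
      mul_mem' := fun {α β} hα hβ => hmul α β hα hβ
      inv_mem' := by
        intro α hα
        have h1 := hKp α hα
        have h2 : (α⁻¹) ^ (p ^ (a * m)) = 1 := by rw [inv_pow, h1, inv_one]
        exact hpK α⁻¹ _ h2 }
  have hKmem : ∀ α : A, α ∈ K ↔ ∀ i < m, ∀ x ∈ c (i + 1), x⁻¹ * (α : MulAut H) x ∈ c i :=
    fun α => Iff.rfl
  have hKn : K.Normal := by
    constructor
    intro α hα γ
    rw [hKmem]
    refine hpK _ (a * m) ?_
    rw [conj_pow, hKp α hα]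
    group
  have hKpg : IsPGroup p K := by
    intro α
    refine ⟨a * m, ?_⟩
    apply Subtype.ext
    rw [Subgroup.coe_pow, hKp α.1 α.2]
    rfl
  have hKI : K ≤ I := by
    have h1 : K.map (QuotientGroup.mk' I) ≤ Cfsg.pCore p (A ⧸ I) := by
      unfold Cfsg.pCore
      exact le_sSup ⟨hKn.map _ (QuotientGroup.mk'_surjective I), hKpg.map _⟩
    rw [hcore, le_bot_iff, Subgroup.map_eq_bot_iff, QuotientGroup.ker_mk'] at h1
    exact h1
  intro hdvd
  obtain ⟨q, hq⟩ := exists_prime_orderOf_dvd_card' p hdvd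
  obtain ⟨α, rfl⟩ := QuotientGroup.mk_surjective q
  have hn0 : orderOf α ≠ 0 := (orderOf_pos α).ne'
  obtain ⟨e, m', hm', hn⟩ := Nat.exists_eq_pow_mul_and_not_dvd hn0 p hp.ne_one
  have h1 : (α ^ m') ^ (p ^ e) = 1 := by
    rw [← pow_mul, mul_comm, ← hn, pow_orderOf_eq_one]
  have h2 : α ^ m' ∈ K := (hKmem _).mpr (hpK _ e h1)
  have h3 : ((α ^ m' : A) : A ⧸ I) = 1 := (QuotientGroup.eq_one_iff _).mpr (hKI h2)
  rw [QuotientGroup.mk_pow] at h3
  have h4 := orderOf_dvd_of_pow_eq_one h3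
  rw [hq] at h4
  exact hm' h4

end Cfsg.Agent.Helper52
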