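import Mathlib
import Cfsg.Prelude.Def_Solvable
import Cfsg.Agent.Helper52.AutChain

/-!
# Stabilizers of invariant chains, general form (helper52)

`autchainGen_mem`: an automorphism in `A` acting trivially on all factors of an `A`-invariant chain
of the `p`-group `H` lies in every normal subgroup `I` of `A` with `O_p(A/I) = 1`.
`autchainGen_exists`: if `p` divides `|A/I|` there is an element of `p`-power order outside `I`
whose `p`-th power lies in `I`.
-/

set_option autoImplicit false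

namespace Cfsg.Agent.Helper52

theorem autchainGen_mem {H : Type*} [Group H] [Finite H] {p : ℕ} [Fact p.Prime] (hH : IsPGroup p H)
    (A : Subgroup (MulAut H)) (m : ℕ) (c : ℕ → Subgroup H) (h0 : c 0 = ⊥) (hm : c m = ⊤)
    (hinv : ∀ i, ∀ α ∈ A, ∀ x, α x ∈ c i ↔ x ∈ c i)
    (I : Subgroup A) [I.Normal] (hcore : Cfsg.pCore p (A ⧸ I) = ⊥)
    (α₀ : A) (hα₀ : ∀ i < m, ∀ x ∈ c (i + 1), x⁻¹ * (α₀ : MulAut H) x ∈ c i) : α₀ ∈ I := by
  classical
  have hp : p.Prime := Fact.out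
  have hmul : ∀ α β : A, (∀ i < m, ∀ x ∈ c (i + 1), x⁻¹ * (α : MulAut H) x ∈ c i) →
      (∀ i < m, ∀ x ∈ c (i + 1), x⁻¹ * (β : MulAut H) x ∈ c i) →
      ∀ i < m, ∀ x ∈ c (i + 1), x⁻¹ * ((α * β : A) : MulAut H) x ∈ c i := by
    intro α β hα hβ i hi x hx
    have h1 := hβ i hi x hx
    have hβx : (β : MulAut H) x ∈ c (i + 1) := (hinv (i + 1) β β.2 x).mpr hx
    have h2 := hα i hi _ hβx
    have h3 : x⁻¹ * ((α * β : A) : MulAut H) x =
        (x⁻¹ * (β : MulAut H) x) * (((β : MulAut H) x)⁻¹ * (α : MulAut H) ((β : MulAut H) x)) := by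
      rw [Subgroup.coe_mul, MulAut.mul_apply]; group
    rw [h3]; exact (c i).mul_mem h1 h2
  have hpow : ∀ (α : A), (∀ i < m, ∀ x ∈ c (i + 1), x⁻¹ * (α : MulAut H) x ∈ c i) →
      ∀ j : ℕ, ∀ i < m, ∀ x ∈ c (i + 1), x⁻¹ * ((α ^ j : A) : MulAut H) x ∈ c i := by
    intro α hα j
    induction j with
    | zero => intro i _ x _; simp
    | succ j ih => rw [pow_succ]; exact hmul _ _ ih hα
  obtain ⟨a, hcardH⟩ := (IsPGroup.iff_card).mp hH
  have hKp : ∀ (α : A), (∀ i < m, ∀ x ∈ c (i + 1), x⁻¹ * (α : MulAut H) x ∈ c i) →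
      α ^ (p ^ (a * m)) = 1 := by
    intro α hα
    have hfix : ∀ i ≤ m, ∀ x ∈ c i, ((α ^ ((Nat.card H) ^ i) : A) : MulAut H) x = x := by
      intro i
      induction i with
      | zero =>
        intro _ x hx
        rw [h0, Subgroup.mem_bot] at hx
        rw [hx, map_one]
      | succ i ih =>
        intro hi x hx
        have h1 := autchain_stab_pow (c i) (c (i + 1)) ((α ^ ((Nat.card H) ^ i) : A) : MulAut H)
          (ih (by omega)) (hpow α hα _ i (by omega)) (Nat.card H) (fun n _ => pow_card_eq_one') x hx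
        rw [pow_succ, pow_mul, Subgroup.coe_pow]
        exact h1
    apply Subtype.ext
    apply MulEquiv.ext
    intro x
    have h1 := hfix m le_rfl x (by rw [hm]; trivial)
    rw [hcardH, ← pow_mul] at h1
    rw [h1]
    rfl
  let K : Subgroup A :=
    { carrier := {α | ∀ i < m, ∀ x ∈ c (i + 1), x⁻¹ * (α : MulAut H) x ∈ c i}
      one_mem' := by intro i _ x _; simp
      mul_mem' := fun {α β} hα hβ => hmul α β hα hβ
      inv_mem' := by
        intro α hα
        have h1 := hKp α hα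
        have hpos : 0 < p ^ (a * m) := pow_pos hp.pos _
        have h2 : α ^ (p ^ (a * m) - 1) * α = 1 := by
          rw [← pow_succ, Nat.sub_add_cancel hpos, h1]
        have h3 : α⁻¹ = α ^ (p ^ (a * m) - 1) := (eq_inv_of_mul_eq_one_left h2).symm
        rw [h3]
        exact hpow α hα _ }
  have hKmem : ∀ α : A, α ∈ K ↔ ∀ i < m, ∀ x ∈ c (i + 1), x⁻¹ * (α : MulAut H) x ∈ c i :=
    fun α => Iff.rfl
  have hKn : K.Normal := by
    constructor
    intro β hβ γ
    rw [hKmem] at hβ ⊢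
    intro i hi x hx
    have hy : ((γ⁻¹ : A) : MulAut H) x ∈ c (i + 1) := (hinv (i + 1) _ (γ⁻¹).2 x).mpr hx
    have h1 := hβ i hi _ hy
    have h2 := (hinv i _ γ.2 _).mpr h1
    have h3 : x⁻¹ * ((γ * β * γ⁻¹ : A) : MulAut H) x =
        (γ : MulAut H) ((((γ⁻¹ : A) : MulAut H) x)⁻¹ *
          (β : MulAut H) (((γ⁻¹ : A) : MulAut H) x)) := by
      rw [map_mul, map_inv]
      have h4 : (γ : MulAut H) (((γ⁻¹ : A) : MulAut H) x) = x := by
        rw [Subgroup.coe_inv, MulAut.inv_apply, MulEquiv.apply_symm_apply]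
      rw [h4]
      rfl
    rw [h3]
    exact h2
  have hKpg : IsPGroup p K := by
    intro α
    refine ⟨a * m, ?_⟩
    apply Subtype.ext
    rw [Subgroup.coe_pow, hKp α.1 α.2]
    rfl
  have hKI : K ≤ I := by
    have h1 : K.map (QuotientGroup.mk' I) ≤ Cfsg.pCore p (A ⧸ I) := by
      unfold Cfsg.pCore
      exact le_sSup ⟨hKn.map _ (QuotientGroup.mk'_surjective I), hKpg.map _⟩
    rw [hcore, le_bot_iff, Subgroup.map_eq_bot_iff, QuotientGroup.ker_mk'] at h1
    exact h1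
  exact hKI ((hKmem α₀).mpr hα₀)

theorem autchainGen_exists {A : Type*} [Group A] [Finite A] {p : ℕ} [Fact p.Prime]
    (I : Subgroup A) [I.Normal] (hdvd : p ∣ Nat.card (A ⧸ I)) :
    ∃ α : A, α ∉ I ∧ α ^ p ∈ I ∧ ∃ k : ℕ, α ^ (p ^ k) = 1 := by
  have hp : p.Prime := Fact.out
  obtain ⟨q, hq⟩ := exists_prime_orderOf_dvd_card' p hdvd
  obtain ⟨α, rfl⟩ := QuotientGroup.mk_surjective q
  have hn0 : orderOf α ≠ 0 := (orderOf_pos α).ne'
  obtain ⟨e, m', hm', hn⟩ := Nat.exists_eq_pow_mul_and_not_dvd hn0 p hp.ne_one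
  refine ⟨α ^ m', ?_, ?_, e, ?_⟩
  · intro h
    have h3 : ((α ^ m' : A) : A ⧸ I) = 1 := (QuotientGroup.eq_one_iff _).mpr h
    rw [QuotientGroup.mk_pow] at h3
    have h4 := orderOf_dvd_of_pow_eq_one h3
    rw [hq] at h4
    exact hm' h4
  · rw [← QuotientGroup.eq_one_iff, QuotientGroup.mk_pow, QuotientGroup.mk_pow, ← pow_mul,
      mul_comm, pow_mul, ← hq, pow_orderOf_eq_one, one_pow]
  · rw [← pow_mul, mul_comm, ← hn, pow_orderOf_eq_one]

end Cfsg.Agent.Helper52
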