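import Mathlib
import Cfsg.Prelude.Def_Solvable
import Cfsg.Agent.Helper52.AutChain
import Cfsg.Agent.Helper52.AutChainGen
import Cfsg.Agent.Helper47.Coprime
import Cfsg.Agent.S5185

/-!
# Abelian `p`-groups of rank at most two with a non-`p`-closed automorphism group (helper52)

`abRk2_main`: a finite abelian `p`-group `V` with `|V : Φ(V)| ≤ p²` and a group `A` of
automorphisms with `O_p(A) = 1` and `p ∣ |A|` is elementary abelian of order `p²`, or `p ≤ 3` and
`V ≅ C_{p^k} × C_{p^k}`.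
-/

set_option autoImplicit false

namespace Cfsg.Agent.Helper52

theorem abRk2_map_pow_inv {V : Type*} [CommGroup V] (K : Subgroup V)
    (hK : ∀ (α : MulAut V) (x : V), α x ∈ K ↔ x ∈ K) (n : ℕ) (α : MulAut V) (x : V) :
    α x ∈ K.map (powMonoidHom n) ↔ x ∈ K.map (powMonoidHom n) := by
  have key : ∀ (β : MulAut V) (y : V), y ∈ K.map (powMonoidHom n) →
      β y ∈ K.map (powMonoidHom n) := by
    rintro β _ ⟨z, hz, rfl⟩
    refine ⟨β z, (hK β z).mpr hz, ?_⟩
    show (β z) ^ n = β (z ^ n)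
    rw [map_pow]
  constructor
  · intro h
    have := key α⁻¹ _ h
    rwa [MulAut.inv_apply, MulEquiv.symm_apply_apply] at this
  · exact key α x

/-- A characteristic subgroup `M` between `V^p` and `V` with both steps of index dividing `p`
gives a characteristic chain with factors of order dividing `p`. -/
theorem abRk2_chain {V : Type*} [CommGroup V] [Finite V] {p : ℕ} [Fact p.Prime]
    (hV : IsPGroup p V)
    (M : Subgroup V) (hMchar : ∀ (α : MulAut V) (x : V), α x ∈ M ↔ x ∈ M)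
    (h1 : M.index ∣ p) (h2 : ((powMonoidHom p : V →* V).range).relIndex M ∣ p)
    (A : Subgroup (MulAut V)) (I : Subgroup A) [I.Normal]
    (hcore : Cfsg.pCore p (A ⧸ I) = ⊥) : ¬ p ∣ Nat.card (A ⧸ I) := by
  classical
  have hp : p.Prime := Fact.out
  intro hdvd
  obtain ⟨α, hαI, -, k, hk⟩ := autchainGen_exists I hdvd
  apply hαI
  obtain ⟨a, hcard⟩ := (IsPGroup.iff_card).mp hV
  have ha : ∀ x : V, x ^ (p ^ a) = 1 := fun x => by rw [← hcard]; exact pow_card_eq_one'
  have hk' : (α : MulAut V) ^ (p ^ k) = 1 := by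
    have := congrArg Subtype.val hk
    simpa using this
  have hRchar : ∀ (β : MulAut V) (x : V), β x ∈ (powMonoidHom p : V →* V).range ↔
      x ∈ (powMonoidHom p : V →* V).range := by
    intro β x
    have h := abRk2_map_pow_inv (⊤ : Subgroup V) (fun _ _ => by simp) p β x
    rw [← MonoidHom.range_eq_map] at h
    exact h
  have hT1 : ∀ x : V, x⁻¹ * (α : MulAut V) x ∈ M := by
    rcases (Nat.dvd_prime hp).mp h1 with h | h
    · have : M = ⊤ := Subgroup.index_eq_one.mp h
      intro x; rw [this]; trivial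
    · intro x
      have hidx : M.relIndex ⊤ = p := by rw [Subgroup.relIndex_top_right]; exact h
      exact autchain_step M ⊤ hidx (α : MulAut V) (fun _ => by simp) (hMchar _) k hk' x
        (Subgroup.mem_top x)
  have hT2 : ∀ x ∈ M, x⁻¹ * (α : MulAut V) x ∈ (powMonoidHom p : V →* V).range := by
    rcases (Nat.dvd_prime hp).mp h2 with h | h
    · have hle : M ≤ (powMonoidHom p : V →* V).range := Subgroup.relIndex_eq_one.mp h
      intro x hx
      exact Subgroup.mul_mem _ (Subgroup.inv_mem _ (hle hx)) (hle ((hMchar _ x).mpr hx))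
    · exact autchain_step _ M h (α : MulAut V) (hMchar _) (hRchar _) k hk'
  let d : ℕ → Subgroup V := fun n =>
    (if n % 2 = 0 then (⊤ : Subgroup V) else M).map (powMonoidHom (p ^ (n / 2)))
  have hd_even : ∀ j, d (2 * j) = (⊤ : Subgroup V).map (powMonoidHom (p ^ j)) := by
    intro j
    show (if (2 * j) % 2 = 0 then (⊤ : Subgroup V) else M).map
      (powMonoidHom (p ^ ((2 * j) / 2))) = _
    rw [if_pos (by omega), show (2 * j) / 2 = j by omega]
  have hd_odd : ∀ j, d (2 * j + 1) = M.map (powMonoidHom (p ^ j)) := by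
    intro j
    show (if (2 * j + 1) % 2 = 0 then (⊤ : Subgroup V) else M).map
      (powMonoidHom (p ^ ((2 * j + 1) / 2))) = _
    rw [if_neg (by omega), show (2 * j + 1) / 2 = j by omega]
  have hdchar : ∀ n (β : MulAut V) (x : V), β x ∈ d n ↔ x ∈ d n := by
    intro n β x
    show β x ∈ (if n % 2 = 0 then (⊤ : Subgroup V) else M).map _ ↔
      x ∈ (if n % 2 = 0 then (⊤ : Subgroup V) else M).map _
    split_ifs
    · exact abRk2_map_pow_inv ⊤ (fun _ _ => by simp) _ β x
    · exact abRk2_map_pow_inv M hMchar _ β x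
  have hstep : ∀ n, ∀ x ∈ d n, x⁻¹ * (α : MulAut V) x ∈ d (n + 1) := by
    intro n x hx
    obtain ⟨j, rfl | rfl⟩ : ∃ j, n = 2 * j ∨ n = 2 * j + 1 := ⟨n / 2, by omega⟩
    · rw [hd_even] at hx
      rw [hd_odd]
      obtain ⟨y, -, rfl⟩ := hx
      refine ⟨y⁻¹ * (α : MulAut V) y, hT1 y, ?_⟩
      show (y⁻¹ * (α : MulAut V) y) ^ (p ^ j) = (y ^ (p ^ j))⁻¹ * (α : MulAut V) (y ^ (p ^ j))
      rw [mul_pow, inv_pow, map_pow]
    · rw [hd_odd] at hx
      rw [show 2 * j + 1 + 1 = 2 * (j + 1) by ring, hd_even]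
      obtain ⟨y, hy, rfl⟩ := hx
      obtain ⟨z, hz⟩ := hT2 y hy
      refine ⟨z, Subgroup.mem_top z, ?_⟩
      show z ^ (p ^ (j + 1)) = (y ^ (p ^ j))⁻¹ * (α : MulAut V) (y ^ (p ^ j))
      have hz' : z ^ p = y⁻¹ * (α : MulAut V) y := hz
      rw [map_pow, ← inv_pow, ← mul_pow, ← hz', ← pow_mul, pow_succ']
  refine autchainGen_mem hV A (2 * a) (fun i => d (2 * a - i)) ?_ ?_ ?_ I hcore α ?_
  · show d (2 * a - 0) = ⊥
    rw [Nat.sub_zero, hd_even, eq_bot_iff]
    rintro _ ⟨y, -, rfl⟩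
    rw [Subgroup.mem_bot]
    exact ha y
  · show d (2 * a - 2 * a) = ⊤
    rw [Nat.sub_self, show (0 : ℕ) = 2 * 0 by norm_num, hd_even, eq_top_iff]
    intro x _
    exact ⟨x, Subgroup.mem_top x, by simp⟩
  · intro i β _ x
    exact hdchar _ β x
  · intro i hi x hx
    have h := hstep (2 * a - (i + 1)) x hx
    rw [show 2 * a - (i + 1) + 1 = 2 * a - i by omega] at h
    exact h

/-- In a homocyclic group of exponent at least `p²` and rank two, `p ≥ 5`, an automorphism of
order `p` acts trivially on `V / V^p`. -/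
theorem abRk2_key {V : Type*} [CommGroup V] [Finite V] {p : ℕ} [Fact p.Prime] (hp5 : 5 ≤ p)
    (h1 : ∀ x : V, x ^ p = 1 → ∃ y : V, x = y ^ p)
    (h2 : (powMonoidHom p : V →* V).range.index = p ^ 2)
    (α : MulAut V) (hα : α ^ p = 1) (x : V) : ∃ z : V, x⁻¹ * α x = z ^ p := by
  classical
  have hp : p.Prime := Fact.out
  let T : AddMonoid.End (Additive V) := (MulEquiv.toAdditive α).toAddMonoidHom
  have hT : ∀ v : Additive V, T v = Additive.ofMul (α v.toMul) := fun v => rfl
  have hTk : ∀ (k : ℕ) (v : Additive V), (T ^ k) v = Additive.ofMul ((α ^ k) v.toMul) := by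
    intro k
    induction k with
    | zero => intro v; rfl
    | succ k ih =>
      intro v
      rw [pow_succ, AddMonoid.End.coe_mul, Function.comp_apply, ih, hT, pow_succ,
        MulAut.mul_apply]
      rfl
  have hTp : T ^ p = 1 := by
    refine DFunLike.ext _ _ (fun v => ?_)
    rw [hTk, hα]
    rfl
  let N : AddMonoid.End (Additive V) := T - 1
  have hNT : N + 1 = T := sub_add_cancel T 1
  let ν₀ : V →* V := (MonoidHom.id V)⁻¹ * α.toMonoidHom
  have hν₀ : ∀ y : V, ν₀ y = y⁻¹ * α y := fun y => rfl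
  have hNv : ∀ v : Additive V, N v = Additive.ofMul (ν₀ v.toMul) := by
    intro v
    show T v - v = _
    rw [hT, hν₀]
    show Additive.ofMul (α v.toMul) - Additive.ofMul v.toMul =
      Additive.ofMul (v.toMul⁻¹ * α v.toMul)
    rw [← ofMul_div, div_eq_inv_mul]
  let ev : Additive V → AddMonoid.End (Additive V) →+ Additive V := fun v =>
    { toFun := fun g => g v, map_zero' := rfl, map_add' := fun _ _ => rfl }
  have hbin : ∀ v : Additive V,
      v = ∑ m ∈ Finset.range (p + 1), (p.choose m) • (N ^ m) v := by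
    intro v
    have h := Commute.add_pow (Commute.one_right N) p
    rw [hNT, hTp] at h
    have h' := congrArg (ev v) h
    rw [map_sum] at h'
    have hterm : ∀ m ∈ Finset.range (p + 1),
        ev v (N ^ m * 1 ^ (p - m) * ((p.choose m : ℕ) : AddMonoid.End (Additive V))) =
          (p.choose m) • (N ^ m) v := by
      intro m _
      rw [one_pow, mul_one]
      show (N ^ m) (((p.choose m : ℕ) : AddMonoid.End (Additive V)) v) = _
      rw [AddMonoid.End.natCast_apply, map_nsmul]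
    rw [Finset.sum_congr rfl hterm] at h'
    exact h'
  set R : Subgroup V := (powMonoidHom p : V →* V).range with hR
  let P1 : AddSubgroup (Additive V) := (nsmulAddMonoidHom p : Additive V →+ Additive V).range
  let P2 : AddSubgroup (Additive V) :=
    (nsmulAddMonoidHom (p ^ 2) : Additive V →+ Additive V).range
  have hP1R : ∀ v : Additive V, v ∈ P1 ↔ v.toMul ∈ R := by
    intro v
    constructor
    · rintro ⟨w, rfl⟩; exact ⟨w.toMul, rfl⟩
    · rintro ⟨y, hy⟩; exact ⟨Additive.ofMul y, congrArg Additive.ofMul hy⟩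
  have hgP1 : ∀ (g : AddMonoid.End (Additive V)) (v : Additive V), v ∈ P1 → g v ∈ P1 := by
    rintro g _ ⟨w, rfl⟩
    exact ⟨g w, (map_nsmul g p w).symm⟩
  have hgP2 : ∀ (g : AddMonoid.End (Additive V)) (v : Additive V), v ∈ P2 → g v ∈ P2 := by
    rintro g _ ⟨w, rfl⟩
    exact ⟨g w, (map_nsmul g (p ^ 2) w).symm⟩
  -- `N ^ p` maps into `p V`
  have hb0 : ∀ v : Additive V, (N ^ p) v ∈ P1 := by
    intro v
    have h := hbin v
    obtain ⟨q, hq⟩ : ∃ q, p = q + 1 := ⟨p - 1, by have := hp.one_lt; omega⟩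
    have hr : Finset.range p = Finset.range (q + 1) := by rw [hq]
    rw [Finset.sum_range_succ, hr, Finset.sum_range_succ'] at h
    have e0 : (p.choose 0) • (N ^ 0) v = v := by rw [Nat.choose_zero_right, one_nsmul]; rfl
    have ep : (p.choose p) • (N ^ p) v = (N ^ p) v := by rw [Nat.choose_self, one_nsmul]
    rw [e0, ep] at h
    set S := ∑ m ∈ Finset.range q, (p.choose (m + 1)) • (N ^ (m + 1)) v with hSdef
    have hS : S ∈ P1 := by
      apply AddSubgroup.sum_mem
      intro m hm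
      have hm' : m + 1 < p := by rw [Finset.mem_range] at hm; omega
      obtain ⟨c, hc⟩ := hp.dvd_choose_self (Nat.succ_ne_zero m) hm'
      refine ⟨c • (N ^ (m + 1)) v, ?_⟩
      show p • (c • (N ^ (m + 1)) v) = _
      rw [hc, mul_nsmul']
    have h3 : (N ^ p) v = -S := by
      have h4 : (N ^ p) v = (S + v + (N ^ p) v) - v - S := by abel
      rw [h4, ← h]; abel
    rw [h3]; exact P1.neg_mem hS
  -- the subgroup of elements moved inside `V^p`
  let M₁ : Subgroup V := R.comap ν₀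
  have hM₁ : ∀ y : V, y ∈ M₁ ↔ ν₀ y ∈ R := fun y => Iff.rfl
  have hRchar : ∀ (β : MulAut V) (y : V), β y ∈ R ↔ y ∈ R := by
    intro β y
    have h := abRk2_map_pow_inv (⊤ : Subgroup V) (fun _ _ => by simp) p β y
    rw [← MonoidHom.range_eq_map] at h
    exact h
  have hRM₁ : R ≤ M₁ := by
    rintro _ ⟨y, rfl⟩
    rw [hM₁]
    refine ⟨ν₀ y, ?_⟩
    show (ν₀ y) ^ p = ν₀ (y ^ p)
    rw [map_pow]
  have hM₁α : ∀ y : V, α y ∈ M₁ ↔ y ∈ M₁ := by
    intro y
    rw [hM₁, hM₁]
    have : ν₀ (α y) = α (ν₀ y) := by rw [hν₀, hν₀, map_mul, map_inv]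
    rw [this]
    exact hRchar α _
  have hM₁idx : M₁.index ∣ p := by
    have hd : M₁.index ∣ p ^ 2 := by rw [← h2]; exact Subgroup.index_dvd_of_le hRM₁
    obtain ⟨j, hj, hjc⟩ := (Nat.dvd_prime_pow hp).mp hd
    have hj2 : j ≠ 2 := by
      rintro rfl
      have hrel := Subgroup.relIndex_mul_index hRM₁
      rw [hjc, h2] at hrel
      have hrel1 : R.relIndex M₁ = 1 := by
        have : R.relIndex M₁ * p ^ 2 = 1 * p ^ 2 := by rw [hrel, one_mul]
        exact Nat.eq_of_mul_eq_mul_right (pow_pos hp.pos 2) this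
      have hle : M₁ ≤ R := Subgroup.relIndex_eq_one.mp hrel1
      have hdown : ∀ v : Additive V, N v ∈ P1 → v ∈ P1 := by
        intro v hv
        rw [hP1R] at hv ⊢
        rw [hNv] at hv
        exact hle ((hM₁ _).mpr hv)
      have hall : ∀ (k : ℕ) (v : Additive V), (N ^ k) v ∈ P1 → v ∈ P1 := by
        intro k
        induction k with
        | zero => intro v hv; exact hv
        | succ k ih =>
          intro v hv
          rw [pow_succ, AddMonoid.End.coe_mul, Function.comp_apply] at hv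
          exact hdown v (ih _ hv)
      have htop : R = ⊤ := by
        rw [eq_top_iff]
        intro y _
        have := hall p (Additive.ofMul y) (hb0 _)
        rw [hP1R] at this
        exact this
      rw [htop, Subgroup.index_top] at h2
      have := hp.one_lt
      have h3 : 1 < p ^ 2 := Nat.one_lt_pow (by norm_num) this
      omega
    have hj1 : j = 0 ∨ j = 1 := by omega
    rcases hj1 with rfl | rfl
    · rw [hjc]; simp
    · rw [hjc]; simp
  have hstep1 : ∀ y : V, ν₀ y ∈ M₁ := by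
    rcases (Nat.dvd_prime hp).mp hM₁idx with h | h
    · have : M₁ = ⊤ := Subgroup.index_eq_one.mp h
      intro y; rw [this]; trivial
    · intro y
      have hidx : M₁.relIndex ⊤ = p := by rw [Subgroup.relIndex_top_right]; exact h
      exact autchain_step M₁ ⊤ hidx α (fun _ => by simp) hM₁α 1 (by rw [pow_one]; exact hα) y
        (Subgroup.mem_top y)
  have hb : ∀ v : Additive V, N (N v) ∈ P1 := by
    intro v
    rw [hP1R, hNv, hNv]
    exact (hM₁ _).mp (hstep1 _)
  have hc : ∀ (m : ℕ) (v : Additive V), (N ^ (m + 2)) v ∈ P1 := by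
    intro m v
    have : (N ^ (m + 2)) v = (N ^ m) (N (N v)) := by
      rw [pow_add, pow_two]; rfl
    rw [this]
    exact hgP1 _ _ (hb v)
  have he : ∀ (m : ℕ) (v : Additive V), (N ^ (m + 4)) v ∈ P2 := by
    intro m v
    have h4 : (N ^ (m + 4)) v = (N ^ m) (N (N (N (N v)))) := by
      rw [pow_add, show (4 : ℕ) = 2 + 2 by norm_num, pow_add, pow_two]; rfl
    rw [h4]
    apply hgP2
    obtain ⟨w, hw⟩ := hb v
    obtain ⟨w', hw'⟩ := hb w
    have hw2 : p • w = N (N v) := hw
    have hw2' : p • w' = N (N w) := hw'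
    refine ⟨w', ?_⟩
    show (p ^ 2) • w' = N (N (N (N v)))
    rw [← hw2, map_nsmul, map_nsmul, ← hw2', pow_two, mul_nsmul']
  have hfin : ∀ v : Additive V, N v ∈ P1 := by
    intro v
    have h := hbin v
    obtain ⟨q, hq⟩ : ∃ q, p = q + 2 := ⟨p - 2, by omega⟩
    have hr : Finset.range p = Finset.range (q + 1 + 1) := by rw [hq]
    rw [Finset.sum_range_succ, hr, Finset.sum_range_succ', Finset.sum_range_succ'] at h
    have e0 : (p.choose 0) • (N ^ 0) v = v := by rw [Nat.choose_zero_right, one_nsmul]; rfl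
    have e1 : (p.choose (0 + 1)) • (N ^ (0 + 1)) v = p • N v := by
      rw [zero_add, Nat.choose_one_right, pow_one]
    have ep : (p.choose p) • (N ^ p) v = (N ^ p) v := by rw [Nat.choose_self, one_nsmul]
    rw [e0, e1, ep] at h
    set S := ∑ m ∈ Finset.range q, (p.choose (m + 1 + 1)) • (N ^ (m + 1 + 1)) v with hSdef
    have hS : S ∈ P2 := by
      apply AddSubgroup.sum_mem
      intro m hm
      have hm' : m + 1 + 1 < p := by rw [Finset.mem_range] at hm; omega
      obtain ⟨c, hc'⟩ := hp.dvd_choose_self (Nat.succ_ne_zero (m + 1)) hm'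
      obtain ⟨w, hw⟩ := hc m v
      have hw2 : p • w = (N ^ (m + 2)) v := hw
      refine ⟨c • w, ?_⟩
      show (p ^ 2) • (c • w) = (p.choose (m + 1 + 1)) • (N ^ (m + 2)) v
      rw [hc', ← hw2, ← mul_nsmul, ← mul_nsmul]
      congr 1
      ring
    have hNp : (N ^ p) v ∈ P2 := by
      have h4 := he (p - 4) v
      rwa [Nat.sub_add_cancel (by omega : 4 ≤ p)] at h4
    have hpN : p • N v ∈ P2 := by
      have h5 : p • N v = -(S + (N ^ p) v) := by
        have h6 : p • N v = (S + p • N v + v + (N ^ p) v) - v - S - (N ^ p) v := by abel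
        rw [h6, ← h]; abel
      rw [h5]; exact P2.neg_mem (P2.add_mem hS hNp)
    obtain ⟨w, hw⟩ := hpN
    have hw2 : (p ^ 2) • w = p • N v := hw
    have h7 : p • (N v - p • w) = 0 := by
      rw [nsmul_sub, ← hw2, pow_two, mul_nsmul', sub_self]
    have h8 : ((N v - p • w).toMul) ^ p = 1 := congrArg Additive.toMul h7
    obtain ⟨y, hy⟩ := h1 _ h8
    refine ⟨w + Additive.ofMul y, ?_⟩
    show p • (w + Additive.ofMul y) = N v
    rw [nsmul_add]
    have h9 : p • Additive.ofMul y = N v - p • w := by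
      rw [← ofMul_pow, ← hy]; rfl
    rw [h9]; abel
  obtain ⟨u, hu⟩ := hfin (Additive.ofMul x)
  have hu2 : p • u = N (Additive.ofMul x) := hu
  rw [hNv] at hu2
  refine ⟨u.toMul, ?_⟩
  have := congrArg Additive.toMul hu2
  exact this.symm

/-- `z ↦ e ^ z` for `e ^ n = 1`. -/
noncomputable def abRk2_zq {V : Type*} [CommGroup V] (n : ℕ) (e : V) (he : e ^ n = 1) :
    ZMod n →+ Additive V :=
  ZMod.lift n ⟨zmultiplesHom (Additive V) (Additive.ofMul e), by
    show ((n : ℕ) : ℤ) • Additive.ofMul e = 0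
    rw [natCast_zsmul, ← ofMul_pow, he]; rfl⟩

theorem abRk2_zq_intCast {V : Type*} [CommGroup V] (n : ℕ) (e : V) (he : e ^ n = 1) (k : ℤ) :
    (abRk2_zq n e he (k : ZMod n)).toMul = e ^ k := by
  unfold abRk2_zq
  rw [ZMod.lift_coe]
  rfl

/-- A finite abelian group of exponent `p^a` in which `ker (x ↦ x^(p^(a-1))) = V^p` and
`Ω₁(V) = V^(p^(a-1))` has order `p²` is isomorphic to `C_{p^a} × C_{p^a}`. -/
theorem abRk2_iso {V : Type*} [CommGroup V] [Finite V] {p : ℕ} [Fact p.Prime] (a : ℕ)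
    (ha1 : 1 ≤ a) (ha : ∀ x : V, x ^ (p ^ a) = 1)
    (hK1 : ∀ x : V, x ^ (p ^ (a - 1)) = 1 → ∃ y : V, x = y ^ p)
    (hK2 : ∀ x : V, x ^ p = 1 → ∃ y : V, x = y ^ (p ^ (a - 1)))
    (hΩ : Nat.card (powMonoidHom p : V →* V).ker = p ^ 2) :
    Nonempty (V ≃* Multiplicative (ZMod (p ^ a) × ZMod (p ^ a))) := by
  classical
  have hp : p.Prime := Fact.out
  have : NeZero (p ^ a) := ⟨pow_ne_zero _ hp.ne_zero⟩
  have hΩmem : ∀ x : V, x ∈ (powMonoidHom p : V →* V).ker ↔ x ^ p = 1 := fun x => Iff.rfl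
  have hnt : (powMonoidHom p : V →* V).ker ≠ ⊥ := by
    intro h
    rw [h, Subgroup.card_bot] at hΩ
    have := hp.one_lt
    have h2 : 1 < p ^ 2 := Nat.one_lt_pow (by norm_num) this
    omega
  obtain ⟨u', hu'⟩ := (Subgroup.ne_bot_iff_exists_ne_one).mp hnt
  have hu'p : u' ^ p = 1 := by
    apply Subtype.ext
    rw [Subgroup.coe_pow]
    exact (hΩmem _).mp u'.2
  have hex : ∃ w' : (powMonoidHom p : V →* V).ker, w' ∉ Subgroup.zpowers u' := by
    by_contra hcon
    push Not at hcon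
    have htop : Subgroup.zpowers u' = ⊤ := eq_top_iff.mpr (fun w _ => hcon w)
    have hc : Nat.card (Subgroup.zpowers u') = p := by
      rw [Nat.card_zpowers, orderOf_eq_prime hu'p hu']
    rw [htop, Subgroup.card_top, hΩ] at hc
    have := hp.one_lt
    nlinarith
  obtain ⟨w', hw'⟩ := hex
  have hw'p : w' ^ p = 1 := by
    apply Subtype.ext
    rw [Subgroup.coe_pow]
    exact (hΩmem _).mp w'.2
  have hbij := Cfsg.Agent.S5185.theta_bijective hΩ u' w' hu'p hw'p hu' hw'
  obtain ⟨x, hx⟩ := hK2 (u' : V) ((hΩmem _).mp u'.2)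
  obtain ⟨y, hy⟩ := hK2 (w' : V) ((hΩmem _).mp w'.2)
  have hzp : ∀ (g : V) (k : ℤ) (n : ℕ), (g ^ k) ^ n = (g ^ n) ^ k := by
    intro g k n
    rw [← zpow_natCast, ← zpow_mul, mul_comm, zpow_mul, zpow_natCast]
  have hzm : ∀ (g : V) (k : ℤ) (n : ℕ), g ^ ((n : ℤ) * k) = (g ^ k) ^ n := by
    intro g k n
    rw [mul_comm, zpow_mul, zpow_natCast]
  have hind : ∀ m n : ℤ, (x ^ (p ^ (a - 1))) ^ m * (y ^ (p ^ (a - 1))) ^ n = 1 →
      (p : ℤ) ∣ m ∧ (p : ℤ) ∣ n := by
    intro m n h
    rw [← hx, ← hy] at h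
    have h1 : (Cfsg.Agent.S5185.theta u' w' hu'p hw'p ![(m : ZMod p), (n : ZMod p)]).toMul = 1 := by
      rw [Cfsg.Agent.S5185.theta_apply u' w' hu'p hw'p _ m n (by simp) (by simp)]
      apply Subtype.ext
      rw [Subgroup.coe_mul, Subgroup.coe_zpow, Subgroup.coe_zpow]
      exact h
    have h2 : Cfsg.Agent.S5185.theta u' w' hu'p hw'p ![(m : ZMod p), (n : ZMod p)] = 0 := h1
    have h3 : (![(m : ZMod p), (n : ZMod p)] : Fin 2 → ZMod p) = 0 :=
      hbij.1 (by rw [h2, map_zero])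
    have h4 := congrFun h3 0
    have h5 := congrFun h3 1
    simp at h4 h5
    exact ⟨(ZMod.intCast_zmod_eq_zero_iff_dvd m p).mp h4,
      (ZMod.intCast_zmod_eq_zero_iff_dvd n p).mp h5⟩
  have hspan : ∀ z : V, z ^ p = 1 →
      ∃ m n : ℤ, z = (x ^ (p ^ (a - 1))) ^ m * (y ^ (p ^ (a - 1))) ^ n := by
    intro z hz
    obtain ⟨v, hv⟩ := hbij.2 (Additive.ofMul
      (⟨z, (hΩmem z).mpr hz⟩ : (powMonoidHom p : V →* V).ker))
    obtain ⟨m, hm⟩ := ZMod.intCast_surjective (v 0)
    obtain ⟨n, hn⟩ := ZMod.intCast_surjective (v 1)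
    have h1 := Cfsg.Agent.S5185.theta_apply u' w' hu'p hw'p v m n hm.symm hn.symm
    rw [hv] at h1
    refine ⟨m, n, ?_⟩
    have h2 := congrArg Subtype.val h1
    rw [Subgroup.coe_mul, Subgroup.coe_zpow, Subgroup.coe_zpow] at h2
    rw [← hx, ← hy]
    exact h2
  have hdiv : ∀ t ≤ a, ∀ i j : ℤ, x ^ i * y ^ j = 1 →
      ((p ^ t : ℕ) : ℤ) ∣ i ∧ ((p ^ t : ℕ) : ℤ) ∣ j := by
    intro t
    induction t with
    | zero => intro _ i j _; simp
    | succ t ih =>
      intro ht i j hij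
      obtain ⟨⟨i', hi'⟩, ⟨j', hj'⟩⟩ := ih (by omega) i j hij
      have hg : (x ^ i' * y ^ j') ^ (p ^ t) = 1 := by
        rw [mul_pow, ← hzm, ← hzm, ← hi', ← hj']
        exact hij
      have hg2 : (x ^ i' * y ^ j') ^ (p ^ (a - 1)) = 1 := by
        obtain ⟨c, hc⟩ : p ^ t ∣ p ^ (a - 1) := pow_dvd_pow p (by omega)
        rw [hc, pow_mul, hg, one_pow]
      have hg3 : (x ^ (p ^ (a - 1))) ^ i' * (y ^ (p ^ (a - 1))) ^ j' = 1 := by
        rw [← hg2, mul_pow, hzp, hzp]
      obtain ⟨⟨i'', hi''⟩, ⟨j'', hj''⟩⟩ := hind i' j' hg3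
      refine ⟨⟨i'', ?_⟩, ⟨j'', ?_⟩⟩
      · rw [hi', hi'']; push_cast; ring
      · rw [hj', hj'']; push_cast; ring
  have hsur : ∀ k : ℕ, ∀ v : V, ∃ (i j : ℤ) (s : V), v = x ^ i * y ^ j * s ^ (p ^ k) := by
    intro k
    induction k with
    | zero => intro v; exact ⟨0, 0, v, by simp⟩
    | succ k ih =>
      intro v
      obtain ⟨i, j, s, hv⟩ := ih v
      have hs : (s ^ (p ^ (a - 1))) ^ p = 1 := by
        rw [← pow_mul, ← pow_succ, Nat.sub_add_cancel ha1]; exact ha s
      obtain ⟨m, n, hmn⟩ := hspan _ hs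
      have hker : (s * (x ^ m * y ^ n)⁻¹) ^ (p ^ (a - 1)) = 1 := by
        rw [mul_pow, inv_pow, mul_pow, hzp, hzp, ← hmn, mul_inv_cancel]
      obtain ⟨r, hr⟩ := hK1 _ hker
      refine ⟨i + (p ^ k : ℕ) * m, j + (p ^ k : ℕ) * n, r, ?_⟩
      have hs' : s = x ^ m * y ^ n * r ^ p := by
        rw [← hr, mul_comm, inv_mul_cancel_right]
      rw [hv, hs', mul_pow, mul_pow, ← hzm, ← hzm, ← pow_mul, ← pow_succ', zpow_add, zpow_add]
      simp only [mul_comm, mul_assoc, mul_left_comm]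
  let φ : ZMod (p ^ a) × ZMod (p ^ a) →+ Additive V :=
    (abRk2_zq (p ^ a) x (ha x)).coprod (abRk2_zq (p ^ a) y (ha y))
  have hφ : ∀ i j : ℤ, (φ ((i : ZMod (p ^ a)), (j : ZMod (p ^ a)))).toMul = x ^ i * y ^ j := by
    intro i j
    show (abRk2_zq (p ^ a) x (ha x) (i : ZMod (p ^ a)) +
      abRk2_zq (p ^ a) y (ha y) (j : ZMod (p ^ a))).toMul = _
    rw [toMul_add, abRk2_zq_intCast, abRk2_zq_intCast]
  have hinj : Function.Injective φ := by
    rw [injective_iff_map_eq_zero]
    rintro ⟨s, t⟩ hst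
    obtain ⟨i, rfl⟩ := ZMod.intCast_surjective s
    obtain ⟨j, rfl⟩ := ZMod.intCast_surjective t
    have h1 : x ^ i * y ^ j = 1 := by rw [← hφ, hst]; rfl
    obtain ⟨h2, h3⟩ := hdiv a le_rfl i j h1
    rw [Prod.mk_eq_zero]
    exact ⟨(ZMod.intCast_zmod_eq_zero_iff_dvd i (p ^ a)).mpr h2,
      (ZMod.intCast_zmod_eq_zero_iff_dvd j (p ^ a)).mpr h3⟩
  have hsurj : Function.Surjective φ := by
    intro v
    obtain ⟨i, j, s, hv⟩ := hsur a v.toMul
    refine ⟨((i : ZMod (p ^ a)), (j : ZMod (p ^ a))), ?_⟩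
    have h : (φ ((i : ZMod (p ^ a)), (j : ZMod (p ^ a)))).toMul = v.toMul := by
      rw [hφ, hv, ha s, mul_one]
    exact h
  exact ⟨AddEquiv.toMultiplicativeRight (AddEquiv.ofBijective φ ⟨hinj, hsurj⟩).symm⟩

/-- **Main theorem.** -/
theorem abRk2_main {V : Type*} [CommGroup V] [Finite V] {p : ℕ} [Fact p.Prime]
    (hV : IsPGroup p V) (hrk : (frattini V).index ≤ p ^ 2)
    (A : Subgroup (MulAut V)) (I : Subgroup A) [I.Normal] (hI : ∀ α : A, α ∈ I → α = 1)
    (hcore : Cfsg.pCore p (A ⧸ I) = ⊥) (hdvd : p ∣ Nat.card (A ⧸ I)) :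
    ((∀ x : V, x ^ p = 1) ∧ Nat.card V = p ^ 2) ∨
      (p ≤ 3 ∧ ∃ k : ℕ, Nonempty (V ≃* Multiplicative (ZMod (p ^ k) × ZMod (p ^ k)))) := by
  classical
  have hp : p.Prime := Fact.out
  obtain ⟨n, hcard⟩ := (IsPGroup.iff_card).mp hV
  have hex : ∃ a : ℕ, ∀ x : V, x ^ (p ^ a) = 1 :=
    ⟨n, fun x => by rw [← hcard]; exact pow_card_eq_one'⟩
  obtain ⟨a, ha, hamin⟩ : ∃ a : ℕ, (∀ x : V, x ^ (p ^ a) = 1) ∧
      ∀ b < a, ¬ ∀ x : V, x ^ (p ^ b) = 1 :=
    ⟨Nat.find hex, Nat.find_spec hex, fun b hb => Nat.find_min hex hb⟩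
  have ha0 : a ≠ 0 := by
    rintro rfl
    have htriv : ∀ x : V, x = 1 := fun x => by simpa using ha x
    obtain ⟨α, hαI, -, -⟩ := autchainGen_exists I hdvd
    apply hαI
    have : α = 1 := by
      apply Subtype.ext
      apply MulEquiv.ext
      intro x
      rw [htriv ((α : MulAut V) x), htriv (((1 : A) : MulAut V) x)]
    rw [this]; exact I.one_mem
  have ha1 : 1 ≤ a := Nat.one_le_iff_ne_zero.mpr ha0
  have hMmem : ∀ x : V, x ∈ (powMonoidHom (p ^ (a - 1)) : V →* V).ker ↔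
      x ^ (p ^ (a - 1)) = 1 := fun x => Iff.rfl
  have hRmem : ∀ x : V, x ∈ (powMonoidHom p : V →* V).range ↔ ∃ y : V, y ^ p = x :=
    fun x => Iff.rfl
  have hMchar : ∀ (α : MulAut V) (x : V), α x ∈ (powMonoidHom (p ^ (a - 1)) : V →* V).ker ↔
      x ∈ (powMonoidHom (p ^ (a - 1)) : V →* V).ker := by
    intro α x
    rw [hMmem, hMmem, ← map_pow]
    exact map_eq_one_iff α α.injective
  have hRM : (powMonoidHom p : V →* V).range ≤ (powMonoidHom (p ^ (a - 1)) : V →* V).ker := by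
    rintro _ ⟨y, rfl⟩
    rw [hMmem]
    show (y ^ p) ^ (p ^ (a - 1)) = 1
    rw [← pow_mul, ← pow_succ', Nat.sub_add_cancel ha1]
    exact ha y
  have hMtop : (powMonoidHom (p ^ (a - 1)) : V →* V).ker ≠ ⊤ := by
    intro h
    refine hamin (a - 1) (by omega) (fun x => ?_)
    exact (hMmem x).mp (h ▸ Subgroup.mem_top x)
  have hfrat : frattini V ≤ (powMonoidHom p : V →* V).range := by
    have h := Cfsg.Agent.Helper47.frattini_le_ker p
      (QuotientGroup.mk' (powMonoidHom p : V →* V).range) (by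
        intro x
        rw [← map_pow]
        exact (QuotientGroup.eq_one_iff _).mpr ((hRmem _).mpr ⟨x, rfl⟩))
    rwa [QuotientGroup.ker_mk'] at h
  have hRidx_le : (powMonoidHom p : V →* V).range.index ≤ p ^ 2 :=
    (Nat.le_of_dvd (Nat.pos_of_ne_zero Subgroup.index_ne_zero_of_finite)
      (Subgroup.index_dvd_of_le hfrat)).trans hrk
  by_cases hch : (powMonoidHom (p ^ (a - 1)) : V →* V).ker.index ∣ p ∧
      ((powMonoidHom p : V →* V).range).relIndex (powMonoidHom (p ^ (a - 1)) : V →* V).ker ∣ p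
  · exact absurd hdvd (abRk2_chain hV _ hMchar hch.1 hch.2 A I hcore)
  · have hMR := Subgroup.relIndex_mul_index hRM
    have hRdvd : (powMonoidHom p : V →* V).range.index ∣ p ^ n := by
      rw [← hcard]; exact Subgroup.index_dvd_card _
    obtain ⟨t, -, hRt⟩ := (Nat.dvd_prime_pow hp).mp hRdvd
    have ht2 : t ≤ 2 := by
      rw [hRt] at hRidx_le
      exact (Nat.pow_le_pow_iff_right hp.one_lt).mp hRidx_le
    have hMdvd : (powMonoidHom (p ^ (a - 1)) : V →* V).ker.index ∣ p ^ t := by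
      rw [← hRt]; exact Subgroup.index_dvd_of_le hRM
    obtain ⟨i, hit, hMi⟩ := (Nat.dvd_prime_pow hp).mp hMdvd
    have hi0 : i ≠ 0 := by
      rintro rfl
      rw [pow_zero] at hMi
      exact hMtop (Subgroup.index_eq_one.mp hMi)
    have hrel : ((powMonoidHom p : V →* V).range).relIndex
        (powMonoidHom (p ^ (a - 1)) : V →* V).ker = p ^ (t - i) := by
      rw [hMi, hRt] at hMR
      have h : p ^ t = p ^ (t - i) * p ^ i := by rw [← pow_add, Nat.sub_add_cancel hit]
      rw [h] at hMR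
      exact Nat.eq_of_mul_eq_mul_right (pow_pos hp.pos i) hMR
    have hi2 : i = 2 ∧ t = 2 := by
      by_contra hcon
      apply hch
      have hi1 : i = 1 := by omega
      subst hi1
      refine ⟨by rw [hMi, pow_one], ?_⟩
      rw [hrel]
      have : t - 1 = 0 ∨ t - 1 = 1 := by omega
      rcases this with h | h <;> rw [h] <;> simp
    obtain ⟨rfl, rfl⟩ := hi2
    have hMleR : (powMonoidHom (p ^ (a - 1)) : V →* V).ker ≤ (powMonoidHom p : V →* V).range := by
      rw [← Subgroup.relIndex_eq_one, hrel]; simp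
    have hK1 : ∀ x : V, x ^ (p ^ (a - 1)) = 1 → ∃ y : V, x = y ^ p := by
      intro x hx
      obtain ⟨y, hy⟩ := hMleR ((hMmem x).mpr hx)
      exact ⟨y, hy.symm⟩
    have hΩ : Nat.card (powMonoidHom p : V →* V).ker = p ^ 2 := by
      have h1 := Subgroup.card_mul_index (powMonoidHom p : V →* V).ker
      rw [Subgroup.index_ker] at h1
      have h2 := Subgroup.card_mul_index (powMonoidHom p : V →* V).range
      rw [hRt] at h2
      have h3 : Nat.card (powMonoidHom p : V →* V).ker * Nat.card (powMonoidHom p : V →* V).range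
          = p ^ 2 * Nat.card (powMonoidHom p : V →* V).range := by rw [h1, mul_comm, h2]
      exact Nat.eq_of_mul_eq_mul_right Nat.card_pos h3
    have hπr : Nat.card (powMonoidHom (p ^ (a - 1)) : V →* V).range = p ^ 2 := by
      rw [← Subgroup.index_ker]; exact hMi
    have hle : (powMonoidHom (p ^ (a - 1)) : V →* V).range ≤ (powMonoidHom p : V →* V).ker := by
      rintro _ ⟨y, rfl⟩
      show (y ^ (p ^ (a - 1))) ^ p = 1
      rw [← pow_mul, ← pow_succ, Nat.sub_add_cancel ha1]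
      exact ha y
    have heq : (powMonoidHom (p ^ (a - 1)) : V →* V).range = (powMonoidHom p : V →* V).ker :=
      Subgroup.eq_of_le_of_card_ge hle (by rw [hΩ, hπr])
    have hK2 : ∀ x : V, x ^ p = 1 → ∃ y : V, x = y ^ (p ^ (a - 1)) := by
      intro x hx
      have : x ∈ (powMonoidHom (p ^ (a - 1)) : V →* V).range := by rw [heq]; exact hx
      obtain ⟨y, hy⟩ := this
      exact ⟨y, hy.symm⟩
    by_cases ha1' : a = 1
    · left
      subst ha1'
      refine ⟨fun x => by simpa using ha x, ?_⟩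
      have hMbot : (powMonoidHom (p ^ (1 - 1)) : V →* V).ker = ⊥ := by
        rw [eq_bot_iff]
        intro x hx
        have := (hMmem x).mp hx
        simpa using this
      rw [hMbot, Subgroup.index_bot] at hMi
      exact hMi
    · right
      have ha2 : 2 ≤ a := by omega
      refine ⟨?_, a, abRk2_iso a ha1 ha hK1 hK2 hΩ⟩
      by_contra hp3
      have hp5 : 5 ≤ p := by
        have h4 : p ≠ 4 := by
          rintro h; rw [h] at hp; exact absurd hp (by decide)
        omega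
      obtain ⟨α, hαI, hαp, -⟩ := autchainGen_exists I hdvd
      apply hαI
      have hαp1 : (α : MulAut V) ^ p = 1 := by
        have h := hI _ hαp
        have h' := congrArg Subtype.val h
        simpa using h'
      have h1 : ∀ x : V, x ^ p = 1 → ∃ y : V, x = y ^ p := by
        intro x hx
        obtain ⟨y, hy⟩ := hK2 x hx
        refine ⟨y ^ (p ^ (a - 2)), ?_⟩
        rw [hy, ← pow_mul, ← pow_succ, show a - 2 + 1 = a - 1 by omega]
      have hkey := abRk2_key hp5 h1 hRt (α : MulAut V) hαp1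
      refine autchainGen_mem hV A a
        (fun j => (⊤ : Subgroup V).map (powMonoidHom (p ^ (a - j)))) ?_ ?_ ?_ I hcore α ?_
      · show (⊤ : Subgroup V).map (powMonoidHom (p ^ (a - 0))) = ⊥
        rw [Nat.sub_zero, eq_bot_iff]
        rintro _ ⟨y, -, rfl⟩
        rw [Subgroup.mem_bot]
        exact ha y
      · show (⊤ : Subgroup V).map (powMonoidHom (p ^ (a - a))) = ⊤
        rw [Nat.sub_self, eq_top_iff]
        intro x _
        exact ⟨x, Subgroup.mem_top x, by simp⟩
      · intro j β _ x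
        exact abRk2_map_pow_inv ⊤ (fun _ _ => by simp) _ β x
      · intro j hj x hx
        obtain ⟨y, -, rfl⟩ := hx
        obtain ⟨z, hz⟩ := hkey y
        refine ⟨z, Subgroup.mem_top z, ?_⟩
        show z ^ (p ^ (a - j)) =
          (y ^ (p ^ (a - (j + 1))))⁻¹ * (α : MulAut V) (y ^ (p ^ (a - (j + 1))))
        rw [map_pow, ← inv_pow, ← mul_pow, hz, ← pow_mul, ← pow_succ',
          show a - (j + 1) + 1 = a - j by omega]

end Cfsg.Agent.Helper52
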