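import Mathlib
import Cfsg.Prelude.Def_OddOrderLocal

/-!
# CALL S1357 (helper2), piece TI0: the TI property reduces to elements of prime order.
-/

set_option autoImplicit false
set_option linter.unusedSectionVars false

namespace Cfsg.Agent.Helper52

open Cfsg Subgroup

universe u

variable {G : Type u} [Group G] [Finite G]

theorem bg15c_ti_of_prime {M F : Subgroup G} (hMF : M ≤ normalizer (F : Set G))
    (h : ∀ g : G, g ∉ M → ∀ x ∈ F, (orderOf x).Prime → g * x * g⁻¹ ∈ F → False) :
    IsTISubset (F : Set G) := by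
  intro g hg x hx hgx
  by_contra hx1
  have hgM : g ∉ M := fun hgM => hg (hMF hgM)
  have ho : orderOf x ≠ 1 := fun h1 => hx1 (orderOf_eq_one_iff.mp h1)
  obtain ⟨t, ht, htd⟩ := Nat.exists_prime_and_dvd ho
  have ho0 : orderOf x ≠ 0 := (orderOf_pos x).ne'
  have hy : orderOf (x ^ (orderOf x / t)) = t := orderOf_pow_orderOf_div ho0 htd
  refine h g hgM (x ^ (orderOf x / t)) (F.pow_mem hx _) (by rw [hy]; exact ht) ?_
  rw [← conj_pow]
  exact F.pow_mem hgx _

end Cfsg.Agent.Helper52
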