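import Mathlib

/-!
# CALL S1435 (helper23), piece COMMK: `[Q, K] ≤ Q` and `K` normalizes `[Q, K]` when `K`
normalizes `Q`.
-/

set_option autoImplicit false
set_option linter.unusedSectionVars false

namespace Cfsg.Agent.Helper52

open Subgroup

open scoped commutatorElement

universe u

variable {G : Type u} [Group G] [Finite G] {M K U Mstar H : Subgroup G}

theorem bg65_comm_basic {Q K : Subgroup G} (hKQ : K ≤ normalizer (Q : Set G)) :
    ⁅Q, K⁆ ≤ Q ∧ K ≤ normalizer ((⁅Q, K⁆ : Subgroup G) : Set G) := by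
  constructor
  · rw [Subgroup.commutator_le]
    intro q hq k hk
    have h1 : k * q⁻¹ * k⁻¹ ∈ Q := le_normalizer_iff.1 hKQ k hk q⁻¹ (inv_mem hq)
    have e : ⁅q, k⁆ = q * (k * q⁻¹ * k⁻¹) := by
      rw [commutatorElement_def]
      group
    rw [e]
    exact mul_mem hq h1
  · rw [Subgroup.commutator_def, le_normalizer_closure_iff]
    rintro k hk g ⟨a, ha, b, hb, rfl⟩
    apply Subgroup.subset_closure
    refine ⟨k * a * k⁻¹, le_normalizer_iff.1 hKQ k hk a ha, k * b * k⁻¹,
      mul_mem (mul_mem hk hb) (inv_mem hk), ?_⟩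
    rw [commutatorElement_def, commutatorElement_def]
    group

end Cfsg.Agent.Helper52
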