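import Mathlib

/-!
# CALL S1435 (helper23), piece DNORM: `E` normalizes `[E, E]`.
-/

set_option autoImplicit false
set_option linter.unusedSectionVars false

namespace Cfsg.Agent.Helper52

open Subgroup

open scoped commutatorElement

universe u

variable {G : Type u} [Group G] [Finite G] {M K U Mstar H : Subgroup G}

theorem bg65_comm_norm (E : Subgroup G) : E ≤ normalizer ((⁅E, E⁆ : Subgroup G) : Set G) := by
  rw [Subgroup.commutator_def, le_normalizer_closure_iff]
  rintro k hk g ⟨a, ha, b, hb, rfl⟩
  apply Subgroup.subset_closure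
  refine ⟨k * a * k⁻¹, mul_mem (mul_mem hk ha) (inv_mem hk), k * b * k⁻¹,
    mul_mem (mul_mem hk hb) (inv_mem hk), ?_⟩
  rw [commutatorElement_def, commutatorElement_def]
  group

end Cfsg.Agent.Helper52
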