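import Mathlib

set_option autoImplicit false

/-!
# Commuting graphs and block families: the abstract half of S3412 (helper52)

`F : H ≃ M` is a bijection of groups with `F 1 = 1` preserving the commuting relation
(a commuting-graph isomorphism extended by `1 ↦ 1`).  A *block* (`CglBlock n c`) is a set of `n`
pairwise commuting non-identity elements whose centralizers have order `c`; blocks are visible in
the commuting graph.  If the blocks of `M` form a family `A : ι → Set M` such that

* every element of a block lies in a second block meeting the first in at most two elements,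
* no non-identity element of `M` commutes with all elements of all blocks,
* every non-identity class of `M` is larger than a Sylow 2-subgroup,
* the permutations of `ι` preserving the relation "the blocks meet" number at most `2 * |M|`,
* `M` has no subgroup of index 2,

then `H ≃* M` (`cgl_iso`): `H` and `M` both act faithfully on `ι` by conjugation of blocks, and
their images in the group of relation-preserving permutations coincide.
-/

namespace Cfsg.Agent.Helper52

open Subgroup

/-- A block: `n` pairwise commuting non-identity elements with centralizers of order `c`. -/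
def CglBlock {K : Type*} [Group K] (n c : ℕ) (S : Set K) : Prop :=
  S.ncard = n ∧ (∀ s ∈ S, s ≠ 1 ∧ Nat.card ↥(centralizer ({s} : Set K)) = c) ∧
    ∀ s ∈ S, ∀ t ∈ S, s * t = t * s

theorem cgl_mulEquiv_comm {K M : Type*} [Group K] [Group M] (e : K ≃* M) (x y : K) :
    x * y = y * x ↔ e x * e y = e y * e x := by
  rw [← map_mul, ← map_mul, e.injective.eq_iff]

/-- a commuting-preserving bijection preserves the orders of centralizers -/
theorem cgl_card_centralizer {K M : Type*} [Group K] [Group M] (F : K ≃ M)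
    (hF : ∀ x y : K, x * y = y * x ↔ F x * F y = F y * F x) (x : K) :
    Nat.card ↥(centralizer ({x} : Set K)) = Nat.card ↥(centralizer ({F x} : Set M)) := by
  refine Nat.card_congr (F.subtypeEquiv fun y => ?_)
  rw [mem_centralizer_singleton_iff, mem_centralizer_singleton_iff]
  exact hF y x

/-- blocks correspond under a commuting-preserving bijection -/
theorem cgl_block_image {K M : Type*} [Group K] [Group M] (F : K ≃ M) (hF1 : F 1 = 1)
    (hF : ∀ x y : K, x * y = y * x ↔ F x * F y = F y * F x) (n c : ℕ) (S : Set K) :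
    CglBlock n c (F '' S) ↔ CglBlock n c S := by
  unfold CglBlock
  rw [Set.ncard_image_of_injective S F.injective]
  refine and_congr Iff.rfl (and_congr ?_ ?_)
  · constructor
    · intro h s hs
      obtain ⟨h1, h2⟩ := h (F s) ⟨s, hs, rfl⟩
      refine ⟨fun hs1 => h1 (by rw [hs1, hF1]), ?_⟩
      rw [cgl_card_centralizer F hF s]; exact h2
    · rintro h _ ⟨s, hs, rfl⟩
      obtain ⟨h1, h2⟩ := h s hs
      refine ⟨fun hs1 => h1 (F.injective (by rw [hs1, hF1])), ?_⟩
      rw [← cgl_card_centralizer F hF s]; exact h2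
  · constructor
    · intro h s hs t ht
      exact (hF s t).mpr (h (F s) ⟨s, hs, rfl⟩ (F t) ⟨t, ht, rfl⟩)
    · rintro h _ ⟨s, hs, rfl⟩ _ ⟨t, ht, rfl⟩
      exact (hF s t).mp (h s hs t ht)

/-- a self-map of a set with at most two elements that is injective squares to the identity -/
theorem cgl_two_set {K : Type*} (S : Set K) (hS : S.Finite) (h2 : S.ncard ≤ 2) (g : K → K)
    (hg : Function.Injective g) (hgS : ∀ y ∈ S, g y ∈ S) (x : K) (hx : x ∈ S) : g (g x) = x := by
  by_cases h : g x = x
  · rw [h, h]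
  · have hy : g x ∈ S := hgS x hx
    have hall : ∀ z ∈ S, z = x ∨ z = g x := by
      intro z hz
      by_contra hne
      push Not at hne
      have hsub : ({x, g x, z} : Set K) ⊆ S := by
        intro w hw
        rcases hw with rfl | rfl | rfl
        · exact hx
        · exact hy
        · exact hz
      have h3 : ({x, g x, z} : Set K).ncard = 3 := by
        rw [Set.ncard_eq_three]
        exact ⟨x, g x, z, fun e => h e.symm, fun e => hne.1 e.symm, fun e => hne.2 e.symm, rfl⟩
      have := Set.ncard_le_ncard hsub hS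
      omega
    rcases hall (g (g x)) (hgS _ hy) with h1 | h1
    · exact h1
    · exact absurd (hg h1) h

section action

variable {K M : Type*} [Group K] [Group M] (F : K ≃ M) (hF1 : F 1 = 1)
  (hF : ∀ x y : K, x * y = y * x ↔ F x * F y = F y * F x)
  {ι : Type*} (A : ι → Set M) (n c : ℕ)
  (hA1 : ∀ i, CglBlock n c (A i)) (hA2 : ∀ S : Set M, CglBlock n c S → ∃ i, A i = S)
  (hAinj : Function.Injective A)

include hF1 hF hA1 hA2 in
/-- conjugation by `k` carries the block `i` to a block -/
theorem cgl_conj_block (k : K) (i : ι) :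
    ∃ j, ∀ x : K, F x ∈ A j ↔ F (k⁻¹ * x * k) ∈ A i := by
  have hb0 : CglBlock n c (F ⁻¹' A i) := by
    rw [← cgl_block_image F hF1 hF, Equiv.image_preimage]
    exact hA1 i
  have hb1 : CglBlock n c ((MulAut.conj k).toEquiv '' (F ⁻¹' A i)) := by
    rw [cgl_block_image (MulAut.conj k).toEquiv (by simp) (fun x y =>
      cgl_mulEquiv_comm (MulAut.conj k) x y)]
    exact hb0
  have hb2 : CglBlock n c (F '' ((MulAut.conj k).toEquiv '' (F ⁻¹' A i))) := by
    rw [cgl_block_image F hF1 hF]
    exact hb1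
  obtain ⟨j, hj⟩ := hA2 _ hb2
  refine ⟨j, fun x => ?_⟩
  rw [hj]
  constructor
  · rintro ⟨y, ⟨z, hz, rfl⟩, hy⟩
    have hxz : x = k * z * k⁻¹ := by
      have := F.injective hy
      simpa [MulAut.conj_apply] using this.symm
    rw [hxz]
    have : k⁻¹ * (k * z * k⁻¹) * k = z := by group
    rw [this]
    exact hz
  · intro hx
    refine ⟨x, ⟨k⁻¹ * x * k, hx, ?_⟩, rfl⟩
    simp [MulAut.conj_apply]
    group

include hF1 hF hA1 hA2 hAinj in
/-- the action of `K` on the blocks by conjugation, as a homomorphism to permutations -/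
theorem cgl_exists_hom :
    ∃ φ : K →* Equiv.Perm ι, ∀ (k : K) (i : ι) (x : K),
      F x ∈ A (φ k i) ↔ F (k⁻¹ * x * k) ∈ A i := by
  choose act hact using cgl_conj_block F hF1 hF A n c hA1 hA2
  have hext : ∀ i j : ι, (∀ x : K, F x ∈ A i ↔ F x ∈ A j) → i = j := by
    intro i j h
    apply hAinj
    ext a
    have := h (F.symm a)
    simpa using this
  have hone : ∀ i, act 1 i = i := by
    intro i
    apply hext
    intro x
    rw [hact]
    simp
  have hmul : ∀ k l i, act (k * l) i = act k (act l i) := by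
    intro k l i
    apply hext
    intro x
    rw [hact, hact, hact]
    have : (k * l)⁻¹ * x * (k * l) = l⁻¹ * (k⁻¹ * x * k) * l := by group
    rw [this]
  refine ⟨{ toFun := fun k => ⟨act k, act k⁻¹, fun i => by rw [← hmul, inv_mul_cancel, hone],
              fun i => by rw [← hmul, mul_inv_cancel, hone]⟩
            map_one' := by ext i; exact hone i
            map_mul' := fun k l => by ext i; exact hmul k l i }, fun k i x => ?_⟩
  exact hact k i x

end action

section faithful

variable {K M : Type*} [Group K] [Group M] [Finite K] (F : K ≃ M) (hF1 : F 1 = 1)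
  (hF : ∀ x y : K, x * y = y * x ↔ F x * F y = F y * F x)
  {ι : Type*} (A : ι → Set M)
  (hcov : ∀ i, ∀ a ∈ A i, ∃ j, a ∈ A j ∧ (A i ∩ A j).ncard ≤ 2)
  (hfaith : ∀ g : M, g ≠ 1 → ∃ i, ∃ a ∈ A i, g * a ≠ a * g)
  (hcls : ∀ g : M, g ≠ 1 →
    Nat.card ↥(centralizer ({g} : Set M)) * 2 ^ (Nat.card M).factorization 2 < Nat.card M)
  (φ : K →* Equiv.Perm ι)
  (hφ : ∀ (k : K) (i : ι) (x : K), F x ∈ A (φ k i) ↔ F (k⁻¹ * x * k) ∈ A i)

include hF1 hF hcov hfaith hφ in
/-- an element acting trivially on the blocks is an involution or trivial -/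
theorem cgl_ker_sq (k : K) (hk : φ k = 1) : k * k = 1 := by
  by_contra hne
  have hFne : F (k * k) ≠ 1 := fun h => hne (F.injective (by rw [h, hF1]))
  obtain ⟨i, a, ha, hcomm⟩ := hfaith _ hFne
  obtain ⟨j, haj, hcard⟩ := hcov i a ha
  have hinv : ∀ (l : ι) (y : K), F y ∈ A l → F (k⁻¹ * y * k) ∈ A l := by
    intro l y hy
    have h := (hφ k l y).mp
    rw [hk] at h
    exact h hy
  have hncard : (F ⁻¹' (A i ∩ A j)).ncard ≤ 2 := by
    rw [← Equiv.image_symm_eq_preimage, Set.ncard_image_of_injective _ F.symm.injective]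
    exact hcard
  have hfix := cgl_two_set (F ⁻¹' (A i ∩ A j)) (Set.toFinite _) hncard (fun y => k⁻¹ * y * k)
    (fun y z hyz => by simpa using hyz)
    (fun y hy => ⟨hinv i y hy.1, hinv j y hy.2⟩) (F.symm a) (by
      show F (F.symm a) ∈ A i ∩ A j
      rw [Equiv.apply_symm_apply]
      exact ⟨ha, haj⟩)
  apply hcomm
  have h1 : (k * k) * F.symm a = F.symm a * (k * k) := by
    calc (k * k) * F.symm a = (k * k) * (k⁻¹ * (k⁻¹ * F.symm a * k) * k) := by rw [hfix]
      _ = F.symm a * (k * k) := by group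
  have h2 := (hF (k * k) (F.symm a)).mp h1
  rw [Equiv.apply_symm_apply] at h2
  exact h2

include hF1 hF hcov hfaith hcls hφ in
/-- the action on the blocks is faithful -/
theorem cgl_hom_injective : Function.Injective φ := by
  classical
  rw [injective_iff_map_eq_one]
  intro k hk
  by_contra hk1
  have hE2 : IsPGroup 2 φ.ker := by
    rintro ⟨g, hg⟩
    refine ⟨1, ?_⟩
    apply Subtype.ext
    have h := cgl_ker_sq F hF1 hF A hcov hfaith φ hφ g (MonoidHom.mem_ker.mp hg)
    simpa [pow_two] using h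
  obtain ⟨P, hP⟩ := hE2.exists_le_sylow
  have hcardE : Nat.card φ.ker ≤ 2 ^ (Nat.card K).factorization 2 := by
    rw [← P.card_eq_multiplicity]
    exact Subgroup.card_le_of_le hP
  have horb : Nat.card (MulAction.orbit (ConjAct K) k) * Nat.card ↥(centralizer ({k} : Set K)) =
      Nat.card K := by
    rw [Subgroup.nat_card_centralizer_nat_card_stabilizer]
    have : Finite (ConjAct K) := ‹Finite K›
    let _i1 : Fintype (ConjAct K) := Fintype.ofFinite _
    let _i2 : Fintype (MulAction.orbit (ConjAct K) k) := Fintype.ofFinite _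
    let _i3 : Fintype (MulAction.stabilizer (ConjAct K) k) := Fintype.ofFinite _
    have h := MulAction.card_orbit_mul_card_stabilizer_eq_card_group (ConjAct K) k
    rw [← Nat.card_eq_fintype_card, ← Nat.card_eq_fintype_card, ← Nat.card_eq_fintype_card] at h
    exact h
  have hsub : MulAction.orbit (ConjAct K) k ⊂ (φ.ker : Set K) := by
    constructor
    · rintro _ ⟨g, rfl⟩
      show g • k ∈ φ.ker
      rw [ConjAct.smul_def, MonoidHom.mem_ker, map_mul, map_mul, hk, mul_one, ← map_mul,
        mul_inv_cancel, map_one]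
    · intro h
      obtain ⟨g, hg⟩ := h (one_mem φ.ker)
      apply hk1
      have hg' : ConjAct.ofConjAct g * k * (ConjAct.ofConjAct g)⁻¹ = 1 := by
        rw [← ConjAct.smul_def]; exact hg
      have : k = (ConjAct.ofConjAct g)⁻¹ * (ConjAct.ofConjAct g * k * (ConjAct.ofConjAct g)⁻¹) *
          ConjAct.ofConjAct g := by group
      rw [this, hg']
      group
  have hlt : Nat.card (MulAction.orbit (ConjAct K) k) < Nat.card φ.ker := by
    have h := Set.ncard_lt_ncard hsub (Set.toFinite _)
    rw [← Nat.card_coe_set_eq, ← Nat.card_coe_set_eq] at h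
    exact h
  have hFk : F k ≠ 1 := fun h => hk1 (F.injective (by rw [h, hF1]))
  have h1 := hcls (F k) hFk
  rw [← cgl_card_centralizer F hF k, ← Nat.card_congr F] at h1
  have h2 : Nat.card (MulAction.orbit (ConjAct K) k) * Nat.card ↥(centralizer ({k} : Set K)) ≤
      2 ^ (Nat.card K).factorization 2 * Nat.card ↥(centralizer ({k} : Set K)) :=
    Nat.mul_le_mul_right _ (le_trans hlt.le hcardE)
  rw [horb, mul_comm] at h2
  exact absurd h1 (not_lt.mpr h2)

end faithful

/-- the action on the blocks preserves the relation "the blocks meet" -/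
theorem cgl_hom_rel {K M : Type*} [Group K] [Group M] (G : K ≃ M) {ι : Type*} (A : ι → Set M)
    (R : ι → ι → Prop) (hR : ∀ i j, (A i ∩ A j).Nonempty ↔ R i j) (φ : K →* Equiv.Perm ι)
    (hφ : ∀ (k : K) (i : ι) (x : K), G x ∈ A (φ k i) ↔ G (k⁻¹ * x * k) ∈ A i) (k : K) (i j : ι) :
    R (φ k i) (φ k j) ↔ R i j := by
  rw [← hR, ← hR]
  constructor
  · rintro ⟨a, hai, haj⟩
    refine ⟨G (k⁻¹ * G.symm a * k), ?_, ?_⟩
    · exact (hφ k i (G.symm a)).mp (by rw [Equiv.apply_symm_apply]; exact hai)
    · exact (hφ k j (G.symm a)).mp (by rw [Equiv.apply_symm_apply]; exact haj)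
  · rintro ⟨a, hai, haj⟩
    have hkk : k⁻¹ * (k * G.symm a * k⁻¹) * k = G.symm a := by group
    refine ⟨G (k * G.symm a * k⁻¹), ?_, ?_⟩
    · exact (hφ k i _).mpr (by rw [hkk, Equiv.apply_symm_apply]; exact hai)
    · exact (hφ k j _).mpr (by rw [hkk, Equiv.apply_symm_apply]; exact haj)

/-- **Abstract recognition by the commuting graph.**  See the module docstring. -/
theorem cgl_iso {H M : Type*} [Group H] [Group M] [Finite H] [Finite M]
    (F : H ≃ M) (hF1 : F 1 = 1) (hF : ∀ x y : H, x * y = y * x ↔ F x * F y = F y * F x)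
    {ι : Type*} [Finite ι] (A : ι → Set M) (n c : ℕ)
    (hA1 : ∀ i, CglBlock n c (A i)) (hA2 : ∀ S : Set M, CglBlock n c S → ∃ i, A i = S)
    (hAinj : Function.Injective A)
    (hcov : ∀ i, ∀ a ∈ A i, ∃ j, a ∈ A j ∧ (A i ∩ A j).ncard ≤ 2)
    (hfaith : ∀ g : M, g ≠ 1 → ∃ i, ∃ a ∈ A i, g * a ≠ a * g)
    (hcls : ∀ g : M, g ≠ 1 →
      Nat.card ↥(centralizer ({g} : Set M)) * 2 ^ (Nat.card M).factorization 2 < Nat.card M)
    (R : ι → ι → Prop) (hR : ∀ i j, (A i ∩ A j).Nonempty ↔ R i j)
    (hX : Nat.card {σ : Equiv.Perm ι // ∀ i j, R (σ i) (σ j) ↔ R i j} ≤ 2 * Nat.card M)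
    (hM2 : ∀ N : Subgroup M, N.index ≠ 2) :
    Nonempty (H ≃* M) := by
  classical
  obtain ⟨φH, hφH⟩ := cgl_exists_hom F hF1 hF A n c hA1 hA2 hAinj
  obtain ⟨φM, hφM⟩ := cgl_exists_hom (Equiv.refl M) rfl (fun x y => Iff.rfl) A n c hA1 hA2 hAinj
  have hinjH : Function.Injective φH := cgl_hom_injective F hF1 hF A hcov hfaith hcls φH hφH
  have hinjM : Function.Injective φM :=
    cgl_hom_injective (Equiv.refl M) rfl (fun x y => Iff.rfl) A hcov hfaith hcls φM hφM
  -- the group of relation-preserving permutations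
  let X : Subgroup (Equiv.Perm ι) :=
    { carrier := {σ | ∀ i j, R (σ i) (σ j) ↔ R i j}
      mul_mem' := fun {σ τ} hσ hτ i j => by
        rw [Equiv.Perm.mul_apply, Equiv.Perm.mul_apply, hσ, hτ]
      one_mem' := fun i j => Iff.rfl
      inv_mem' := fun {σ} hσ i j => by
        have h := hσ (σ.symm i) (σ.symm j)
        rw [Equiv.apply_symm_apply, Equiv.apply_symm_apply] at h
        exact h.symm }
  have hXcard : Nat.card X ≤ 2 * Nat.card M := hX
  have hQX : φH.range ≤ X := by
    rintro _ ⟨k, rfl⟩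
    exact cgl_hom_rel F A R hR φH hφH k
  have hPX : φM.range ≤ X := by
    rintro _ ⟨k, rfl⟩
    exact cgl_hom_rel (Equiv.refl M) A R hR φM hφM k
  have hcardQ : Nat.card φH.range = Nat.card M := by
    rw [← Nat.card_congr (MonoidHom.ofInjective hinjH).toEquiv, Nat.card_congr F]
  have hcardP : Nat.card φM.range = Nat.card M := by
    rw [← Nat.card_congr (MonoidHom.ofInjective hinjM).toEquiv]
  have hMpos : 0 < Nat.card M := Nat.card_pos
  -- the image of `H` has index at most 2 in `X`
  have hrel : φH.range.relIndex X ≤ 2 := by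
    have h1 : Nat.card (φH.range.subgroupOf X) * (φH.range.subgroupOf X).index = Nat.card X :=
      Subgroup.card_mul_index _
    rw [Nat.card_congr (Subgroup.subgroupOfEquivOfLe hQX).toEquiv, hcardQ] at h1
    have h2 : Nat.card M * φH.range.relIndex X ≤ Nat.card M * 2 := by
      rw [Subgroup.relIndex, h1, mul_comm]; exact hXcard
    exact Nat.le_of_mul_le_mul_left h2 hMpos
  have hrel0 : φH.range.relIndex X ≠ 0 := by
    have : Finite (Equiv.Perm ι) := inferInstance
    exact Subgroup.index_ne_zero_of_finite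
  have hrelP : φH.range.relIndex φM.range ≤ 2 :=
    le_trans (Subgroup.relIndex_le_of_le_right hPX hrel0) hrel
  have hidx : (φH.range.comap φM).index = φH.range.relIndex φM.range := Subgroup.index_comap _ _
  have hidx0 : (φH.range.comap φM).index ≠ 0 := Subgroup.index_ne_zero_of_finite
  have hidx1 : (φH.range.comap φM).index = 1 := by
    have h2 := hM2 (φH.range.comap φM)
    have h3 : (φH.range.comap φM).index ≤ 2 := hidx ▸ hrelP
    omega
  have hPQ : φM.range ≤ φH.range := by
    rw [← Subgroup.relIndex_eq_one, ← hidx, hidx1]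
  have hEq : φM.range = φH.range :=
    Subgroup.eq_of_le_of_card_ge hPQ (by rw [hcardQ, hcardP])
  exact ⟨(MonoidHom.ofInjective hinjH).trans
    ((MulEquiv.subgroupCongr hEq.symm).trans (MonoidHom.ofInjective hinjM).symm)⟩

/-- a bijection of the non-identity elements extends by `1 ↦ 1` -/
theorem cgl_extend {H M : Type*} [Group H] [Group M]
    (f : {h : H // h ≠ 1} ≃ {g : M // g ≠ 1})
    (hf : ∀ x y : {h : H // h ≠ 1}, (x : H) * y = y * x ↔ ((f x) : M) * (f y) = (f y) * (f x)) :
    ∃ F : H ≃ M, F 1 = 1 ∧ ∀ x y : H, x * y = y * x ↔ F x * F y = F y * F x := by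
  classical
  let F : H ≃ M :=
    { toFun := fun x => if h : x = 1 then 1 else (f ⟨x, h⟩ : M)
      invFun := fun y => if h : y = 1 then 1 else (f.symm ⟨y, h⟩ : H)
      left_inv := by
        intro x
        by_cases h : x = 1
        · simp [h]
        · have h2 : (f ⟨x, h⟩ : M) ≠ 1 := (f ⟨x, h⟩).2
          simp [h, h2]
      right_inv := by
        intro y
        by_cases h : y = 1
        · simp [h]
        · have h2 : (f.symm ⟨y, h⟩ : H) ≠ 1 := (f.symm ⟨y, h⟩).2
          simp [h, h2] }
  have hF1 : F 1 = 1 := by simp [F]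
  have hFne : ∀ x (h : x ≠ 1), F x = (f ⟨x, h⟩ : M) := by
    intro x h
    simp [F, h]
  refine ⟨F, hF1, fun x y => ?_⟩
  by_cases hx : x = 1
  · subst hx
    simp [hF1]
  by_cases hy : y = 1
  · subst hy
    simp [hF1]
  rw [hFne x hx, hFne y hy]
  exact hf ⟨x, hx⟩ ⟨y, hy⟩

/-- **Recognition by the commuting graph, ready-to-use form**: the target `M` is given through a
model `M'` with `e : M' ≃* M`, and the block data are stated for the model. -/
theorem cgl_iso_of_graph {H M M' : Type*} [Group H] [Group M] [Group M'] [Finite H] [Finite M']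
    (e : M' ≃* M)
    (f : {h : H // h ≠ 1} ≃ {g : M // g ≠ 1})
    (hf : ∀ x y : {h : H // h ≠ 1}, (x : H) * y = y * x ↔ ((f x) : M) * (f y) = (f y) * (f x))
    {ι : Type*} [Finite ι] (A : ι → Set M') (n c : ℕ)
    (hA1 : ∀ i, CglBlock n c (A i)) (hA2 : ∀ S : Set M', CglBlock n c S → ∃ i, A i = S)
    (hAinj : Function.Injective A)
    (hcov : ∀ i, ∀ a ∈ A i, ∃ j, a ∈ A j ∧ (A i ∩ A j).ncard ≤ 2)
    (hfaith : ∀ g : M', g ≠ 1 → ∃ i, ∃ a ∈ A i, g * a ≠ a * g)
    (hcls : ∀ g : M', g ≠ 1 →
      Nat.card ↥(centralizer ({g} : Set M')) * 2 ^ (Nat.card M').factorization 2 < Nat.card M')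
    (R : ι → ι → Prop) (hR : ∀ i j, (A i ∩ A j).Nonempty ↔ R i j)
    (hX : Nat.card {σ : Equiv.Perm ι // ∀ i j, R (σ i) (σ j) ↔ R i j} ≤ 2 * Nat.card M')
    (hM2 : ∀ N : Subgroup M', N.index ≠ 2) :
    Nonempty (H ≃* M) := by
  obtain ⟨F, hF1, hF⟩ := cgl_extend f hf
  obtain ⟨ψ⟩ := cgl_iso (F.trans e.symm.toEquiv) (by simp [hF1])
    (fun x y => by
      rw [hF x y]
      exact cgl_mulEquiv_comm e.symm (F x) (F y))
    A n c hA1 hA2 hAinj hcov hfaith hcls R hR hX hM2
  exact ⟨ψ.trans e⟩

end Cfsg.Agent.Helper52
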