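import Mathlib
import Cfsg.Agent.Helper52.U7920Main
import Cfsg.Agent.Helper52.CGMMain
import Cfsg.Agent.Helper7.M11UP3
import Cfsg.Agent.S0418
import Cfsg.Agent.Helper27.M11Inv

/-!
# Order data of a simple group of order 7920, and of the concrete `M₁₁`

A simple group of order 7920 has 1440 elements of order 11, 1584 elements of order 5, and no
element of order 55 or 10.  The concrete `M₁₁` is simple (it is a sharply 4-transitive group of
degree 11), so a group with the commuting graph of `M₁₁` is simple of order 7920.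
-/

set_option autoImplicit false

namespace Cfsg.Agent.Helper52

open Subgroup

theorem cgm_data_of_simple {G : Type*} [Group G] [Finite G] [IsSimpleGroup G]
    (hG : Nat.card G = 7920) :
    Nat.card {g : G // orderOf g = 11} = 1440 ∧ Nat.card {g : G // orderOf g = 5} = 1584 ∧
    (∀ g : G, orderOf g ≠ 55) ∧ (∀ g : G, orderOf g ≠ 10) := by
  have : Fact (Nat.Prime 11) := ⟨by norm_num⟩
  have : Fact (Nat.Prime 5) := ⟨by norm_num⟩
  have hC11 := fun P => (o7920_syl11 hG P).1
  have hN11 := fun P => (o7920_syl11 hG P).2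
  have hN5 := fun Q => (o7920_syl5 hG hC11 hN11 Q).1
  obtain ⟨P⟩ : Nonempty (Sylow 11 G) := inferInstance
  obtain ⟨Q⟩ : Nonempty (Sylow 5 G) := inferInstance
  have n11 : Nat.card (Sylow 11 G) = 144 := by
    have h := Cfsg.Agent.Helper31.cgm_card_sylow_mul_normalizer 11 P
    rw [hN11 P, hG] at h
    omega
  have n5 : Nat.card (Sylow 5 G) = 396 := by
    have h := Cfsg.Agent.Helper31.cgm_card_sylow_mul_normalizer 5 Q
    rw [hN5 Q, hG] at h
    omega
  have c11 := Cfsg.Agent.Helper74.cgm_card_orderOf_prime (G := G) 11 (by rw [hG]; norm_num)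
    (by rw [hG]; norm_num)
  have c5 := Cfsg.Agent.Helper74.cgm_card_orderOf_prime (G := G) 5 (by rw [hG]; norm_num)
    (by rw [hG]; norm_num)
  rw [n11] at c11
  rw [n5] at c5
  refine ⟨by simpa using c11, by simpa using c5, ?_, ?_⟩
  · intro g hg
    have hy : orderOf (g ^ 5) = 11 := by
      rw [orderOf_pow' g (by norm_num), hg]
      norm_num
    obtain ⟨P', hP'⟩ := (IsPGroup.of_card (n := 1)
      (by rw [Nat.card_zpowers, hy, pow_one]) : IsPGroup 11 (zpowers (g ^ 5))).exists_le_sylow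
    have hcardP' : Nat.card (P' : Subgroup G) = 11 :=
      Cfsg.Agent.Helper31.cgm_sylow_card_prime 11 (by rw [hG]; norm_num) (by rw [hG]; norm_num) P'
    have hPeq : zpowers (g ^ 5) = (P' : Subgroup G) := by
      apply Subgroup.eq_of_le_of_card_ge hP'
      rw [hcardP', Nat.card_zpowers, hy]
    have hgC : g ∈ centralizer ((P' : Subgroup G) : Set G) := by
      rw [← hPeq, Subgroup.mem_centralizer_iff]
      intro b hb
      obtain ⟨k, rfl⟩ := Subgroup.mem_zpowers_iff.mp hb
      exact ((Commute.refl g).pow_right 5).zpow_right k |>.eq.symm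
    have hdvd : orderOf g ∣ 11 := by
      have h := orderOf_dvd_natCard (⟨g, hgC⟩ : ↥(centralizer ((P' : Subgroup G) : Set G)))
      rwa [Subgroup.orderOf_mk, hC11 P'] at h
    rw [hg] at hdvd
    norm_num at hdvd
  · intro g hg
    have ht : orderOf (g ^ 5) = 2 := by
      rw [orderOf_pow' g (by norm_num), hg]
      norm_num
    have h48 := u7920_result hG (g ^ 5) ht
    have hy : orderOf (g ^ 2) = 5 := by
      rw [orderOf_pow' g (by norm_num), hg]
      norm_num
    have hmem : g ^ 2 ∈ centralizer ({g ^ 5} : Set G) := by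
      rw [Subgroup.mem_centralizer_iff]
      intro b hb
      rw [Set.mem_singleton_iff.mp hb, ← pow_add, ← pow_add]
    have h := orderOf_dvd_natCard (⟨g ^ 2, hmem⟩ : ↥(centralizer ({g ^ 5} : Set G)))
    rw [Subgroup.orderOf_mk, hy, h48] at h
    norm_num at h

/-- the concrete `M₁₁` is a simple group of order 7920 -/
theorem cgm_isM11_M11 : Cfsg.IsM11 ↥Cfsg.Spor.M11 := by
  classical
  obtain ⟨hcard, K, hK, ⟨e⟩⟩ := Cfsg.Agent.Helper7.m11u_part3 Cfsg.Spor.squareDodecad
    Cfsg.Agent.Helper27.M11Inv.sq_mem (some 0) Cfsg.Agent.Helper27.M11Inv.zero_mem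
  have hpre : MulAction.IsMultiplyPretransitive ↥K
      {a : Cfsg.GolayPt // a ∈ Cfsg.Spor.squareDodecad ∧ a ≠ some 0} 4 := by
    refine ⟨fun x y => ?_⟩
    obtain ⟨h, hh, hxy⟩ := hK.1 x y
    refine ⟨⟨h, hh⟩, ?_⟩
    exact DFunLike.ext _ _ (fun i => hxy i)
  have hKM : Cfsg.IsM11 ↥K := by
    refine Cfsg.Agent.S0418.result hcard K (fun x => ?_)
    rw [Subgroup.eq_bot_iff_forall]
    intro g hg
    have hfix : ∀ i, (g : Equiv.Perm _) (x i) = x i := fun i =>
      DFunLike.congr_fun (MulAction.mem_stabilizer_iff.mp hg) i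
    exact Subtype.ext (hK.2 g g.2 x hfix)
  have e' : ↥Cfsg.Spor.M11 ≃* ↥K := Cfsg.Agent.Helper27.M11Inv.flagEquiv.symm.trans e
  have := hKM.1
  exact ⟨e'.isSimpleGroup, Cfsg.Agent.Helper91.card_M11⟩

/-- order data of the concrete `M₁₁` (piece M11D of CALL S3413) -/
theorem cgm_m11_data :
    Nat.card {g : ↥Cfsg.Spor.M11 // orderOf g = 11} = 1440 ∧
    Nat.card {g : ↥Cfsg.Spor.M11 // orderOf g = 5} = 1584 ∧
    (∀ g : ↥Cfsg.Spor.M11, orderOf g ≠ 55) ∧ (∀ g : ↥Cfsg.Spor.M11, orderOf g ≠ 10) := by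
  have := cgm_finite_M11
  have := cgm_isM11_M11.1
  exact cgm_data_of_simple cgm_isM11_M11.2

/-- a group with the commuting graph of `M₁₁` is simple of order 7920 -/
theorem cgm_m11_core {H : Type*} [Group H] [Finite H]
    (f : {h : H // h ≠ 1} ≃ {g : ↥Cfsg.Spor.M11 // g ≠ 1})
    (hf : ∀ x y : {h : H // h ≠ 1}, (x : H) * y = y * x ↔
      ((f x) : ↥Cfsg.Spor.M11) * (f y) = (f y) * (f x)) :
    Cfsg.IsM11 H :=
  cgm_m11_core_of cgm_m11_data f hf

end Cfsg.Agent.Helper52
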