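import Cfsg.Agent.Helper40.DZDefs
import Cfsg.Agent.Helper91.DZD2

set_option autoImplicit false

/-!
CALL S4538, piece Q1: the Borel subgroup of `SL_n(F)` is generated by the upper unitriangular
subgroup and the elements `h_j(c)`.
-/

namespace Cfsg.Agent.Helper52.DZ

open Cfsg.Agent.Helper40.DZ Cfsg.Agent.Helper44.PSLn Matrix

universe u

variable {n : ℕ} {F : Type u} [Field F]

local notation "SLn" => Matrix.SpecialLinearGroup (Fin n) F

variable [Fintype F]

/-- diagonal matrices of determinant one lie in the subgroup generated by the `h_j(c)` -/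
theorem diag_mem_closure (K : Subgroup SLn)
    (hK : ∀ (j : ℕ) (hj : j + 1 < n) (c : F), c ≠ 0 → hel j hj c ∈ K) :
    ∀ m : ℕ, m < n → ∀ (d : SLn) (t : Fin n → F),
      (d : Matrix (Fin n) (Fin n) F) = Matrix.diagonal t → (∀ i : Fin n, m < i.val → t i = 1) →
      d ∈ K := by
  intro m
  induction m with
  | zero =>
    intro hn d t hd ht
    have hdet : (d : Matrix (Fin n) (Fin n) F).det = 1 := d.det_coe
    rw [hd, Matrix.det_diagonal] at hdet
    have h0 : t ⟨0, hn⟩ = 1 := by
      rw [← hdet]
      symm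
      apply Finset.prod_eq_single
      · intro i _ hi
        apply ht
        have : i.val ≠ 0 := fun h => hi (Fin.ext h)
        omega
      · intro h; exact absurd (Finset.mem_univ _) h
    have h1 : d = 1 := by
      apply Matrix.SpecialLinearGroup.ext
      intro i j
      rw [hd, Matrix.SpecialLinearGroup.coe_one, Matrix.diagonal_apply, Matrix.one_apply]
      by_cases hij : i = j
      · rw [if_pos hij, if_pos hij]
        by_cases hi : i.val = 0
        · have : i = ⟨0, hn⟩ := Fin.ext hi
          rw [this, h0]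
        · exact ht i (by omega)
      · rw [if_neg hij, if_neg hij]
    rw [h1]
    exact K.one_mem
  | succ m ih =>
    intro hm d t hd ht
    have hj : m + 1 < n := hm
    have hdet : (d : Matrix (Fin n) (Fin n) F).det = 1 := d.det_coe
    rw [hd, Matrix.det_diagonal] at hdet
    have hne : t (ib m hj) ≠ 0 := by
      intro h0
      have : ∏ i, t i = 0 := Finset.prod_eq_zero (Finset.mem_univ (ib m hj)) h0
      rw [this] at hdet
      exact zero_ne_one hdet
    have hab : ia m hj ≠ ib m hj := ia_ne_ib m hj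
    have hmem := hK m hj (t (ib m hj)) hne
    have hd' : ((d * hel m hj (t (ib m hj)) : SLn) : Matrix (Fin n) (Fin n) F) =
        Matrix.diagonal (fun a => t a * (if a = ia m hj then t (ib m hj)
          else if a = ib m hj then (t (ib m hj))⁻¹ else 1)) := by
      rw [Matrix.SpecialLinearGroup.coe_mul, hd,
        Cfsg.Agent.Helper91.DZ.hel_coe m hj (t (ib m hj)) hne, Matrix.diagonal_mul_diagonal]
    have h1 := ih (by omega) (d * hel m hj (t (ib m hj))) _ hd' (by
      intro i hi
      by_cases hia : i = ia m hj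
      · exfalso
        rw [hia] at hi
        simp [ia] at hi
      · by_cases hib : i = ib m hj
        · rw [if_neg hia, if_pos hib, hib, mul_inv_cancel₀ hne]
        · rw [if_neg hia, if_neg hib, mul_one]
          apply ht
          have : i.val ≠ m + 1 := fun h => hib (Fin.ext h)
          omega)
    have h2 : d = d * hel m hj (t (ib m hj)) * (hel m hj (t (ib m hj)))⁻¹ := by group
    rw [h2]
    exact K.mul_mem h1 (K.inv_mem hmem)

/-- Q1: the Borel subgroup is generated by `U` and the `h_j(c)`. -/
theorem borel_le_closure :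
    borelSL n F ≤ Subgroup.closure (((UniS n F : Subgroup SLn) : Set SLn) ∪
      {g | ∃ (j : ℕ) (hj : j + 1 < n) (c : F), c ≠ 0 ∧ g = hel j hj c}) := by
  intro b hb
  set K : Subgroup SLn := Subgroup.closure (((UniS n F : Subgroup SLn) : Set SLn) ∪
      {g | ∃ (j : ℕ) (hj : j + 1 < n) (c : F), c ≠ 0 ∧ g = hel j hj c}) with hKdef
  have hK : ∀ (j : ℕ) (hj : j + 1 < n) (c : F), c ≠ 0 → hel j hj c ∈ K := by
    intro j hj c hc
    exact Subgroup.subset_closure (Or.inr ⟨j, hj, c, hc, rfl⟩)
  have hU : ∀ u ∈ UniS n F, u ∈ K := fun u hu => Subgroup.subset_closure (Or.inl hu)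
  rcases Nat.eq_zero_or_pos n with hn | hn
  · subst hn
    have : b = 1 := by
      apply Matrix.SpecialLinearGroup.ext
      intro i
      exact i.elim0
    rw [this]
    exact K.one_mem
  have hbt : (b : Matrix (Fin n) (Fin n) F).BlockTriangular id := by
    have h := hb
    unfold borelSL at h
    rw [Subgroup.mem_comap] at h
    have h' : ((Matrix.SpecialLinearGroup.toGL b : GL (Fin n) F) :
      Matrix (Fin n) (Fin n) F).BlockTriangular id := h
    rwa [Matrix.SpecialLinearGroup.coe_GL_coe_matrix] at h'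
  have hdet : (b : Matrix (Fin n) (Fin n) F).det = 1 := b.det_coe
  rw [Matrix.det_of_upperTriangular hbt] at hdet
  have hne : ∀ i, (b : Matrix (Fin n) (Fin n) F) i i ≠ 0 := by
    intro i h0
    have : ∏ i, (b : Matrix (Fin n) (Fin n) F) i i = 0 :=
      Finset.prod_eq_zero (Finset.mem_univ i) h0
    rw [this] at hdet
    exact zero_ne_one hdet
  have hd1 : (Matrix.diagonal fun i => (b : Matrix (Fin n) (Fin n) F) i i).det = 1 := by
    rw [Matrix.det_diagonal, hdet]
  have he1 : (Matrix.diagonal fun i => ((b : Matrix (Fin n) (Fin n) F) i i)⁻¹).det = 1 := by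
    rw [Matrix.det_diagonal, Finset.prod_inv_distrib, hdet, inv_one]
  obtain ⟨d, hd⟩ : ∃ d : SLn, (d : Matrix (Fin n) (Fin n) F) =
      Matrix.diagonal fun i => (b : Matrix (Fin n) (Fin n) F) i i := ⟨⟨_, hd1⟩, rfl⟩
  obtain ⟨e, he⟩ : ∃ e : SLn, (e : Matrix (Fin n) (Fin n) F) =
      Matrix.diagonal fun i => ((b : Matrix (Fin n) (Fin n) F) i i)⁻¹ := ⟨⟨_, he1⟩, rfl⟩
  have hdK : d ∈ K := diag_mem_closure K hK (n - 1) (by omega) d _ hd (by
    intro i hi
    have := i.isLt
    omega)
  have hde : d * e = 1 := by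
    apply Matrix.SpecialLinearGroup.ext
    intro i j
    rw [Matrix.SpecialLinearGroup.coe_mul, hd, he, Matrix.diagonal_mul_diagonal,
      Matrix.SpecialLinearGroup.coe_one, Matrix.diagonal_apply, Matrix.one_apply]
    by_cases hij : i = j
    · rw [if_pos hij, if_pos hij, mul_inv_cancel₀ (hne i)]
    · rw [if_neg hij, if_neg hij]
  have heb : e * b ∈ UniS n F := by
    rw [mem_UniS]
    refine ⟨fun i j hij => ?_, fun i => ?_⟩
    · rw [Matrix.SpecialLinearGroup.coe_mul, he, Matrix.diagonal_mul, hbt hij, mul_zero]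
    · rw [Matrix.SpecialLinearGroup.coe_mul, he, Matrix.diagonal_mul, inv_mul_cancel₀ (hne i)]
  have hb2 : b = d * (e * b) := by
    rw [← mul_assoc, hde, one_mul]
  rw [hb2]
  exact K.mul_mem hdK (hU _ heb)

end Cfsg.Agent.Helper52.DZ
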