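import Mathlib

set_option autoImplicit false

/-!
# CALL LM (helper21), piece XO: `p` odd, `G' ≤ Z(G)` of order `p`: a central element of order `p`
outside `G'`, or a non-central element of order `p`

If every `x` with `x ^ p = 1` is central, `g ↦ g ^ p` is a homomorphism into the centre whose kernel
has at least `|G : Z(G)| ≥ p²` elements, so it is not contained in `G'`.
-/

namespace Cfsg.Agent.Helper52.LM

/-- `h ^ k * g = c ^ k * g * h ^ k` when `h * g = c * g * h` with `c` central. -/
theorem lm_pow_comm {G : Type*} [Group G] (g h c : G) (hcz : ∀ y : G, c * y = y * c)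
    (hgh : h * g = c * g * h) (k : ℕ) : h ^ k * g = c ^ k * g * h ^ k := by
  induction k with
  | zero => simp
  | succ k ih =>
    have hck : h * c ^ k = c ^ k * h := ((show Commute c h from hcz h).pow_left k).eq.symm
    calc h ^ (k + 1) * g = h * (h ^ k * g) := by rw [pow_succ', mul_assoc]
      _ = (h * c ^ k) * g * h ^ k := by rw [ih]; simp only [mul_assoc]
      _ = c ^ k * (h * g) * h ^ k := by rw [hck]; simp only [mul_assoc]
      _ = c ^ (k + 1) * g * h ^ (k + 1) := by
          rw [hgh, pow_succ c, pow_succ' h]; simp only [mul_assoc]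

/-- `(g h) ^ n = c ^ (n (n - 1) / 2) * g ^ n * h ^ n` when `h * g = c * g * h` with `c` central. -/
theorem lm_pow_mul {G : Type*} [Group G] (g h c : G) (hcz : ∀ y : G, c * y = y * c)
    (hgh : h * g = c * g * h) (n : ℕ) :
    ∃ e : ℕ, 2 * e = n * (n - 1) ∧ (g * h) ^ n = c ^ e * g ^ n * h ^ n := by
  induction n with
  | zero => exact ⟨0, by simp, by simp⟩
  | succ n ih =>
    obtain ⟨e, he, hpow⟩ := ih
    refine ⟨e + n, ?_, ?_⟩
    · rw [Nat.add_sub_cancel]
      cases n with
      | zero => simp at he ⊢; exact he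
      | succ m =>
        rw [Nat.add_sub_cancel] at he
        nlinarith [he]
    · have h1 : g ^ n * c ^ n = c ^ n * g ^ n :=
        ((show Commute c (g ^ n) from hcz (g ^ n)).pow_left n).eq.symm
      calc (g * h) ^ (n + 1) = (g * h) ^ n * (g * h) := pow_succ _ _
        _ = c ^ e * g ^ n * (h ^ n * g) * h := by rw [hpow]; simp only [mul_assoc]
        _ = c ^ e * (g ^ n * c ^ n) * g * h ^ n * h := by
            rw [lm_pow_comm g h c hcz hgh n]; simp only [mul_assoc]
        _ = c ^ (e + n) * g ^ (n + 1) * h ^ (n + 1) := by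
            rw [h1, pow_add, pow_succ g, pow_succ h]; simp only [mul_assoc]

/-- XO: `p` odd: a central element of order `p` outside `G'`, or a non-central element of order `p`. -/
theorem lm_xo {G : Type*} [Group G] [Finite G] (hZ : commutator G ≤ Subgroup.center G)
    (hc : Nat.card (commutator G) = (Nat.card G).minFac) (hna : ¬ IsMulCommutative G)
    (hodd : (Nat.card G).minFac ≠ 2) :
    (∃ c : G, c ∈ Subgroup.center G ∧ orderOf c = (Nat.card G).minFac ∧ c ∉ commutator G) ∨
      (∃ x : G, x ∉ Subgroup.center G ∧ x ^ (Nat.card G).minFac = 1) := by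
  classical
  by_cases hx : ∃ x : G, x ∉ Subgroup.center G ∧ x ^ (Nat.card G).minFac = 1
  · exact Or.inr hx
  left
  obtain ⟨p, hp_def⟩ : ∃ p, p = (Nat.card G).minFac := ⟨_, rfl⟩
  rw [← hp_def] at hc hodd hx ⊢
  have hxZ : ∀ x : G, x ^ p = 1 → x ∈ Subgroup.center G := fun x h =>
    by_contra fun hn => hx ⟨x, hn, h⟩
  have hcard1 : Nat.card G ≠ 1 := by
    intro h1
    apply hna
    have hs : Subsingleton G := (Nat.card_eq_one_iff_unique.mp h1).1
    exact ⟨⟨fun a b => Subsingleton.elim _ _⟩⟩
  have hp : p.Prime := hp_def ▸ Nat.minFac_prime hcard1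
  have hcomm_mem : ∀ a b : G, a * b * a⁻¹ * b⁻¹ ∈ commutator G := fun a b =>
    Subgroup.commutator_mem_commutator (Subgroup.mem_top a) (Subgroup.mem_top b)
  have hcomm_pow : ∀ z ∈ commutator G, z ^ p = 1 := by
    intro z hz
    have h1 : (⟨z, hz⟩ : commutator G) ^ Nat.card (commutator G) = 1 := pow_card_eq_one'
    rw [hc] at h1
    exact congrArg Subtype.val h1
  have hcomm_cen : ∀ z ∈ commutator G, ∀ y : G, z * y = y * z := fun z hz y =>
    (Subgroup.mem_center_iff.mp (hZ hz) y).symm
  have hpow_mul : ∀ g h : G, (g * h) ^ p = g ^ p * h ^ p := by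
    intro g h
    have hgh : h * g = (h * g * h⁻¹ * g⁻¹) * g * h := by group
    obtain ⟨e, he, hpw⟩ := lm_pow_mul g h (h * g * h⁻¹ * g⁻¹) (hcomm_cen _ (hcomm_mem h g)) hgh p
    have hpe : p ∣ e := by
      have h2 : p ∣ 2 * e := by rw [he]; exact dvd_mul_right p (p - 1)
      have hcop : Nat.Coprime p 2 := (Nat.coprime_primes hp Nat.prime_two).mpr hodd
      exact hcop.dvd_of_dvd_mul_left h2
    obtain ⟨k, rfl⟩ := hpe
    rw [hpw, pow_mul, hcomm_pow _ (hcomm_mem h g), one_pow, one_mul]
  have hpow_cen : ∀ g : G, g ^ p ∈ Subgroup.center G := by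
    intro g
    rw [Subgroup.mem_center_iff]
    intro y
    have hgy : g * y = (g * y * g⁻¹ * y⁻¹) * y * g := by group
    have h3 := lm_pow_comm y g (g * y * g⁻¹ * y⁻¹) (hcomm_cen _ (hcomm_mem g y)) hgy p
    rw [hcomm_pow _ (hcomm_mem g y), one_mul] at h3
    exact h3.symm
  let φ : G →* G := MonoidHom.mk' (fun g => g ^ p) hpow_mul
  have hker : ∀ g, g ∈ φ.ker ↔ g ^ p = 1 := fun g => MonoidHom.mem_ker
  have hrange : φ.range ≤ Subgroup.center G := by
    rintro _ ⟨g, rfl⟩
    exact hpow_cen g
  have h1 : Nat.card φ.ker * Nat.card φ.range = Nat.card G := by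
    rw [← Subgroup.index_ker, Subgroup.card_mul_index]
  have h2 : Nat.card φ.range ≤ Nat.card (Subgroup.center G) := Subgroup.card_le_of_le hrange
  have h3 : Nat.card (Subgroup.center G) * (Subgroup.center G).index = Nat.card G :=
    Subgroup.card_mul_index _
  have hZpos : 0 < Nat.card (Subgroup.center G) := Nat.card_pos
  have h4 : (Subgroup.center G).index ≤ Nat.card φ.ker := by
    have h5 : Nat.card (Subgroup.center G) * (Subgroup.center G).index ≤
        Nat.card (Subgroup.center G) * Nat.card φ.ker := by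
      rw [h3, ← h1, mul_comm]
      exact Nat.mul_le_mul_right _ h2
    exact Nat.le_of_mul_le_mul_left h5 hZpos
  have hidx1 : (Subgroup.center G).index ≠ 1 := by
    intro h
    rw [Subgroup.index_eq_one] at h
    apply hna
    refine ⟨⟨fun a b => ?_⟩⟩
    have hb : b ∈ Subgroup.center G := h ▸ Subgroup.mem_top b
    exact Subgroup.mem_center_iff.mp hb a
  have hidxnp : ¬ (Subgroup.center G).index.Prime := by
    intro hpr
    have hfact : Fact ((Subgroup.center G).index).Prime := ⟨hpr⟩
    have hcardq : Nat.card (G ⧸ Subgroup.center G) = (Subgroup.center G).index := rfl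
    have hcyc : IsCyclic (G ⧸ Subgroup.center G) := isCyclic_of_prime_card hcardq
    apply hna
    exact MonoidHom.isMulCommutative_of_isCyclic_of_ker_le_center
      (QuotientGroup.mk' (Subgroup.center G)) (by rw [QuotientGroup.ker_mk'])
  have hidx_dvd : (Subgroup.center G).index ∣ Nat.card G := Subgroup.index_dvd_card _
  have hidx_pos : 0 < (Subgroup.center G).index := Nat.pos_of_ne_zero Subgroup.index_ne_zero_of_finite
  have hsq : p ^ 2 ≤ (Subgroup.center G).index := by
    have h5 := Nat.minFac_sq_le_self hidx_pos hidxnp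
    have h6 : p ≤ (Subgroup.center G).index.minFac := by
      rw [hp_def]
      exact Nat.minFac_le_of_dvd (Nat.minFac_prime hidx1).two_le
        ((Nat.minFac_dvd _).trans hidx_dvd)
    calc p ^ 2 ≤ (Subgroup.center G).index.minFac ^ 2 := Nat.pow_le_pow_left h6 2
      _ ≤ _ := h5
  have hnot : ¬ φ.ker ≤ commutator G := by
    intro hle
    have h7 := Subgroup.card_le_of_le hle
    rw [hc] at h7
    have h8 : p ^ 2 ≤ p := hsq.trans (h4.trans h7)
    have hp2 := hp.two_le
    nlinarith
  obtain ⟨c, hcker, hcG⟩ := SetLike.not_le_iff_exists.mp hnot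
  have hcp : c ^ p = 1 := (hker c).mp hcker
  have hfp : Fact p.Prime := ⟨hp⟩
  refine ⟨c, hxZ c hcp, ?_, hcG⟩
  apply orderOf_eq_prime hcp
  intro h1
  exact hcG (h1 ▸ Subgroup.one_mem _)

end Cfsg.Agent.Helper52.LM
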