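import Mathlib
import Cfsg.Agent.Helper52.LMXO

set_option autoImplicit false

/-!
# CALL LM (helper21), piece ETO: `p` odd, `G' ≤ Z(G)` of order `p`, `x ∉ Z(G)` with `x ^ p = 1`:
an automorphism `σ` and a subgroup `M ≥ Z(G)` of index `p` with `σ g` not conjugate to `g` for
`g ∉ M`

`ψ g = g x g⁻¹ x⁻¹` is a homomorphism with central values, `M = ker ψ = C(x)`; `w = ψ a ≠ 1`.
With `c k = (a x) ^ k (a ^ k)⁻¹` (which depends only on `k mod p`, as `(a x) ^ p = a ^ p`) put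
`σ g = c k * g` where `ψ g = w ^ k`.
-/

namespace Cfsg.Agent.Helper52.LM

section eto

variable {G : Type*} [Group G]

/-- `c k = (a x) ^ k (a ^ k)⁻¹`. -/
def etoC (a x : G) (k : ℕ) : G := (a * x) ^ k * (a ^ k)⁻¹

theorem etoC_zero (a x : G) : etoC a x 0 = 1 := by
  unfold etoC
  simp

theorem etoC_add (a x : G) (k l : ℕ) :
    etoC a x (k + l) = etoC a x k * (a ^ k * etoC a x l * (a ^ k)⁻¹) := by
  unfold etoC
  rw [pow_add, pow_add]
  generalize (a * x) ^ k = u
  generalize (a * x) ^ l = v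
  generalize a ^ k = s
  generalize a ^ l = t
  group

theorem etoC_mul_p (a x : G) (p : ℕ) (hp : (a * x) ^ p = a ^ p) (t : ℕ) :
    etoC a x (p * t) = 1 := by
  unfold etoC
  rw [pow_mul, hp, ← pow_mul, mul_inv_cancel]

theorem etoC_mod (a x : G) (p : ℕ) (hp : (a * x) ^ p = a ^ p) (k : ℕ) :
    etoC a x k = etoC a x (k % p) := by
  conv_lhs => rw [← Nat.mod_add_div k p]
  rw [etoC_add, etoC_mul_p a x p hp, mul_one, mul_inv_cancel, mul_one]

theorem eto_aux1 (u s t : G) : u * s * t * s⁻¹ = u * (s * t * s⁻¹ * t⁻¹) * t := by group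

theorem eto_aux2 (u s t : G) : t = (u * (s * t * s⁻¹ * t⁻¹))⁻¹ * (u * s * t * s⁻¹) := by group

end eto

/-- ETO: `p` odd, a non-central element of order `p` gives a transvection automorphism. -/
theorem lm_eto {G : Type*} [Group G] [Finite G] (hZ : commutator G ≤ Subgroup.center G)
    (hc : Nat.card (commutator G) = (Nat.card G).minFac) (hodd : (Nat.card G).minFac ≠ 2)
    (x : G) (hxZ : x ∉ Subgroup.center G) (hxp : x ^ (Nat.card G).minFac = 1) :
    ∃ σ : MulAut G, ∃ M : Subgroup G, M.index = (Nat.card G).minFac ∧ Subgroup.center G ≤ M ∧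
      ∀ g : G, g ∉ M → ¬ IsConj g (σ g) := by
  classical
  obtain ⟨p, hp_def⟩ : ∃ p, p = (Nat.card G).minFac := ⟨_, rfl⟩
  rw [← hp_def] at hc hodd hxp ⊢
  have hcard1 : Nat.card G ≠ 1 := by
    intro h1
    have hs : Subsingleton G := (Nat.card_eq_one_iff_unique.mp h1).1
    exact hxZ (by rw [Subsingleton.elim x 1]; exact Subgroup.one_mem _)
  have hp : p.Prime := hp_def ▸ Nat.minFac_prime hcard1
  have hfp : Fact p.Prime := ⟨hp⟩
  have hcomm_mem : ∀ a b : G, a * b * a⁻¹ * b⁻¹ ∈ commutator G := fun a b =>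
    Subgroup.commutator_mem_commutator (Subgroup.mem_top a) (Subgroup.mem_top b)
  have hcomm_pow : ∀ z ∈ commutator G, z ^ p = 1 := by
    intro z hz
    have h1 : (⟨z, hz⟩ : commutator G) ^ Nat.card (commutator G) = 1 := pow_card_eq_one'
    rw [hc] at h1
    exact congrArg Subtype.val h1
  have hcen : ∀ z ∈ commutator G, ∀ y : G, z * y = y * z := fun z hz y =>
    (Subgroup.mem_center_iff.mp (hZ hz) y).symm
  -- the homomorphism `ψ`
  have hψmul : ∀ g h : G, (g * h) * x * (g * h)⁻¹ * x⁻¹ =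
      (g * x * g⁻¹ * x⁻¹) * (h * x * h⁻¹ * x⁻¹) := by
    intro g h
    have h1 := hcen _ (hcomm_mem h x) g
    calc (g * h) * x * (g * h)⁻¹ * x⁻¹ = g * (h * x * h⁻¹ * x⁻¹) * x * g⁻¹ * x⁻¹ := by group
      _ = (h * x * h⁻¹ * x⁻¹) * g * x * g⁻¹ * x⁻¹ := by rw [← h1]
      _ = (h * x * h⁻¹ * x⁻¹) * (g * x * g⁻¹ * x⁻¹) := by simp only [mul_assoc]
      _ = (g * x * g⁻¹ * x⁻¹) * (h * x * h⁻¹ * x⁻¹) := hcen _ (hcomm_mem h x) _
  let ψ : G →* G := MonoidHom.mk' (fun g => g * x * g⁻¹ * x⁻¹) hψmul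
  have hψ : ∀ g, ψ g = g * x * g⁻¹ * x⁻¹ := fun g => rfl
  have hψ1 : ∀ g, ψ g = 1 ↔ g * x = x * g := by
    intro g
    rw [hψ]
    constructor
    · intro h
      calc g * x = (g * x * g⁻¹ * x⁻¹) * x * g := by group
        _ = x * g := by rw [h, one_mul]
    · intro h
      calc g * x * g⁻¹ * x⁻¹ = (g * x) * g⁻¹ * x⁻¹ := rfl
        _ = 1 := by rw [h]; group
  obtain ⟨a, ha⟩ : ∃ a, ψ a ≠ 1 := by
    by_contra hcon
    push Not at hcon
    apply hxZ
    rw [Subgroup.mem_center_iff]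
    intro g
    exact (hψ1 g).mp (hcon g)
  obtain ⟨w, hw⟩ : ∃ w, w = ψ a := ⟨_, rfl⟩
  rw [← hw] at ha
  have hwG : w ∈ commutator G := hw ▸ hcomm_mem a x
  have hwp : w ^ p = 1 := hcomm_pow w hwG
  have hworder : orderOf w = p := orderOf_eq_prime hwp ha
  have hpow : ∀ g : G, ∃ k : ℕ, ψ g = w ^ k := by
    intro g
    have hne : (⟨w, hwG⟩ : commutator G) ≠ 1 := fun h => ha (congrArg Subtype.val h)
    have hmem : (⟨ψ g, hcomm_mem g x⟩ : commutator G) ∈
        Submonoid.powers (⟨w, hwG⟩ : commutator G) := mem_powers_of_prime_card hc hne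
    obtain ⟨k, hk⟩ := hmem
    exact ⟨k, (congrArg Subtype.val hk).symm⟩
  choose kf hkf using hpow
  have hgh : x * a = (x * a * x⁻¹ * a⁻¹) * a * x := by group
  have haxp : (a * x) ^ p = a ^ p := by
    obtain ⟨e, he, hpw⟩ := lm_pow_mul a x (x * a * x⁻¹ * a⁻¹) (hcen _ (hcomm_mem x a)) hgh p
    have hpe : p ∣ e := by
      have h2 : p ∣ 2 * e := by rw [he]; exact dvd_mul_right p (p - 1)
      have hcop : Nat.Coprime p 2 := (Nat.coprime_primes hp Nat.prime_two).mpr hodd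
      exact hcop.dvd_of_dvd_mul_left h2
    obtain ⟨t, rfl⟩ := hpe
    rw [hpw, pow_mul, hcomm_pow _ (hcomm_mem x a), one_pow, one_mul, hxp, mul_one]
  have hc_congr : ∀ k l : ℕ, w ^ k = w ^ l → etoC a x k = etoC a x l := by
    intro k l hkl
    have hmod : k % p = l % p := by
      have h1 : k ≡ l [MOD orderOf w] := pow_eq_pow_iff_modEq.mp hkl
      rw [hworder] at h1
      exact h1
    rw [etoC_mod a x p haxp k, etoC_mod a x p haxp l, hmod]
  have hc_comm : ∀ (k : ℕ) (m : G), m * x = x * m → m * etoC a x k = etoC a x k * m := by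
    intro k m hm
    obtain ⟨e, -, hpw⟩ := lm_pow_mul a x (x * a * x⁻¹ * a⁻¹) (hcen _ (hcomm_mem x a)) hgh k
    have h1 : etoC a x k = (x * a * x⁻¹ * a⁻¹) ^ e *
        (a ^ k * x ^ k * (a ^ k)⁻¹ * (x ^ k)⁻¹) * x ^ k := by
      unfold etoC
      rw [hpw]
      exact eto_aux1 _ _ _
    have c1 : Commute m ((x * a * x⁻¹ * a⁻¹) ^ e) :=
      ((show Commute (x * a * x⁻¹ * a⁻¹) m from hcen _ (hcomm_mem x a) m).pow_left e).symm
    have c2 : Commute m (a ^ k * x ^ k * (a ^ k)⁻¹ * (x ^ k)⁻¹) :=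
      (show Commute (a ^ k * x ^ k * (a ^ k)⁻¹ * (x ^ k)⁻¹) m from
        hcen _ (hcomm_mem (a ^ k) (x ^ k)) m).symm
    have c3 : Commute m (x ^ k) := (show Commute m x from hm).pow_right k
    rw [h1]
    exact ((c1.mul_right c2).mul_right c3).eq
  have hψc : ∀ k : ℕ, ψ (etoC a x k) = 1 := by
    intro k
    rw [hψ1]
    exact (hc_comm k x rfl).symm
  have hσmul : ∀ g h : G, etoC a x (kf (g * h)) * (g * h) =
      (etoC a x (kf g) * g) * (etoC a x (kf h) * h) := by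
    intro g h
    have hk : w ^ kf (g * h) = w ^ (kf g + kf h) := by
      rw [← hkf, map_mul, hkf g, hkf h, pow_add]
    rw [hc_congr _ _ hk, etoC_add]
    have hm : ((a ^ kf g)⁻¹ * g) * x = x * ((a ^ kf g)⁻¹ * g) := by
      rw [← hψ1, map_mul, map_inv, map_pow, ← hw, hkf g]
      exact inv_mul_cancel _
    have h3 := hc_comm (kf h) _ hm
    have h4 : a ^ kf g * etoC a x (kf h) * (a ^ kf g)⁻¹ * g = g * etoC a x (kf h) := by
      calc a ^ kf g * etoC a x (kf h) * (a ^ kf g)⁻¹ * g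
          = a ^ kf g * (etoC a x (kf h) * ((a ^ kf g)⁻¹ * g)) := by simp only [mul_assoc]
        _ = a ^ kf g * (((a ^ kf g)⁻¹ * g) * etoC a x (kf h)) := by rw [h3]
        _ = g * etoC a x (kf h) := by group
    calc etoC a x (kf g) * (a ^ kf g * etoC a x (kf h) * (a ^ kf g)⁻¹) * (g * h)
        = etoC a x (kf g) * ((a ^ kf g * etoC a x (kf h) * (a ^ kf g)⁻¹ * g) * h) := by
          simp only [mul_assoc]
      _ = etoC a x (kf g) * ((g * etoC a x (kf h)) * h) := by rw [h4]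
      _ = (etoC a x (kf g) * g) * (etoC a x (kf h) * h) := by simp only [mul_assoc]
  let σ₀ : G →* G := MonoidHom.mk' (fun g => etoC a x (kf g) * g) hσmul
  have hσ₀ : ∀ g, σ₀ g = etoC a x (kf g) * g := fun g => rfl
  have hψσ : ∀ g, ψ (σ₀ g) = ψ g := by
    intro g
    rw [hσ₀, map_mul, hψc, one_mul]
  have hinj : Function.Injective σ₀ := by
    rw [injective_iff_map_eq_one]
    intro g hg
    have h1 : ψ g = 1 := by rw [← hψσ, hg, map_one]
    have h2 : etoC a x (kf g) = etoC a x 0 := hc_congr _ _ (by rw [← hkf, h1, pow_zero])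
    rw [hσ₀, h2, etoC_zero, one_mul] at hg
    exact hg
  have hbij : Function.Bijective σ₀ := ⟨hinj, Finite.surjective_of_injective hinj⟩
  refine ⟨MulEquiv.ofBijective σ₀ hbij, ψ.ker, ?_, ?_, ?_⟩
  · rw [Subgroup.index_ker]
    have hle : ψ.range ≤ commutator G := by
      rintro _ ⟨g, rfl⟩
      exact hcomm_mem g x
    have hdvd : Nat.card ψ.range ∣ p := hc ▸ Subgroup.card_dvd_of_le hle
    rcases (Nat.dvd_prime hp).mp hdvd with h1 | h1
    · exfalso
      have hbot : ψ.range = ⊥ := Subgroup.card_eq_one.mp h1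
      have hwr : w ∈ ψ.range := ⟨a, hw.symm⟩
      rw [hbot, Subgroup.mem_bot] at hwr
      exact ha hwr
    · exact h1
  · intro g hg
    rw [MonoidHom.mem_ker, hψ1]
    exact (Subgroup.mem_center_iff.mp hg x).symm
  · intro g hgM hconj
    rw [MonoidHom.mem_ker] at hgM
    rw [isConj_iff] at hconj
    obtain ⟨h, hh⟩ := hconj
    have hh' : h * g * h⁻¹ = etoC a x (kf g) * g := hh
    have hcG : etoC a x (kf g) = h * g * h⁻¹ * g⁻¹ := by rw [hh']; group
    have hcZ : etoC a x (kf g) ∈ Subgroup.center G := hcG ▸ hZ (hcomm_mem h g)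
    obtain ⟨e, -, hpw⟩ := lm_pow_mul a x (x * a * x⁻¹ * a⁻¹) (hcen _ (hcomm_mem x a)) hgh (kf g)
    have hxk : x ^ kf g ∈ Subgroup.center G := by
      have h1 : x ^ kf g = ((x * a * x⁻¹ * a⁻¹) ^ e *
          (a ^ kf g * x ^ kf g * (a ^ kf g)⁻¹ * (x ^ kf g)⁻¹))⁻¹ * etoC a x (kf g) := by
        unfold etoC
        rw [hpw]
        exact eto_aux2 _ _ _
      rw [h1]
      exact Subgroup.mul_mem _ (Subgroup.inv_mem _ (Subgroup.mul_mem _
        (Subgroup.pow_mem _ (hZ (hcomm_mem x a)) e) (hZ (hcomm_mem _ _)))) hcZ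
    have hpk : ¬ p ∣ kf g := by
      rintro ⟨t, ht⟩
      apply hgM
      rw [hkf g, ht, pow_mul, hwp, one_pow]
    have hcop : Nat.Coprime (kf g) p := ((Nat.Prime.coprime_iff_not_dvd hp).mpr hpk).symm
    obtain ⟨j, -, hj⟩ := Nat.exists_mul_mod_eq_one_of_coprime hcop hp.one_lt
    apply hxZ
    have hx1 : x = (x ^ kf g) ^ j := by
      rw [← pow_mul, ← Nat.mod_add_div (kf g * j) p, hj, pow_add, pow_one, pow_mul, hxp, one_pow,
        mul_one]
    rw [hx1]
    exact Subgroup.pow_mem _ hxk j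

end Cfsg.Agent.Helper52.LM
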