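import Mathlib
import Cfsg.Agent.Helper87.MC3b
import Cfsg.Agent.Helper73.Mc3Four

/-!
# PIECE M4T of CALL S5289 BATCH 4: the structure of `mc3_four` for a subgroup `S` of `Ω`
-/

set_option autoImplicit false

namespace Cfsg.Agent.Helper52

open Cfsg.Agent.Helper87
open scoped commutatorElement

/-- `mc3_four` with two more conclusions: coordinates in `Z₂` and the last conjunct of
`mc3_four_transport`. -/
theorem mc3_four_plus {G : Type*} [Group G] {p : ℕ} {x : G} (h : MC3 G p 4 x) (hp2 : p ≠ 2) :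
    ∃ g : G,
      (∀ a ∈ Subgroup.upperCentralSeries G 2, a ^ p = 1) ∧
      (∀ y : G, y * x * y⁻¹ ∈ Subgroup.centralizer ({x} : Set G) →
        y ∈ Subgroup.upperCentralSeries G 2 ⊔ Subgroup.zpowers x) ∧
      (∀ a ∈ Subgroup.upperCentralSeries G 2, g * a = a * g) ∧
      g ∉ Subgroup.upperCentralSeries G 2 ⊔ Subgroup.zpowers x ∧
      g ^ p ∈ Subgroup.upperCentralSeries G 2 ∧
      (∀ y : G, ∃ i : ℕ, ∃ q ∈ Subgroup.upperCentralSeries G 2 ⊔ Subgroup.zpowers x,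
        y = g ^ i * q) ∧
      ⁅g, x⁆ ∈ Subgroup.upperCentralSeries G 2 ∧ ⁅g, x⁆ ∉ Subgroup.upperCentralSeries G 1 ∧
      ⁅⁅g, x⁆, x⁆ ≠ 1 ∧
      (∀ q ∈ Subgroup.upperCentralSeries G 2 ⊔ Subgroup.zpowers x, ∃ i j : ℕ,
        ∃ c ∈ Subgroup.upperCentralSeries G 1, q = ⁅g, x⁆ ^ i * x ^ j * c) ∧
      (∀ a ∈ Subgroup.upperCentralSeries G 2, ∃ i : ℕ,
        ∃ c ∈ Subgroup.upperCentralSeries G 1, a = ⁅g, x⁆ ^ i * c) ∧
      (∀ u : G, u ∉ Subgroup.upperCentralSeries G 2 ⊔ Subgroup.zpowers x →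
        ∀ q ∈ Subgroup.upperCentralSeries G 2 ⊔ Subgroup.zpowers x,
          ⁅u, q⁆ ∈ Subgroup.upperCentralSeries G 1 → q ∈ Subgroup.upperCentralSeries G 2) := by
  classical
  have hfin := h.fin
  have hpf : Fact p.Prime := ⟨h.prime⟩
  obtain ⟨-, hpow, hconj, g, hgc, hgQ, hgp, hdec, hm2, hm1, hmx, hcoord⟩ :=
    Cfsg.Agent.Helper73.mc3_four h hp2
  refine ⟨g, hpow, hconj, hgc, hgQ, hgp, hdec, hm2, hm1, hmx, hcoord, ?_, ?_⟩
  · intro a ha
    exact h.step_decomp (k := 1) (by norm_num) hm2 hm1 ha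
  · intro u hu q hq huq
    by_contra hq2
    obtain ⟨Q, hQ⟩ : ∃ Q : Subgroup G,
        Q = Subgroup.upperCentralSeries G 2 ⊔ Subgroup.zpowers x := ⟨_, rfl⟩
    rw [← hQ] at hu hq hgQ
    have hG : IsPGroup p G := h.isPGroup
    have hcZ2 : Nat.card (Subgroup.upperCentralSeries G 2) = p ^ 2 :=
      h.card_Z (k := 2) (by norm_num)
    have hp0 : 0 < p := h.prime.pos
    have hQtop : Q < ⊤ := by
      refine lt_top_iff_ne_top.mpr (fun e => hgQ ?_)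
      rw [e]
      exact Subgroup.mem_top g
    have hQle : p * Nat.card Q ≤ p ^ 4 := by
      have h1 := mc3_card_le_of_lt hG hQtop
      rwa [Subgroup.card_top, h.card] at h1
    have hlt : Subgroup.upperCentralSeries G 2
        < Subgroup.upperCentralSeries G 2 ⊔ Subgroup.zpowers q := by
      refine lt_of_le_of_ne le_sup_left ?_
      intro e
      apply hq2
      rw [e]
      exact Subgroup.mem_sup_right (Subgroup.mem_zpowers q)
    have hle : Subgroup.upperCentralSeries G 2 ⊔ Subgroup.zpowers q ≤ Q :=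
      sup_le (by rw [hQ]; exact le_sup_left) ((Subgroup.zpowers_le).mpr hq)
    have hcard1 := mc3_card_le_of_lt hG hlt
    rw [hcZ2] at hcard1
    have hQeq : Subgroup.upperCentralSeries G 2 ⊔ Subgroup.zpowers q = Q := by
      apply Subgroup.eq_of_le_of_card_ge hle
      have h1 : p * Nat.card Q ≤ p * (p * p ^ 2) := by
        rw [show p * (p * p ^ 2) = p ^ 4 by ring]
        exact hQle
      exact (Nat.le_of_mul_le_mul_left h1 hp0).trans hcard1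
    have hQu : Q ≤ mc3C u (Subgroup.upperCentralSeries G 1) := by
      rw [← hQeq]
      refine sup_le (MC3.upper_le_mc3C u 1) ((Subgroup.zpowers_le).mpr ?_)
      rw [mem_mc3C, ← commutatorElement_inv]
      exact Subgroup.inv_mem _ huq
    have hxQ : x ∈ Q := by
      rw [hQ]
      exact Subgroup.mem_sup_right (Subgroup.mem_zpowers x)
    have hxu : ⁅x, u⁆ ∈ Subgroup.upperCentralSeries G 1 := hQu hxQ
    have hux : u ∈ mc3C x (Subgroup.upperCentralSeries G 1) := by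
      rw [mem_mc3C, ← commutatorElement_inv]
      exact Subgroup.inv_mem _ hxu
    have hQx : Q ≤ mc3C x (Subgroup.upperCentralSeries G 1) := by
      rw [hQ]
      exact sup_le (MC3.upper_le_mc3C x 1) ((Subgroup.zpowers_le).mpr (mc3_self_mem x _))
    have hlt2 : Q < mc3C x (Subgroup.upperCentralSeries G 1) := by
      refine lt_of_le_of_ne hQx (fun e => hu ?_)
      rw [e]
      exact hux
    have hcard2 := mc3_card_le_of_lt hG hlt2
    have hQge : p * p ^ 2 ≤ Nat.card Q := hcard1.trans (Subgroup.card_le_of_le hle)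
    have htop : mc3C x (Subgroup.upperCentralSeries G 1) = ⊤ := by
      apply Subgroup.eq_top_of_card_eq
      apply le_antisymm (Subgroup.card_le_card_group _)
      rw [h.card]
      calc p ^ 4 = p * (p * p ^ 2) := by ring
        _ ≤ p * Nat.card Q := Nat.mul_le_mul_left p hQge
        _ ≤ _ := hcard2
    apply hm1
    have hg : g ∈ mc3C x (Subgroup.upperCentralSeries G 1) := by
      rw [htop]
      exact Subgroup.mem_top g
    exact hg

/-- PIECE M4T of CALL S5289 BATCH 4. -/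
theorem mc3_four_transport {Ω : Type*} [Group Ω] {S : Subgroup Ω} {p : ℕ} {x : S}
    (h : MC3 ↥S p 4 x) (hp2 : p ≠ 2) :
    ∃ (Z₁ Z₂ Q : Subgroup Ω) (g : Ω),
      Z₁ ≤ Z₂ ∧ Z₂ ≤ Q ∧ Q ≤ S ∧ (x : Ω) ∈ Q ∧ g ∈ S ∧ g ∉ Q ∧ g ^ p ∈ Z₂ ∧
      Nat.card Z₁ = p ∧
      (∀ u ∈ S, ∀ c ∈ Z₁, u * c = c * u) ∧
      (∀ u ∈ S, ∀ a ∈ Z₂, ⁅u, a⁆ ∈ Z₁) ∧
      (∀ u ∈ S, ∀ v ∈ S, ⁅u, v⁆ ∈ Z₂) ∧
      (∀ a ∈ Z₂, a ^ p = 1) ∧
      (∀ a ∈ Z₂, g * a = a * g) ∧
      (∀ y ∈ S, (y * (x : Ω) * y⁻¹) * (x : Ω) = (x : Ω) * (y * (x : Ω) * y⁻¹) → y ∈ Q) ∧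
      (∀ y ∈ S, ∃ i : ℕ, ∃ q ∈ Q, y = g ^ i * q) ∧
      ⁅g, (x : Ω)⁆ ∈ Z₂ ∧ ⁅g, (x : Ω)⁆ ∉ Z₁ ∧ ⁅⁅g, (x : Ω)⁆, (x : Ω)⁆ ≠ 1 ∧
      (∀ q ∈ Q, ∃ i j : ℕ, ∃ c ∈ Z₁, q = ⁅g, (x : Ω)⁆ ^ i * (x : Ω) ^ j * c) ∧
      (∀ a ∈ Z₂, ∃ i : ℕ, ∃ c ∈ Z₁, a = ⁅g, (x : Ω)⁆ ^ i * c) ∧
      (∀ u ∈ S, u ∉ Q → ∀ q ∈ Q, ⁅u, q⁆ ∈ Z₁ → q ∈ Z₂) := by
  classical
  have hfin := h.fin
  have hpf : Fact p.Prime := ⟨h.prime⟩
  obtain ⟨g, hpow, hconj, hgc, hgQ, hgp, hdec, hm2, hm1, hmx, hcoord, hZ2coord, hlast⟩ :=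
    mc3_four_plus h hp2
  have hinj := S.subtype_injective
  have hmem : ∀ (H : Subgroup ↥S) (w : ↥S), S.subtype w ∈ H.map S.subtype ↔ w ∈ H :=
    fun H w => Subgroup.mem_map_iff_mem hinj
  have hcomm : ∀ a b : ↥S, S.subtype ⁅a, b⁆ = ⁅S.subtype a, S.subtype b⁆ :=
    fun a b => map_commutatorElement S.subtype a b
  refine ⟨(Subgroup.upperCentralSeries ↥S 1).map S.subtype,
    (Subgroup.upperCentralSeries ↥S 2).map S.subtype,
    (Subgroup.upperCentralSeries ↥S 2 ⊔ Subgroup.zpowers x).map S.subtype, S.subtype g,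
    ?_, ?_, ?_, ?_, ?_, ?_, ?_, ?_, ?_, ?_, ?_, ?_, ?_, ?_, ?_, ?_, ?_, ?_, ?_, ?_, ?_⟩
  · exact Subgroup.map_mono (Subgroup.upperCentralSeries_mono ↥S (by norm_num))
  · exact Subgroup.map_mono le_sup_left
  · exact Subgroup.map_subtype_le _
  · exact (hmem _ x).mpr (Subgroup.mem_sup_right (Subgroup.mem_zpowers x))
  · exact g.2
  · exact fun hg => hgQ ((hmem _ g).mp hg)
  · rw [← map_pow]
    exact (hmem _ (g ^ p)).mpr hgp
  · rw [Subgroup.card_map_of_injective hinj]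
    have h1 := h.card_Z (k := 1) (by norm_num)
    rwa [pow_one] at h1
  · rintro u hu _ ⟨c, hc, rfl⟩
    rw [Subgroup.upperCentralSeries_one] at hc
    have h1 := Subgroup.mem_center_iff.mp hc ⟨u, hu⟩
    exact congrArg Subtype.val h1
  · rintro u hu _ ⟨a, ha, rfl⟩
    have h1 : ⁅(⟨u, hu⟩ : ↥S), a⁆ ∈ Subgroup.upperCentralSeries ↥S 1 := MC3.comm_mem_succ' ha _
    have h2 := (hmem _ _).mpr h1
    rw [hcomm] at h2
    exact h2
  · intro u hu v hv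
    have h1 : ⁅(⟨u, hu⟩ : ↥S), ⟨v, hv⟩⁆ ∈ Subgroup.upperCentralSeries ↥S 2 := h.top_comm _ _
    have h2 := (hmem _ _).mpr h1
    rw [hcomm] at h2
    exact h2
  · rintro _ ⟨a, ha, rfl⟩
    rw [← map_pow, hpow a ha, map_one]
  · rintro _ ⟨a, ha, rfl⟩
    exact congrArg Subtype.val (hgc a ha)
  · intro y hy hyx
    refine (hmem _ ⟨y, hy⟩).mpr (hconj ⟨y, hy⟩ ?_)
    rw [Subgroup.mem_centralizer_singleton_iff]
    apply Subtype.ext
    exact hyx
  · intro y hy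
    obtain ⟨i, q, hq, hyq⟩ := hdec ⟨y, hy⟩
    refine ⟨i, S.subtype q, (hmem _ q).mpr hq, ?_⟩
    have h1 := congrArg S.subtype hyq
    rw [map_mul, map_pow] at h1
    exact h1
  · have h2 := (hmem _ _).mpr hm2
    rw [hcomm] at h2
    exact h2
  · intro hc
    have hc' : S.subtype ⁅g, x⁆ ∈ (Subgroup.upperCentralSeries ↥S 1).map S.subtype := by
      rw [hcomm]
      exact hc
    exact hm1 ((hmem _ _).mp hc')
  · intro hc
    apply hmx
    apply hinj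
    rw [map_one, map_commutatorElement, map_commutatorElement]
    exact hc
  · rintro _ ⟨q, hq, rfl⟩
    obtain ⟨i, j, c, hc, hqc⟩ := hcoord q hq
    refine ⟨i, j, S.subtype c, (hmem _ c).mpr hc, ?_⟩
    have h1 := congrArg S.subtype hqc
    rw [map_mul, map_mul, map_pow, map_pow, map_commutatorElement] at h1
    exact h1
  · rintro _ ⟨a, ha, rfl⟩
    obtain ⟨i, c, hc, hac⟩ := hZ2coord a ha
    refine ⟨i, S.subtype c, (hmem _ c).mpr hc, ?_⟩
    have h1 := congrArg S.subtype hac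
    rw [map_mul, map_pow, map_commutatorElement] at h1
    exact h1
  · rintro u hu huQ _ ⟨q, hq, rfl⟩ huq
    refine (hmem _ q).mpr (hlast ⟨u, hu⟩ (fun hc => huQ ((hmem _ ⟨u, hu⟩).mpr hc)) q hq ?_)
    apply (hmem _ _).mp
    rw [hcomm]
    exact huq

end Cfsg.Agent.Helper52
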