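import Cfsg.Prelude.Def_Transfer
import Cfsg.Prelude.Def_Solvable
import Cfsg.Agent.Helper63.N15Defs

set_option autoImplicit false
set_option linter.unusedSectionVars false

namespace Cfsg.Agent.Helper52.N15

open Cfsg.Agent.Helper63.N15

variable {G : Type*} [Group G] [Finite G] {V : Type*} [AddCommGroup V] [Module (ZMod 3) V]
  [Finite V] {ρ : Representation (ZMod 3) G V} {R : Subgroup G} {b q₁ q₂ q₃ : G} {v₁ v₂ v₃ : V}

/-- the weight space of a function `φ` on `A` -/
def wt (ρ : Representation (ZMod 3) G V) (A : Subgroup G) (φ : ↥A → ZMod 3) :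
    Submodule (ZMod 3) V where
  carrier := {v | ∀ a : ↥A, ρ (a : G) v = φ a • v}
  add_mem' := by
    intro x y hx hy a
    rw [map_add, hx a, hy a, smul_add]
  zero_mem' := by
    intro a
    simp
  smul_mem' := by
    intro c x hx a
    rw [map_smul, hx a, smul_comm]

theorem rho_sq (ρ : Representation (ZMod 3) G V) (A : Subgroup G) (hA2 : ∀ x ∈ A, x ^ 2 = 1)
    (a : G) (ha : a ∈ A) (v : V) : ρ a (ρ a v) = v := by
  have h : ρ (a * a) v = ρ a (ρ a v) := by rw [map_mul]; rfl
  rw [← h, ← pow_two, hA2 a ha, map_one]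
  rfl

theorem rho_comm (ρ : Representation (ZMod 3) G V) (A : Subgroup G) (hA2 : ∀ x ∈ A, x ^ 2 = 1)
    (a a' : G) (ha : a ∈ A) (ha' : a' ∈ A) (v : V) : ρ a' (ρ a v) = ρ a (ρ a' v) := by
  have hc : a' * a = a * a' := by
    have h1 := hA2 a ha
    have h2 := hA2 a' ha'
    have h3 := hA2 (a * a') (A.mul_mem ha ha')
    rw [pow_two] at h1 h2 h3
    have h4 : a' * a = (a * a)⁻¹ * (a * ((a * a') * (a * a')) * a') * (a' * a')⁻¹ := by group
    rw [h4, h1, h2, h3]
    group
  have h : ρ (a' * a) v = ρ a' (ρ a v) := by rw [map_mul]; rfl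
  have h' : ρ (a * a') v = ρ a (ρ a' v) := by rw [map_mul]; rfl
  rw [← h, ← h', hc]

theorem dec_aux (ρ : Representation (ZMod 3) G V) (A : Subgroup G) (hA2 : ∀ x ∈ A, x ^ 2 = 1)
    (P : V → Prop) (hneg : ∀ v, P v → P (-v)) (hadd : ∀ u v, P u → P v → P (u + v))
    (heig : ∀ v, (∀ a : ↥A, ρ (a : G) v = v ∨ ρ (a : G) v = -v) → P v) : ∀ v, P v := by
  classical
  have := Fintype.ofFinite ↥A
  have key : ∀ s : Finset ↥A, ∀ v,
      (∀ a : ↥A, a ∉ s → (ρ (a : G) v = v ∨ ρ (a : G) v = -v)) → P v := by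
    intro s
    induction s using Finset.induction_on with
    | empty =>
      intro v hv
      exact heig v (fun a => hv a (Finset.notMem_empty a))
    | insert a s has ih =>
      intro v hv
      have hcomm : ∀ a' : ↥A, ρ (a' : G) (ρ (a : G) v) = ρ (a : G) (ρ (a' : G) v) :=
        fun a' => rho_comm ρ A hA2 a a' a.2 a'.2 v
      have haa : ρ (a : G) (ρ (a : G) v) = v := rho_sq ρ A hA2 a a.2 v
      have hp : P (v + ρ (a : G) v) := by
        apply ih
        intro a' ha'
        by_cases h : a' = a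
        · subst h
          left
          rw [map_add, haa, add_comm]
        · rcases hv a' (by simp [h, ha']) with h1 | h1
          · left
            rw [map_add, hcomm, h1]
          · right
            rw [map_add, hcomm, h1, map_neg, neg_add]
      have hm : P (v - ρ (a : G) v) := by
        apply ih
        intro a' ha'
        by_cases h : a' = a
        · subst h
          right
          rw [map_sub, haa, neg_sub]
        · rcases hv a' (by simp [h, ha']) with h1 | h1
          · left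
            rw [map_sub, hcomm, h1]
          · right
            rw [map_sub, hcomm, h1, map_neg]
            abel
      have h3 : v + v + v = 0 := by
        have h0 : ((1 : ZMod 3) + 1 + 1) • v = 0 := by
          rw [show ((1 : ZMod 3) + 1 + 1) = 0 by decide, zero_smul]
        rw [add_smul, add_smul, one_smul] at h0
        exact h0
      have hv' : v = -((v + ρ (a : G) v) + (v - ρ (a : G) v)) := by
        rw [eq_neg_iff_add_eq_zero]
        have : v + ((v + ρ (a : G) v) + (v - ρ (a : G) v)) = v + v + v := by abel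
        rw [this, h3]
      rw [hv']
      exact hneg _ (hadd _ _ hp hm)
  intro v
  exact key Finset.univ v (fun a ha => absurd (Finset.mem_univ a) ha)

theorem indep_aux (ρ : Representation (ZMod 3) G V) (A : Subgroup G) (m : ℕ)
    (W : Fin m → Submodule (ZMod 3) V) (χ : Fin m → G → ZMod 3)
    (h2 : ∀ i, ∀ v : V, v ∈ W i ↔ ∀ a ∈ A, ρ a v = χ i a • v)
    (h3 : ∀ i j, i ≠ j → ∃ a ∈ A, χ i a ≠ χ j a) :
    ∀ s : Finset (Fin m), ∀ f : Fin m → V, (∀ i, f i ∈ W i) → ∑ i ∈ s, f i = 0 →
      ∀ i ∈ s, f i = 0 := by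
  classical
  intro s
  induction s using Finset.induction_on with
  | empty =>
    intro f _ _ i hi
    exact absurd hi (Finset.notMem_empty i)
  | insert j s hj ih =>
    intro f hf hsum
    rw [Finset.sum_insert hj] at hsum
    have hs : ∀ i ∈ s, f i = 0 := by
      intro i₁ hi₁
      have hne : i₁ ≠ j := by
        rintro rfl
        exact hj hi₁
      obtain ⟨a, ha, hχ⟩ := h3 i₁ j hne
      have h1 : χ j a • f j + ∑ i ∈ s, χ i a • f i = 0 := by
        have := congrArg (ρ a) hsum
        rw [map_add, map_sum, map_zero] at this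
        rw [(h2 j (f j)).1 (hf j) a ha] at this
        rw [Finset.sum_congr rfl (fun i _ => (h2 i (f i)).1 (hf i) a ha)] at this
        exact this
      have h2' : ∑ i ∈ s, (χ i a - χ j a) • f i = 0 := by
        have e1 : χ j a • (f j + ∑ i ∈ s, f i) = 0 := by rw [hsum, smul_zero]
        rw [smul_add, Finset.smul_sum] at e1
        have : ∑ i ∈ s, (χ i a - χ j a) • f i =
            (χ j a • f j + ∑ i ∈ s, χ i a • f i) - (χ j a • f j + ∑ i ∈ s, χ j a • f i) := by
          simp only [sub_smul, Finset.sum_sub_distrib]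
          abel
        rw [this, h1, e1, sub_zero]
      have := ih (fun i => (χ i a - χ j a) • f i) (fun i => (W i).smul_mem _ (hf i)) h2' i₁ hi₁
      rcases smul_eq_zero.1 this with h | h
      · exact absurd (sub_eq_zero.1 h) hχ
      · exact h
    intro i hi
    rcases Finset.mem_insert.1 hi with rfl | hi
    · rw [Finset.sum_eq_zero (fun k hk => hs k hk), add_zero] at hsum
      exact hsum
    · exact hs i hi

theorem m1a (ρ : Representation (ZMod 3) G V) (A : Subgroup G) (hAn : A.Normal)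
    (hA2 : ∀ x ∈ A, x ^ 2 = 1) :
    ∃ (m : ℕ) (W : Fin m → Submodule (ZMod 3) V) (χ : Fin m → G → ZMod 3),
      IsWeightDec ρ A m W χ := by
  classical
  have : Finite {φ : ↥A → ZMod 3 // wt ρ A φ ≠ ⊥} := inferInstance
  let e : {φ : ↥A → ZMod 3 // wt ρ A φ ≠ ⊥} ≃ Fin (Nat.card {φ : ↥A → ZMod 3 // wt ρ A φ ≠ ⊥}) :=
    Finite.equivFin _
  refine ⟨Nat.card {φ : ↥A → ZMod 3 // wt ρ A φ ≠ ⊥}, fun i => wt ρ A (e.symm i).1,
    fun i g => if h : g ∈ A then (e.symm i).1 ⟨g, h⟩ else 0, ?_⟩
  have h2 : ∀ i, ∀ v : V, v ∈ wt ρ A (e.symm i).1 ↔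
      ∀ a ∈ A, ρ a v = (if h : a ∈ A then (e.symm i).1 ⟨a, h⟩ else 0) • v := by
    intro i v
    constructor
    · intro h a ha
      rw [dif_pos ha]
      exact h ⟨a, ha⟩
    · intro h a
      have := h a.1 a.2
      rw [dif_pos a.2] at this
      exact this
  have h3 : ∀ i j, i ≠ j → ∃ a ∈ A, (if h : a ∈ A then (e.symm i).1 ⟨a, h⟩ else 0) ≠
      (if h : a ∈ A then (e.symm j).1 ⟨a, h⟩ else 0) := by
    intro i j hij
    by_contra hcon
    push Not at hcon
    apply hij
    apply e.symm.injective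
    apply Subtype.ext
    funext a
    have := hcon a.1 a.2
    rw [dif_pos a.2, dif_pos a.2] at this
    exact this
  refine ⟨fun i => (e.symm i).2, h2, h3, ?_, ?_, ?_, ?_⟩
  · intro i a ha
    beta_reduce
    rw [dif_pos ha]
    obtain ⟨v, hv, hv0⟩ := (Submodule.ne_bot_iff _).1 (e.symm i).2
    have h1 : ρ a v = (e.symm i).1 ⟨a, ha⟩ • v := hv ⟨a, ha⟩
    have h2' : ρ a (ρ a v) = v := rho_sq ρ A hA2 a ha v
    rw [h1, map_smul, h1, smul_smul] at h2'
    have h3' : ((e.symm i).1 ⟨a, ha⟩ * (e.symm i).1 ⟨a, ha⟩ - 1) • v = 0 := by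
      rw [sub_smul, h2', one_smul, sub_self]
    rcases smul_eq_zero.1 h3' with h | h
    · generalize (e.symm i).1 ⟨a, ha⟩ = c at h
      revert c
      decide
    · exact absurd h hv0
  · apply dec_aux ρ A hA2 (fun v => ∃ f : Fin (Nat.card {φ : ↥A → ZMod 3 // wt ρ A φ ≠ ⊥}) → V,
      (∀ i, f i ∈ wt ρ A (e.symm i).1) ∧ v = ∑ i, f i)
    · rintro v ⟨f, hf, rfl⟩
      exact ⟨fun i => -f i, fun i => (wt ρ A _).neg_mem (hf i), by rw [Finset.sum_neg_distrib]⟩
    · rintro u v ⟨f, hf, rfl⟩ ⟨g, hg, rfl⟩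
      exact ⟨fun i => f i + g i, fun i => (wt ρ A _).add_mem (hf i) (hg i),
        by rw [Finset.sum_add_distrib]⟩
    · intro v hv
      by_cases hv0 : v = 0
      · exact ⟨fun _ => 0, fun i => (wt ρ A _).zero_mem, by simp [hv0]⟩
      · have hφ : v ∈ wt ρ A (fun a : ↥A => if ρ (a : G) v = v then (1 : ZMod 3) else -1) := by
          intro a
          show ρ (a : G) v = (if ρ (a : G) v = v then (1 : ZMod 3) else -1) • v
          split_ifs with h
          · rw [one_smul]
            exact h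
          · rcases hv a with h' | h'
            · exact absurd h' h
            · rw [neg_smul, one_smul]
              exact h'
        have hne : wt ρ A (fun a : ↥A => if ρ (a : G) v = v then (1 : ZMod 3) else -1) ≠ ⊥ :=
          (Submodule.ne_bot_iff _).2 ⟨v, hφ, hv0⟩
        refine ⟨Pi.single (e ⟨_, hne⟩) v, ?_, ?_⟩
        · intro i
          by_cases hi : i = e ⟨_, hne⟩
          · subst hi
            rw [Pi.single_eq_same, e.symm_apply_apply]
            exact hφ
          · rw [Pi.single_eq_of_ne hi]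
            exact (wt ρ A _).zero_mem
        · rw [Finset.sum_pi_single', if_pos (Finset.mem_univ _)]
  · intro f hf hsum i
    exact indep_aux ρ A _ _ _ h2 h3 Finset.univ f hf hsum i (Finset.mem_univ i)
  · intro g i
    have hconj : ∀ a : ↥A, g⁻¹ * (a : G) * g ∈ A := by
      intro a
      have := hAn.conj_mem a.1 a.2 g⁻¹
      simpa using this
    have hmap : ∀ v ∈ wt ρ A (e.symm i).1,
        ρ g v ∈ wt ρ A (fun a : ↥A => (e.symm i).1 ⟨g⁻¹ * (a : G) * g, hconj a⟩) := by
      intro v hv a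
      have h1 : (a : G) * g = g * (g⁻¹ * (a : G) * g) := by group
      have h2' := hv ⟨g⁻¹ * (a : G) * g, hconj a⟩
      have e1 : ρ (a : G) (ρ g v) = ρ ((a : G) * g) v := by rw [map_mul]; rfl
      have e2 : ρ (g * (g⁻¹ * (a : G) * g)) v = ρ g (ρ (g⁻¹ * (a : G) * g) v) := by
        rw [map_mul]; rfl
      rw [e1, h1, e2]
      show ρ g (ρ (g⁻¹ * (a : G) * g) v) = (e.symm i).1 ⟨g⁻¹ * (a : G) * g, hconj a⟩ • ρ g v
      rw [← map_smul]
      exact congrArg (ρ g) h2'
    obtain ⟨v, hv, hv0⟩ := (Submodule.ne_bot_iff _).1 (e.symm i).2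
    have hne : wt ρ A (fun a : ↥A => (e.symm i).1 ⟨g⁻¹ * (a : G) * g, hconj a⟩) ≠ ⊥ := by
      refine (Submodule.ne_bot_iff _).2 ⟨ρ g v, hmap v hv, ?_⟩
      intro h0
      apply hv0
      have : ρ g⁻¹ (ρ g v) = v := by
        have e1 : ρ (g⁻¹ * g) v = ρ g⁻¹ (ρ g v) := by rw [map_mul]; rfl
        rw [← e1, inv_mul_cancel, map_one]
        rfl
      rw [← this, h0, map_zero]
    refine ⟨e ⟨_, hne⟩, ?_⟩
    intro v hv
    beta_reduce at hv ⊢
    rw [e.symm_apply_apply]
    exact hmap v hv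

end Cfsg.Agent.Helper52.N15
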