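import Cfsg.Agent.Helper55.N9Defs

/-!
# CALL S4409 (helper55), piece C1c: the case where `K` centralizes `X`.
-/

set_option autoImplicit false
set_option linter.unusedSectionVars false

namespace Cfsg.Agent.Helper52.N9

open Subgroup Cfsg.Agent.Helper55.N9

variable {G : Type*} [Group G] [Finite G]

theorem n9_case_triv (X K : Subgroup G) (c : Core X K) (h : X ≤ centralizer (K : Set G)) :
    ∀ a ∈ X, ∀ b ∈ X, a * b = b * a := by
  have hK : ∀ k ∈ K, k = 1 := by
    intro k hk
    apply c.faith k hk
    intro x hx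
    exact mem_centralizer_iff.1 (h hx) k hk
  have ha8 := c.a8
  unfold NoA8 at ha8
  rw [not_not] at ha8
  obtain ⟨A, hA, hcomm, hnc, h8⟩ := ha8
  have hAX : A = X := by
    by_contra hne
    have hn : K ≤ normalizer (A : Set G) := by
      intro k hk
      rw [hK k hk]
      exact one_mem _
    exact c.hyp A hA hne hn ⟨A, le_refl A, hcomm, hnc, h8⟩
  subst hAX
  intro a ha b hb
  have h1 := mul_comm' (⟨a, ha⟩ : A) ⟨b, hb⟩
  exact congrArg Subtype.val h1

end Cfsg.Agent.Helper52.N9
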