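import Cfsg.Agent.Helper55.N9Defs
import Cfsg.Agent.Helper52.N9Aux

/-!
# CALL S4409 (helper55), piece NH: no `K`-invariant hyperplane of the centre contains `[X, X]`.
-/

set_option autoImplicit false
set_option linter.unusedSectionVars false
set_option linter.unusedVariables false

namespace Cfsg.Agent.Helper52.N9

open Subgroup Cfsg.Agent.Helper55.N9
open scoped commutatorElement

variable {G : Type*} [Group G] [Finite G]

theorem n9_no_hyper (T : Tools G) (X K : Subgroup G) (c : Core X K) (hXK : ⁅X, K⁆ = X)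
    (hni : NoIdx2 K X)
    (hsq : ∀ x ∈ X, x ^ 2 ∈ zc X)
    (hfrat : ∀ M : Subgroup G, M ≤ X → M.relIndex X = 2 → zc X ≤ M)
    (W : Subgroup G) (hW : W ≤ zc X) (hidx : W.relIndex (zc X) = 2)
    (hWK : K ≤ normalizer (W : Set G)) (hcomm : ⁅X, X⁆ ≤ W) : False := by
  have hWX : W ≤ X := hW.trans inf_le_left
  -- an element of the centre outside `W`
  obtain ⟨v, hvZ, hv⟩ := relIndex_eq_two_iff.1 hidx
  have hvW : v ∉ W := by
    have h1 := hv 1 (one_mem _)
    rw [one_mul] at h1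
    rcases h1 with ⟨h1, h2⟩ | ⟨h1, h2⟩
    · exact absurd (one_mem W) h2
    · exact h2
  have key : ∀ a ∈ zc X, ∀ b ∈ zc X, (a * b ∈ W ↔ (a ∈ W ↔ b ∈ W)) := by
    intro a ha b hb
    have h1 := mul_mem_iff_of_index_two (H := W.subgroupOf (zc X)) hidx (a := ⟨a, ha⟩)
      (b := ⟨b, hb⟩)
    simpa [mem_subgroupOf] using h1
  -- elements of `W` are central in `X`
  have hWc : ∀ w ∈ W, ∀ x ∈ X, x * w = w * x := by
    intro w hw x hx
    exact mem_centralizer_iff.1 (hW hw).2 x hx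
  have hmul : ∀ x ∈ X, ∀ y ∈ X, (x * y) ^ 2 = ⁅y, x⁆ * (x ^ 2 * y ^ 2) := by
    intro x hx y hy
    have hc : ⁅y, x⁆ ∈ W := hcomm (commutator_mem_commutator hy hx)
    have e1 : (x * y) ^ 2 = x * ⁅y, x⁆ * x * y ^ 2 := by
      rw [commutatorElement_def]
      simp only [pow_two]
      group
    rw [e1, hWc _ hc x hx]
    simp only [pow_two, mul_assoc]
  have hmulW : ∀ x ∈ X, ∀ y ∈ X, ((x * y) ^ 2 ∈ W ↔ x ^ 2 * y ^ 2 ∈ W) := by
    intro x hx y hy
    rw [hmul x hx y hy]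
    exact Subgroup.mul_mem_cancel_left W (hcomm (commutator_mem_commutator hy hx))
  let M : Subgroup G :=
    { carrier := {x | x ∈ X ∧ x ^ 2 ∈ W}
      one_mem' := ⟨one_mem _, by rw [one_pow]; exact one_mem _⟩
      mul_mem' := by
        rintro x y ⟨hx, hx2⟩ ⟨hy, hy2⟩
        exact ⟨mul_mem hx hy, (hmulW x hx y hy).2 (mul_mem hx2 hy2)⟩
      inv_mem' := by
        rintro x ⟨hx, hx2⟩
        refine ⟨inv_mem hx, ?_⟩
        rw [inv_pow]
        exact inv_mem hx2 }
  have hM_mem : ∀ x, x ∈ M ↔ x ∈ X ∧ x ^ 2 ∈ W := fun x => Iff.rfl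
  have hMX : M ≤ X := fun x hx => hx.1
  have hMK : K ≤ normalizer (M : Set G) := by
    rw [le_normalizer_iff]
    intro k hk x hx
    rw [hM_mem] at hx ⊢
    refine ⟨le_normalizer_iff.1 c.inv k hk x hx.1, ?_⟩
    have e : (k * x * k⁻¹) ^ 2 = k * x ^ 2 * k⁻¹ := by
      simp only [pow_two]
      group
    rw [e]
    exact le_normalizer_iff.1 hWK k hk _ hx.2
  by_cases hMeq : M = X
  · -- all squares lie in `W`
    have hsqW : ∀ x ∈ X, x ^ 2 ∈ W := by
      intro x hx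
      have hx' : x ∈ M := by rw [hMeq]; exact hx
      exact hx'.2
    have hXn : X ≤ normalizer (W : Set G) := by
      rw [le_normalizer_iff]
      intro x hx w hw
      rw [hWc w hw x hx, mul_inv_cancel_right]
      exact hw
    obtain ⟨M', hM'X, hM'idx, hWM', hvM'⟩ := T.hyper X W hWX hsqW hXn v hvZ.1 hvW
    exact hvM' (hfrat M' hM'X hM'idx hvZ)
  · -- `M` has index 2 and is `K`-invariant
    have hex : ∃ a ∈ X, a ∉ M := by
      by_contra hcon
      push Not at hcon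
      exact hMeq (le_antisymm hMX hcon)
    obtain ⟨a, haX, haM⟩ := hex
    have ha2 : a ^ 2 ∉ W := fun h => haM ⟨haX, h⟩
    have hidxM : M.relIndex X = 2 := by
      rw [relIndex_eq_two_iff]
      refine ⟨a, haX, ?_⟩
      intro b hb
      have h1 : (b * a) ^ 2 ∈ W ↔ (b ^ 2 ∈ W ↔ a ^ 2 ∈ W) := by
        rw [hmulW b hb a haX]
        exact key _ (hsq b hb) _ (hsq a haX)
      by_cases hb2 : b ^ 2 ∈ W
      · refine Or.inr ⟨⟨hb, hb2⟩, ?_⟩
        rintro ⟨-, h2⟩
        exact ha2 ((h1.1 h2).1 hb2)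
      · refine Or.inl ⟨⟨mul_mem hb haX, h1.2 ⟨fun h => absurd h hb2, fun h => absurd h ha2⟩⟩, ?_⟩
        rintro ⟨-, h2⟩
        exact hb2 h2
    exact hni M hMX hidxM hMK

end Cfsg.Agent.Helper52.N9
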