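import Mathlib
import Cfsg.Agent.Helper60.NCDefs

set_option autoImplicit false
set_option linter.unusedSectionVars false
open Subgroup

namespace Cfsg.Agent.Helper52.NCSMALLGOOD
open Cfsg.Agent.Helper60.NC

variable {G : Type*} [Group G] [Finite G] {r : ℕ} [Fact r.Prime] {N : Subgroup G} {m : ℕ}

theorem zpowers_pgroup {u : G} (hu : ∃ k : ℕ, u ^ r ^ k = 1) : IsPGroup r (zpowers u) := by
  obtain ⟨k, hk⟩ := hu
  rintro ⟨g, hg⟩
  obtain ⟨i, rfl⟩ := mem_zpowers_iff.1 hg
  refine ⟨k, Subtype.ext ?_⟩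
  simp only [Subgroup.coe_pow, Subgroup.coe_one]
  rw [← zpow_natCast, ← zpow_mul, mul_comm, zpow_mul, zpow_natCast, hk, one_zpow]

/-- a subgroup of the centre is normalised by everything -/
theorem le_normalizer_of_le_center (A Z : Subgroup G) (hZ : Z ≤ center G) : A ≤ normalizer (Z : Set G) := by
  intro g _
  rw [mem_normalizer_iff]
  intro h
  constructor
  · intro hh
    have : g * h * g⁻¹ = h := by
      have := mem_center_iff.1 (hZ hh) g
      rw [this, mul_inv_cancel_right]
    rw [this]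
    exact hh
  · intro hh
    have hz := mem_center_iff.1 (hZ hh)
    have : h = g * h * g⁻¹ := by
      have e := hz g⁻¹
      calc h = g⁻¹ * (g * h * g⁻¹) * g := by group
        _ = g * h * g⁻¹ * g⁻¹ * g := by rw [e]
        _ = g * h * g⁻¹ := by group
    rw [this]
    exact hh

theorem small_good (hc : Ctx G r N m) {y w : G} (hM : Mix G r N y w) (R' : Sylow r G)
    (hcard : Nat.card ↥((R' : Subgroup G) ⊓ centralizer ({y} : Set G)) =
      r ^ (Nat.card (centralizer ({y} : Set G))).factorization r)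
    (hsmall : Nat.card ↥((R' : Subgroup G) ⊓ centralizer ({y} : Set G)) ≤
      r * Nat.card ↥((R' : Subgroup G) ⊓ center G)) :
    ∀ u s : G, (∃ k : ℕ, u ^ r ^ k = 1) → u ∉ center G → (∃ k : ℕ, s ^ r ^ k = 1) →
      Commute u s → centralizer ({u} : Set G) ≤ centralizer ({s} : Set G) := by
  intro u s hu huZ hs hus
  have hr : r.Prime := Fact.out
  obtain ⟨Z1, hZ1⟩ : ∃ Z1 : Subgroup G, Z1 = (R' : Subgroup G) ⊓ center G := ⟨_, rfl⟩
  rw [← hZ1] at hsmall
  have hZ1Z : Z1 ≤ center G := by rw [hZ1]; exact inf_le_right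
  have hZ1p : IsPGroup r Z1 := by
    rw [hZ1]
    exact R'.isPGroup'.to_le inf_le_left
  -- the subgroups
  have hA : IsPGroup r (zpowers u ⊔ zpowers s : Subgroup G) := by
    apply IsPGroup.to_sup_of_normal_right' (zpowers_pgroup hu) (zpowers_pgroup hs)
    rw [zpowers_le]
    rw [mem_normalizer_iff]
    intro h
    constructor
    · intro hh
      obtain ⟨i, rfl⟩ := mem_zpowers_iff.1 hh
      have : u * s ^ i * u⁻¹ = s ^ i := by
        have hc' : Commute u (s ^ i) := hus.zpow_right i
        rw [hc'.eq, mul_inv_cancel_right]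
      rw [this]
      exact hh
    · intro hh
      obtain ⟨i, hi⟩ := mem_zpowers_iff.1 hh
      have hc' : Commute u (s ^ i) := hus.zpow_right i
      have : h = s ^ i := by
        have e : h = u⁻¹ * (u * h * u⁻¹) * u := by group
        rw [e, ← hi, mul_assoc, ← hc'.eq, inv_mul_cancel_left]
      rw [this]
      exact zpow_mem (mem_zpowers s) i
  have hT : IsPGroup r (zpowers u ⊔ zpowers s ⊔ Z1 : Subgroup G) :=
    IsPGroup.to_sup_of_normal_right' hA hZ1p (le_normalizer_of_le_center _ _ hZ1Z)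
  have hUT : zpowers u ⊔ Z1 ≤ zpowers u ⊔ zpowers s ⊔ Z1 :=
    sup_le (le_sup_of_le_left le_sup_left) le_sup_right
  have hU : IsPGroup r (zpowers u ⊔ Z1 : Subgroup G) := hT.to_le hUT
  have hcenC : center G ≤ centralizer ({u} : Set G) := center_le_centralizer _
  have hTle : zpowers u ⊔ zpowers s ⊔ Z1 ≤ centralizer ({u} : Set G) := by
    apply sup_le
    · apply sup_le
      · rw [zpowers_le]
        exact mem_centralizer_singleton_iff.2 rfl
      · rw [zpowers_le]
        exact mem_centralizer_singleton_iff.2 hus.eq.symm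
    · exact hZ1Z.trans hcenC
  have huN : u ∈ N := hc.hr u hu
  have hcu := hc.card_eq huN hM.yN huZ hM.yZ
  have hTcard : Nat.card ↥(zpowers u ⊔ zpowers s ⊔ Z1) ≤ r * Nat.card Z1 := by
    obtain ⟨j, hj⟩ := IsPGroup.iff_card.1 hT
    have hdvd : r ^ j ∣ Nat.card (centralizer ({u} : Set G)) := by
      rw [← hj]
      exact Subgroup.card_dvd_of_le hTle
    have h1 : r ^ j ≤ r ^ (Nat.card (centralizer ({u} : Set G))).factorization r :=
      Nat.pow_le_pow_right hr.pos
        ((hr.pow_dvd_iff_le_factorization Nat.card_pos.ne').1 hdvd)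
    rw [hj]
    rw [hcu, ← hcard] at h1
    exact h1.trans hsmall
  have hUcard : r * Nat.card Z1 ≤ Nat.card ↥(zpowers u ⊔ Z1) := by
    have hlt : Nat.card Z1 < Nat.card ↥(zpowers u ⊔ Z1) := by
      by_contra hge
      push Not at hge
      have heq : Z1 = zpowers u ⊔ Z1 := Subgroup.eq_of_le_of_card_ge le_sup_right hge
      apply huZ
      apply hZ1Z
      rw [heq]
      exact mem_sup_left (mem_zpowers u)
    obtain ⟨a, ha⟩ := IsPGroup.iff_card.1 hU
    obtain ⟨b, hb⟩ := IsPGroup.iff_card.1 hZ1p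
    rw [ha, hb] at hlt ⊢
    have hab : b < a := (Nat.pow_lt_pow_iff_right hr.one_lt).1 hlt
    calc r * r ^ b = r ^ (b + 1) := by rw [pow_succ, mul_comm]
      _ ≤ r ^ a := Nat.pow_le_pow_right hr.pos hab
  have hUeqT : zpowers u ⊔ Z1 = zpowers u ⊔ zpowers s ⊔ Z1 :=
    Subgroup.eq_of_le_of_card_ge hUT (hTcard.trans hUcard)
  have hsU : s ∈ zpowers u ⊔ Z1 := by
    rw [hUeqT]
    exact mem_sup_left (mem_sup_right (mem_zpowers s))
  have hUc : zpowers u ⊔ Z1 ≤ centralizer ((centralizer ({u} : Set G) : Subgroup G) : Set G) := by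
    apply sup_le
    · rw [zpowers_le, mem_centralizer_iff]
      intro d hd
      exact (mem_centralizer_singleton_iff.1 hd)
    · exact hZ1Z.trans (center_le_centralizer _)
  have hs2 := hUc hsU
  rw [mem_centralizer_iff] at hs2
  intro d hd
  rw [mem_centralizer_singleton_iff]
  exact hs2 d hd

end Cfsg.Agent.Helper52.NCSMALLGOOD
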