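import Mathlib
import Cfsg.Agent.Helper9.OrdTools
import Cfsg.Agent.Helper9.OrdTools2
import Cfsg.Agent.Helper8.SylFix
import Cfsg.Agent.S0985
import Cfsg.Agent.Helper66.O4320NA2
import Cfsg.Agent.Helper66.O4320PAR
import Cfsg.Agent.Helper55.O4320F1
import Cfsg.Agent.Helper55.O4320J
import Cfsg.Agent.Helper80.O4320TR
import Cfsg.Agent.Helper41.O4320TP
import Cfsg.Agent.Helper41.O4320CNT
import Cfsg.Agent.Helper4.O4320N1
import Cfsg.Agent.Helper53.O4320NA1
import Cfsg.Agent.Helper10.O4320RG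
import Cfsg.Agent.Helper4.O4320CR
import Cfsg.Agent.Helper8.O4320Y
import Cfsg.Agent.Helper53.O4320ST
import Cfsg.Agent.Helper74.O4320NA
import Cfsg.Agent.Helper4.O4320AB2
import Cfsg.Agent.Helper8.O4320AB3
import Cfsg.Agent.Helper53.O4320NS

/-!
# No simple group of order 4320

Assembly of the pieces contributed by the team (see the imports) with the Sylow
numerics: proper subgroups have index at least 9, there is no subgroup of index 10,
there are 40 Sylow 3-subgroups, their normalisers (of order 108) are maximal, and the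
two cases (abelian or not) for a Sylow 3-subgroup both lead to a contradiction.
-/

set_option autoImplicit false

namespace Cfsg.Agent.Helper52

variable {G : Type*} [Group G] [Finite G]

open Cfsg.Agent.Helper66 Cfsg.Agent.Helper55 Cfsg.Agent.Helper80 Cfsg.Agent.Helper41 Cfsg.Agent.Helper4 Cfsg.Agent.Helper53 Cfsg.Agent.Helper10 Cfsg.Agent.Helper8 Cfsg.Agent.Helper74

open Cfsg.Agent.Helper9 Cfsg.Agent.Helper9.OrdTools

/-- proper subgroups have index at least 9 -/
theorem o4320_index [IsSimpleGroup G] (hG : Nat.card G = 4320) (H : Subgroup G) (hH : H ≠ ⊤) :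
    9 ≤ H.index := by
  have h := card_dvd_factorial_index H hH
  rw [hG] at h
  by_contra hlt
  push Not at hlt
  have h0 : H.index ≠ 0 := Subgroup.index_ne_zero_of_finite
  interval_cases hi : H.index <;> revert h <;> decide

/-- no subgroup of index 10 -/
theorem o4320_no_index_ten [IsSimpleGroup G] (hG : Nat.card G = 4320)
    (hidx : ∀ H : Subgroup G, H ≠ ⊤ → 9 ≤ H.index)
    (h3 : Nat.card (Sylow 3 G) = 10 ∨ Nat.card (Sylow 3 G) = 40) (M : Subgroup G) :
    M.index ≠ 10 := by
  intro hM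
  have hnc := fun g => o4320_no_three_cycle hG hidx M hM g
  have hfix := fun Q => o4320_sylow3_fix_one hG M hM Q
  have : Fact (Nat.Prime 3) := ⟨by norm_num⟩
  obtain ⟨Q⟩ : Nonempty (Sylow 3 G) := inferInstance
  obtain ⟨a, ha, hau⟩ := hfix Q
  have htr := o4320_sylow3_trans hG M hM hnc Q a ha hau
  obtain ⟨h2t, h48⟩ := o4320_two_trans hG M hM ⟨a, fun x y hx hy => by
    obtain ⟨q, hq, hqx⟩ := htr x y hx hy
    exact ⟨q, ha q hq, hqx⟩⟩
  have hst := fun a b hab T hT hT3 hTn => o4320_steiner hG M hM hnc h2t h48 a b hab T hT hT3 hTn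
  have hcnt := o4320_count hG M hM hfix
  rcases h3 with h3 | h3
  · have h1 : Nat.card {Q : Sylow 3 G // (Q : Subgroup G) ≤ M} = 1 := by omega
    exact o4320_normal_sylow hG M hM h48 hst h1
  · have h4 : Nat.card {Q : Sylow 3 G // (Q : Subgroup G) ≤ M} = 4 := by omega
    obtain ⟨R, hRM, hR9, hRn⟩ := o4320_core9 hG M hM h4
    exact o4320_normal9 hG M hM h2t h48 hst (fun g hg => o4320_invol_parity hG M hM g hg)
      R hRM hR9 hRn

/-- the abelian case -/
theorem o4320_abelian [IsSimpleGroup G] (hG : Nat.card G = 4320)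
    (hidx : ∀ H : Subgroup G, H ≠ ⊤ → 9 ≤ H.index)
    (h10 : ∀ M : Subgroup G, M.index ≠ 10)
    (hC9 : ∀ P : Sylow 5 G,
      ¬ 9 ∣ Nat.card ↥(Subgroup.centralizer ((P : Subgroup G) : Set G)))
    (Q Q' : Sylow 3 G)
    (hab : ∀ x ∈ (Q : Subgroup G), ∀ y ∈ (Q : Subgroup G), x * y = y * x)
    (hQQ' : Q ≠ Q') (h9 : Nat.card ↥((Q : Subgroup G) ⊓ (Q' : Subgroup G)) = 9)
    (hmv : ∃ m ∈ Subgroup.normalizer ((Q : Subgroup G) : Set G),
      ∃ d ∈ (Q : Subgroup G) ⊓ (Q' : Subgroup G),
        m * d * m⁻¹ ∉ (Q : Subgroup G) ⊓ (Q' : Subgroup G)) : False := by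
  obtain ⟨T, hT, h7⟩ := o4320_abelian_seven hG Q Q' hab hQQ' h9 hmv
  exact o4320_cent_seven hG hidx h10 hC9 T hT h7

theorem o4320_arith5 (n : ℕ) (hd : n ∣ 864) (hm : n % 5 = 1) :
    n = 1 ∨ n = 6 ∨ n = 16 ∨ n = 36 ∨ n = 96 ∨ n = 216 := by
  obtain ⟨k, hk⟩ := hd
  by_cases hle : n ≤ 216
  · interval_cases n <;> omega
  · have hk3 : k ≤ 3 := by
      by_contra h
      push Not at h
      have : 217 * 4 ≤ n * k := Nat.mul_le_mul (by omega) (by omega)
      omega
    interval_cases k <;> omega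

theorem o4320_arith3 (n : ℕ) (hd : n ∣ 160) (hm : n % 3 = 1) :
    n = 1 ∨ n = 4 ∨ n = 10 ∨ n = 16 ∨ n = 40 ∨ n = 160 := by
  have hle : n ≤ 160 := Nat.le_of_dvd (by norm_num) hd
  obtain ⟨k, hk⟩ := hd
  interval_cases n <;> omega

open Subgroup in
/-- Sylow 5 numerics: no Sylow 5-subgroup has a centraliser of order divisible by 9 -/
theorem o4320_cent5 [IsSimpleGroup G] (hG : Nat.card G = 4320)
    (hidx : ∀ H : Subgroup G, H ≠ ⊤ → 9 ≤ H.index) (P : Sylow 5 G) :
    ¬ 9 ∣ Nat.card ↥(Subgroup.centralizer ((P : Subgroup G) : Set G)) := by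
  have : Fact (Nat.Prime 5) := ⟨by norm_num⟩
  have : Fact (Nat.Prime 3) := ⟨by norm_num⟩
  have hP : Nat.card (P : Subgroup G) = 5 := by
    have := sylow_card 1 864 (hG.trans (by norm_num)) (by norm_num) P
    simpa using this
  obtain ⟨hd, hm, hne, hN⟩ := sylow_num P (by rw [hP]; norm_num) (by rw [hP, hG]; norm_num)
  have hidxP : (P : Subgroup G).index = 864 := by
    have := (P : Subgroup G).card_mul_index
    rw [hP, hG] at this
    omega
  rw [hidxP] at hd
  obtain ⟨e, he, he1, hNe, -⟩ := normalizer_centralizer_prime P hP (by rw [hG]; norm_num)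
  have he4 : e ≤ 4 := Nat.le_of_dvd (by norm_num) he
  have hNidx : (normalizer ((P : Subgroup G) : Set G)).index = Nat.card (Sylow 5 G) :=
    (Sylow.card_eq_index_normalizer P).symm
  have hNtop : normalizer ((P : Subgroup G) : Set G) ≠ ⊤ := by
    intro h
    rw [h, Subgroup.index_top] at hNidx
    exact hne hNidx.symm
  have h9 := hidx _ hNtop
  rw [hNidx] at h9
  rw [hG] at hN
  intro hC9
  obtain ⟨c, hc⟩ := hC9
  have hcard : Nat.card ↥(centralizer ((P : Subgroup G) : Set G)) = 135 := by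
    rcases o4320_arith5 _ hd hm with h1 | h1 | h1 | h1 | h1 | h1
    · exact absurd h1 hne
    · omega
    · rw [h1, hNe, hc] at hN
      rw [hc]
      interval_cases e <;> omega
    · rw [h1, hNe, hc] at hN
      interval_cases e <;> omega
    · rw [h1, hNe, hc] at hN
      interval_cases e <;> omega
    · rw [h1, hNe, hc] at hN
      interval_cases e <;> omega
  -- |C(P)| = 135 : a Sylow 3 inside C(P)
  have h27 : 3 ^ 3 ∣ Nat.card ↥(centralizer ((P : Subgroup G) : Set G)) := by
    rw [hcard]; norm_num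
  obtain ⟨H, hH⟩ := Sylow.exists_subgroup_card_pow_prime 3 h27
  let H' : Subgroup G := H.map (centralizer ((P : Subgroup G) : Set G)).subtype
  have hH' : Nat.card ↥H' = 27 := by
    rw [Subgroup.card_map_of_injective (Subgroup.subtype_injective _), hH]; norm_num
  have hH'le : H' ≤ centralizer ((P : Subgroup G) : Set G) := Subgroup.map_subtype_le H
  have hpg : IsPGroup 3 ↥H' := IsPGroup.of_card (n := 3) (by rw [hH']; norm_num)
  obtain ⟨Q, hQ⟩ := hpg.exists_le_sylow
  have hQc : Nat.card (Q : Subgroup G) = 27 := by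
    have := sylow_card 3 160 (hG.trans (by norm_num)) (by norm_num) Q
    simpa using this
  have hQH : (Q : Subgroup G) = H' :=
    (Subgroup.eq_of_le_of_card_ge hQ (by rw [hH', hQc])).symm
  apply o4320_no_five_three hG hidx P Q
  intro x hx
  apply Subgroup.centralizer_le_normalizer
  rw [Subgroup.mem_centralizer_iff]
  intro q hq
  have hq' : q ∈ centralizer ((P : Subgroup G) : Set G) := hH'le (hQH ▸ hq)
  exact ((Subgroup.mem_centralizer_iff.mp hq') x hx).symm

open Subgroup in
/-- the number of Sylow 3-subgroups is 10 or 40 -/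
theorem o4320_n3 [IsSimpleGroup G] (hG : Nat.card G = 4320)
    (hidx : ∀ H : Subgroup G, H ≠ ⊤ → 9 ≤ H.index) :
    Nat.card (Sylow 3 G) = 10 ∨ Nat.card (Sylow 3 G) = 40 := by
  have : Fact (Nat.Prime 5) := ⟨by norm_num⟩
  have : Fact (Nat.Prime 3) := ⟨by norm_num⟩
  obtain ⟨Q⟩ : Nonempty (Sylow 3 G) := inferInstance
  have hQ : Nat.card (Q : Subgroup G) = 27 := by
    have := sylow_card 3 160 (hG.trans (by norm_num)) (by norm_num) Q
    simpa using this
  obtain ⟨hd, hm, hne, hN⟩ := sylow_num Q (by rw [hQ]; norm_num) (by rw [hQ, hG]; norm_num)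
  have hidxQ : (Q : Subgroup G).index = 160 := by
    have := (Q : Subgroup G).card_mul_index
    rw [hQ, hG] at this
    omega
  rw [hidxQ] at hd
  have hNidx : (normalizer ((Q : Subgroup G) : Set G)).index = Nat.card (Sylow 3 G) :=
    (Sylow.card_eq_index_normalizer Q).symm
  have hNtop : normalizer ((Q : Subgroup G) : Set G) ≠ ⊤ := by
    intro h
    rw [h, Subgroup.index_top] at hNidx
    exact hne hNidx.symm
  have h9 := hidx _ hNtop
  rw [hNidx] at h9
  rcases o4320_arith3 _ hd hm with h1 | h1 | h1 | h1 | h1 | h1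
  · exact absurd h1 hne
  · omega
  · exact Or.inl h1
  · exfalso
    obtain ⟨P⟩ : Nonempty (Sylow 5 G) := inferInstance
    have hfp := P.isPGroup'.card_modEq_card_fixedPoints (Sylow 3 G)
    rw [h1] at hfp
    have hpos : Nat.card ↑(MulAction.fixedPoints ↥(P : Subgroup G) (Sylow 3 G)) ≠ 0 := by
      intro h0
      rw [h0] at hfp
      exact absurd hfp (by decide)
    have hne' : Nonempty ↑(MulAction.fixedPoints ↥(P : Subgroup G) (Sylow 3 G)) := by
      by_contra hemp
      rw [not_nonempty_iff] at hemp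
      exact hpos Nat.card_of_isEmpty
    obtain ⟨⟨Q', hQ'⟩⟩ := hne'
    rw [MulAction.mem_fixedPoints] at hQ'
    apply o4320_no_five_three hG hidx P Q'
    intro x hx
    exact Sylow.smul_eq_iff_mem_normalizer.mp (hQ' ⟨x, hx⟩)
  · exact Or.inr h1
  · exact absurd h1 (o4320_n3_ne_160 hG)

open Subgroup in
/-- structure: `n3 = 40`, and the normaliser of a Sylow 3-subgroup has order 108 and is
maximal -/
theorem o4320_struct [IsSimpleGroup G] (hG : Nat.card G = 4320)
    (hidx : ∀ H : Subgroup G, H ≠ ⊤ → 9 ≤ H.index)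
    (h10 : ∀ M : Subgroup G, M.index ≠ 10) (Q : Sylow 3 G) :
    Nat.card (Sylow 3 G) = 40 ∧ Nat.card ↥(normalizer ((Q : Subgroup G) : Set G)) = 108 ∧
    ∀ K : Subgroup G, normalizer ((Q : Subgroup G) : Set G) ≤ K →
      K = normalizer ((Q : Subgroup G) : Set G) ∨ K = ⊤ := by
  have : Fact (Nat.Prime 3) := ⟨by norm_num⟩
  have hQ : Nat.card (Q : Subgroup G) = 27 := by
    have := sylow_card 3 160 (hG.trans (by norm_num)) (by norm_num) Q
    simpa using this
  obtain ⟨hd, hm, hne, hN⟩ := sylow_num Q (by rw [hQ]; norm_num) (by rw [hQ, hG]; norm_num)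
  have hNidx : (normalizer ((Q : Subgroup G) : Set G)).index = Nat.card (Sylow 3 G) :=
    (Sylow.card_eq_index_normalizer Q).symm
  have h40 : Nat.card (Sylow 3 G) = 40 := by
    rcases o4320_n3 hG hidx with h | h
    · exact absurd (hNidx.trans h) (h10 _)
    · exact h
  rw [h40, hG] at hN
  have hN108 : Nat.card ↥(normalizer ((Q : Subgroup G) : Set G)) = 108 := by omega
  refine ⟨h40, hN108, ?_⟩
  intro K hK
  by_cases hKtop : K = ⊤
  · exact Or.inr hKtop
  left
  have hK9 := hidx K hKtop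
  have hKd : K.index ∣ 40 := by
    have := Subgroup.index_dvd_of_le hK
    rwa [hNidx, h40] at this
  have hK10 := h10 K
  have hKle : K.index ≤ 40 := Nat.le_of_dvd (by norm_num) hKd
  have hKc := K.card_mul_index
  rw [hG] at hKc
  have hcases : K.index = 20 ∨ K.index = 40 := by
    obtain ⟨c, hc⟩ := hKd
    interval_cases hi : K.index <;> omega
  rcases hcases with h20 | h40'
  · exfalso
    rw [h20] at hKc
    have hK216 : Nat.card ↥K = 216 := by omega
    have hle := le_normalizer_of_card_two_mul hK (by rw [hK216, hN108])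
    have hle' : K ≤ normalizer ((Q : Subgroup G) : Set G) :=
      hle.trans (le_of_eq (Sylow.normalizer_normalizer Q))
    have := Subgroup.card_le_of_le hle'
    omega
  · rw [h40'] at hKc
    have hK108 : Nat.card ↥K = 108 := by omega
    exact (Subgroup.eq_of_le_of_card_ge hK (by rw [hK108, hN108])).symm

open Subgroup in
/-- two Sylow 3-subgroups meeting in a subgroup of order 9 -/
theorem o4320_pair (hG : Nat.card G = 4320) (h40 : Nat.card (Sylow 3 G) = 40) :
    ∃ Q Q' : Sylow 3 G, Q ≠ Q' ∧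
      Nat.card ↥((Q : Subgroup G) ⊓ (Q' : Subgroup G)) = 9 := by
  have : Fact (Nat.Prime 3) := ⟨by norm_num⟩
  have hmod : ¬ Nat.card (Sylow 3 G) ≡ 1 [MOD 3 ^ 2] := by
    rw [h40]; decide
  obtain ⟨Q, Q', hne, hi⟩ := Cfsg.Agent.S0985.result 3 2 hmod
  refine ⟨Q, Q', hne, ?_⟩
  have hQ : Nat.card (Q : Subgroup G) = 27 := by
    have := sylow_card 3 160 (hG.trans (by norm_num)) (by norm_num) Q
    simpa using this
  have hci := ((Q' : Subgroup G).subgroupOf (Q : Subgroup G)).card_mul_index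
  rw [hQ] at hci
  have hcard : Nat.card ↥((Q' : Subgroup G).subgroupOf (Q : Subgroup G)) =
      Nat.card ↥((Q : Subgroup G) ⊓ (Q' : Subgroup G)) := by
    rw [inf_comm, ← Subgroup.inf_subgroupOf_right]
    exact Nat.card_congr (Subgroup.subgroupOfEquivOfLe inf_le_right).toEquiv
  rw [hcard] at hci
  have hi1 : ((Q' : Subgroup G).subgroupOf (Q : Subgroup G)).index ≠ 1 := by
    intro h1
    rw [Subgroup.index_eq_one, Subgroup.subgroupOf_eq_top] at h1
    exact hne (Sylow.ext (Q.3 Q'.2 h1)).symm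
  have hi0 : ((Q' : Subgroup G).subgroupOf (Q : Subgroup G)).index ≠ 0 :=
    Subgroup.index_ne_zero_of_finite
  have hi3 : ((Q' : Subgroup G).subgroupOf (Q : Subgroup G)).index ≤ 3 := by simpa using hi
  interval_cases hidx : ((Q' : Subgroup G).subgroupOf (Q : Subgroup G)).index <;> omega

open Subgroup in
/-- some element of `N(Q)` moves `Q ⊓ Q'` -/
theorem o4320_move [IsSimpleGroup G] (hG : Nat.card G = 4320) (Q Q' : Sylow 3 G)
    (hmax : ∀ K : Subgroup G, Subgroup.normalizer ((Q : Subgroup G) : Set G) ≤ K →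
      K = Subgroup.normalizer ((Q : Subgroup G) : Set G) ∨ K = ⊤)
    (hQQ' : Q ≠ Q') (h9 : Nat.card ↥((Q : Subgroup G) ⊓ (Q' : Subgroup G)) = 9) :
    ∃ m ∈ Subgroup.normalizer ((Q : Subgroup G) : Set G),
      ∃ d ∈ (Q : Subgroup G) ⊓ (Q' : Subgroup G),
        m * d * m⁻¹ ∉ (Q : Subgroup G) ⊓ (Q' : Subgroup G) := by
  have : Fact (Nat.Prime 3) := ⟨by norm_num⟩
  by_contra hcon
  push Not at hcon
  set D : Subgroup G := (Q : Subgroup G) ⊓ (Q' : Subgroup G) with hD
  have hQ' : Nat.card (Q' : Subgroup G) = 27 := by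
    have := sylow_card 3 160 (hG.trans (by norm_num)) (by norm_num) Q'
    simpa using this
  have hND : normalizer ((Q : Subgroup G) : Set G) ≤ normalizer (D : Set G) := by
    intro m hm
    rw [Subgroup.mem_normalizer_iff]
    intro d
    constructor
    · exact hcon m hm d
    · intro hd
      have := hcon m⁻¹ (inv_mem hm) _ hd
      simpa [mul_assoc] using this
  have hDn : (D.subgroupOf (Q' : Subgroup G)).Normal := by
    apply Subgroup.normal_of_index_eq_minFac_card
    have hci := (D.subgroupOf (Q' : Subgroup G)).card_mul_index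
    rw [hQ', Nat.card_congr (Subgroup.subgroupOfEquivOfLe (inf_le_right : D ≤ _)).toEquiv,
      h9] at hci
    rw [hQ']
    have : (27 : ℕ).minFac = 3 := by norm_num
    rw [this]
    omega
  have hQ'D : (Q' : Subgroup G) ≤ normalizer (D : Set G) := by
    have hconj : ∀ c ∈ (Q' : Subgroup G), ∀ a ∈ D, c * a * c⁻¹ ∈ D := by
      intro c hc a ha
      have := hDn.conj_mem ⟨a, (inf_le_right : D ≤ _) ha⟩ (Subgroup.mem_subgroupOf.mpr ha) ⟨c, hc⟩
      exact Subgroup.mem_subgroupOf.mp this
    intro c hc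
    rw [Subgroup.mem_normalizer_iff]
    intro a
    constructor
    · exact hconj c hc a
    · intro ha
      have := hconj c⁻¹ (inv_mem hc) _ ha
      simpa [mul_assoc] using this
  rcases hmax _ hND with h | h
  · rw [h] at hQ'D
    exact hQQ' (Cfsg.Agent.Helper8.SylFix.eq_of_le_normalizer Q' Q hQ'D)
  · rw [Subgroup.normalizer_eq_top_iff] at h
    rcases h.eq_bot_or_eq_top with h' | h'
    · rw [h', Subgroup.card_bot] at h9
      omega
    · rw [h', Subgroup.card_top, hG] at h9
      omega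

/-- no simple group of order 4320 -/
theorem o4320_main [IsSimpleGroup G] (hG : Nat.card G = 4320) : False := by
  have hidx := fun H hH => o4320_index hG H hH
  have h3 := o4320_n3 hG hidx
  have h10 := fun M => o4320_no_index_ten hG hidx h3 M
  have hC9 := fun P => o4320_cent5 hG hidx P
  have : Fact (Nat.Prime 3) := ⟨by norm_num⟩
  obtain ⟨Q0⟩ : Nonempty (Sylow 3 G) := inferInstance
  obtain ⟨h40, -, -⟩ := o4320_struct hG hidx h10 Q0
  obtain ⟨Q, Q', hQQ', h9⟩ := o4320_pair hG h40
  obtain ⟨-, hN, hmax⟩ := o4320_struct hG hidx h10 Q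
  have hmv := o4320_move hG Q Q' hmax hQQ' h9
  by_cases hab : ∀ x ∈ (Q : Subgroup G), ∀ y ∈ (Q : Subgroup G), x * y = y * x
  · exact o4320_abelian hG hidx h10 hC9 Q Q' hab hQQ' h9 hmv
  · exact o4320_nonabelian hG Q Q' hab hmax hN hQQ' h9 hmv

end Cfsg.Agent.Helper52
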