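import Mathlib
import Cfsg.Agent.Helper84.P4Defs
import Cfsg.Agent.Helper2.PGroup
import Cfsg.Agent.Helper47.Coprime

/-!
# PIECE B1 of CALL S5188 (helper84): groups of order `p^4` with `|Φ| = p^2`, `|G'| = p`

`p4_two_gen_comm_p`: the chain `G' ≤ Φ(G) ≤ {x | x^p ∈ G'}` is characteristic with orders
`p, p^2, p^3`.
-/

set_option autoImplicit false

namespace Cfsg.Agent.Helper52

open Cfsg.Agent.Helper84

/-- The subgroup `{x | x ^ p ∈ G'}`. -/
theorem p4aux_powsub {G : Type*} [Group G] (p : ℕ) :
    ∃ M : Subgroup G, (∀ x, x ∈ M ↔ x ^ p ∈ commutator G) ∧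
      M = ((powMonoidHom p : Abelianization G →* Abelianization G).ker).comap
        Abelianization.of := by
  refine ⟨_, fun x => ?_, rfl⟩
  rw [Subgroup.mem_comap, MonoidHom.mem_ker, powMonoidHom_apply, ← map_pow, ← MonoidHom.mem_ker,
    Abelianization.ker_of]

/-- PIECE B1 of CALL S5188. -/
theorem p4_two_gen_comm_p {G : Type*} [Group G] [Finite G] (p : ℕ) [Fact p.Prime]
    (hG : Nat.card G = p ^ 4) (hd : Nat.card (frattini G) = p ^ 2)
    (hc : Nat.card (commutator G) = p) : CharChain4 p G := by
  have hp : p.Prime := Fact.out
  have hPG : IsPGroup p G := IsPGroup.of_card hG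
  have hcf : commutator G ≤ frattini G := Helper2.commutator_le_frattini_of_isPGroup hPG
  obtain ⟨M, hM, hMdef⟩ := p4aux_powsub (G := G) p
  have hAchar : (commutator G).Characteristic := by
    rw [commutator_def]
    infer_instance
  have hsurj : Function.Surjective (Abelianization.of : G →* Abelianization G) :=
    QuotientGroup.mk_surjective
  -- cardinalities in the abelianization
  have hQ : Nat.card (Abelianization G) = p ^ 3 := by
    have h1 : (commutator G).index * Nat.card (commutator G) = Nat.card G :=
      Subgroup.index_mul_card _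
    rw [hc, hG, Subgroup.index_eq_card] at h1
    have h2 : Nat.card (G ⧸ commutator G) * p = p ^ 3 * p := by rw [h1]; ring
    exact Nat.eq_of_mul_eq_mul_right hp.pos h2
  set Φb : Subgroup (Abelianization G) := (frattini G).map Abelianization.of with hΦb
  have hΦbcard : Nat.card Φb = p := by
    have h1 : (Φb.comap Abelianization.of) = frattini G := by
      rw [hΦb, Subgroup.comap_map_eq, Abelianization.ker_of, sup_eq_left]
      exact hcf
    have h2 : Φb.index = (frattini G).index := by
      rw [← h1, Subgroup.index_comap_of_surjective _ hsurj]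
    have h3 : (frattini G).index * Nat.card (frattini G) = Nat.card G := Subgroup.index_mul_card _
    rw [hd, hG] at h3
    have h4 : (frattini G).index = p ^ 2 := by
      have : (frattini G).index * p ^ 2 = p ^ 2 * p ^ 2 := by rw [h3]; ring
      exact Nat.eq_of_mul_eq_mul_right (pow_pos hp.pos 2) this
    have h5 : Φb.index * Nat.card Φb = Nat.card (Abelianization G) := Subgroup.index_mul_card _
    rw [h2, h4, hQ] at h5
    have h6 : p ^ 2 * Nat.card Φb = p ^ 2 * p := by rw [h5]; ring
    exact Nat.eq_of_mul_eq_mul_left (pow_pos hp.pos 2) h6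
  have hrange : (powMonoidHom p : Abelianization G →* Abelianization G).range ≤ Φb := by
    rintro _ ⟨y, rfl⟩
    obtain ⟨x, rfl⟩ := hsurj y
    rw [powMonoidHom_apply, ← map_pow]
    exact Subgroup.mem_map_of_mem _ (Helper2.pow_mem_frattini_of_isPGroup hPG x)
  have hrcard : Nat.card (powMonoidHom p : Abelianization G →* Abelianization G).range = p := by
    have h1 : Nat.card (powMonoidHom p : Abelianization G →* Abelianization G).range ∣ p := by
      have h0 := Subgroup.card_dvd_of_le hrange
      rwa [hΦbcard] at h0
    rcases (Nat.dvd_prime hp).mp h1 with h | h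
    · exfalso
      have hbot : (powMonoidHom p : Abelianization G →* Abelianization G).range = ⊥ :=
        Subgroup.card_eq_one.mp h
      have hall : ∀ x : G, (Abelianization.of x) ^ p = 1 := by
        intro x
        have : (powMonoidHom p : Abelianization G →* Abelianization G) (Abelianization.of x) ∈
            (powMonoidHom p : Abelianization G →* Abelianization G).range := ⟨_, rfl⟩
        rw [hbot, Subgroup.mem_bot] at this
        exact this
      have hle := Helper47.frattini_le_ker p (Abelianization.of : G →* Abelianization G) hall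
      rw [Abelianization.ker_of] at hle
      have := Subgroup.card_le_of_le hle
      rw [hd, hc] at this
      have h2 : p < p ^ 2 := by
        have := hp.one_lt
        nlinarith
      omega
    · exact h
  have hMidx : M.index = p := by
    rw [hMdef, Subgroup.index_comap_of_surjective _ hsurj, Subgroup.index_ker, hrcard]
  have hMcard : Nat.card M = p ^ 3 := by
    have h1 : M.index * Nat.card M = Nat.card G := Subgroup.index_mul_card _
    rw [hMidx, hG] at h1
    have h2 : p * Nat.card M = p * p ^ 3 := by rw [h1]; ring
    exact Nat.eq_of_mul_eq_mul_left hp.pos h2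
  have hΦM : frattini G ≤ M := by
    intro x hx
    rw [hM, ← Abelianization.ker_of, MonoidHom.mem_ker, map_pow]
    have hxb : Abelianization.of x ∈ Φb := Subgroup.mem_map_of_mem _ hx
    have h1 : (⟨Abelianization.of x, hxb⟩ : Φb) ^ p = 1 := by
      have h0 : (⟨Abelianization.of x, hxb⟩ : Φb) ^ Nat.card Φb = 1 := pow_card_eq_one'
      rwa [hΦbcard] at h0
    exact congrArg Subtype.val h1
  have hMchar : M.Characteristic := by
    rw [Subgroup.characteristic_iff_le_comap]
    intro φ x hx
    rw [Subgroup.mem_comap, hM]
    rw [hM] at hx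
    have h1 := (Subgroup.characteristic_iff_le_comap.mp hAchar φ) hx
    rw [Subgroup.mem_comap] at h1
    simpa using h1
  exact ⟨commutator G, frattini G, M, hAchar, inferInstance, hMchar, hcf, hΦM, hc, hd, hMcard⟩

end Cfsg.Agent.Helper52
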