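import Mathlib
import Cfsg.Agent.Helper84.P4Defs
import Cfsg.Agent.Helper2.PGroup

/-!
# PIECE B2 of CALL S5188 (helper84): groups of order `p^4` with `|Φ| = |G'| = p^2`

`p4_two_gen_comm_sq`: the chain `⁅G', G⁆ ≤ G' ≤ C_G(G')` is characteristic with orders
`p, p^2, p^3`.
-/

set_option autoImplicit false

namespace Cfsg.Agent.Helper52

open Cfsg.Agent.Helper84

open scoped commutatorElement

/-- In a group of order `p^4`, a subgroup properly containing a subgroup of order `≥ p^3` is
everything. -/
theorem p4aux_eq_top {G : Type*} [Group G] [Finite G] (p : ℕ) [Fact p.Prime]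
    (hG : Nat.card G = p ^ 4) (K H : Subgroup G) (hK : p ^ 3 ≤ Nat.card K) (hKH : K ≤ H)
    (y : G) (hyH : y ∈ H) (hyK : y ∉ K) : H = ⊤ := by
  have hp : p.Prime := Fact.out
  have hdvd : Nat.card H ∣ p ^ 4 := hG ▸ Subgroup.card_subgroup_dvd_card H
  obtain ⟨j, hj, hcard⟩ := (Nat.dvd_prime_pow hp).mp hdvd
  have hlt : Nat.card K < Nat.card H := by
    rcases Nat.lt_or_ge (Nat.card K) (Nat.card H) with h | h
    · exact h
    · exact absurd ((Subgroup.eq_of_le_of_card_ge hKH h) ▸ hyH) hyK
  have h3 : p ^ 3 < p ^ j := by rw [← hcard]; exact lt_of_le_of_lt hK hlt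
  have hj3 : 3 < j := (Nat.pow_lt_pow_iff_right hp.one_lt).mp h3
  have hj4 : j = 4 := by omega
  apply Subgroup.eq_top_of_card_eq
  rw [hcard, hj4, hG]

/-- Adjoining an outside element to a subgroup of order `≥ p^2` gives order `≥ p^3`. -/
theorem p4aux_card_sup {G : Type*} [Group G] [Finite G] (p : ℕ) [Fact p.Prime]
    (hG : Nat.card G = p ^ 4) (Z0 : Subgroup G) (hZ0 : p ^ 2 ≤ Nat.card Z0) (x : G)
    (hx : x ∉ Z0) : p ^ 3 ≤ Nat.card (Z0 ⊔ Subgroup.zpowers x : Subgroup G) := by
  have hp : p.Prime := Fact.out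
  have hdvd : Nat.card (Z0 ⊔ Subgroup.zpowers x : Subgroup G) ∣ p ^ 4 :=
    hG ▸ Subgroup.card_subgroup_dvd_card _
  obtain ⟨j, hj, hcard⟩ := (Nat.dvd_prime_pow hp).mp hdvd
  have hxs : x ∈ Z0 ⊔ Subgroup.zpowers x := Subgroup.mem_sup_right (Subgroup.mem_zpowers x)
  have hlt : Nat.card Z0 < Nat.card (Z0 ⊔ Subgroup.zpowers x : Subgroup G) := by
    rcases Nat.lt_or_ge (Nat.card Z0) (Nat.card (Z0 ⊔ Subgroup.zpowers x : Subgroup G)) with h | h
    · exact h
    · exact absurd ((Subgroup.eq_of_le_of_card_ge le_sup_left h) ▸ hxs) hx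
  have h2 : p ^ 2 < p ^ j := by rw [← hcard]; exact lt_of_le_of_lt hZ0 hlt
  have hj2 : 2 < j := (Nat.pow_lt_pow_iff_right hp.one_lt).mp h2
  rw [hcard]
  exact Nat.pow_le_pow_right hp.pos hj2

/-- In a nilpotent group, `⁅N, G⁆ ≠ N` for a nontrivial subgroup `N`. -/
theorem p4aux_comm_ne {G : Type*} [Group G] [hnil : Group.IsNilpotent G] (N : Subgroup G)
    (hN : N ≠ ⊥) : ⁅N, (⊤ : Subgroup G)⁆ ≠ N := by
  intro h
  obtain ⟨n, hn⟩ := Subgroup.nilpotent_iff_lowerCentralSeries.mp hnil
  have hall : ∀ m, N ≤ (⊤ : Subgroup G).lowerCentralSeries m := by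
    intro m
    induction m with
    | zero => exact le_top
    | succ m ih =>
      rw [Subgroup.lowerCentralSeries_succ]
      calc N = ⁅N, (⊤ : Subgroup G)⁆ := h.symm
        _ ≤ _ := Subgroup.commutator_mono ih le_rfl
  have := hall n
  rw [hn, le_bot_iff] at this
  exact hN this

/-- PIECE B2 of CALL S5188. -/
theorem p4_two_gen_comm_sq {G : Type*} [Group G] [Finite G] (p : ℕ) [Fact p.Prime]
    (hG : Nat.card G = p ^ 4) (hd : Nat.card (frattini G) = p ^ 2)
    (hc : Nat.card (commutator G) = p ^ 2) : CharChain4 p G := by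
  have hp : p.Prime := Fact.out
  have hPG : IsPGroup p G := IsPGroup.of_card hG
  have hnil : Group.IsNilpotent G := hPG.isNilpotent
  have hcf : commutator G ≤ frattini G := Helper2.commutator_le_frattini_of_isPGroup hPG
  have hDF : commutator G = frattini G := Subgroup.eq_of_le_of_card_ge hcf (by rw [hd, hc])
  have hDchar : (commutator G).Characteristic := by
    rw [commutator_def]
    infer_instance
  have hpp : p < p ^ 2 := by
    have := hp.one_lt
    nlinarith
  have hDn : (commutator G).Normal := inferInstance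
  set D : Subgroup G := commutator G with hDdef
  set L : Subgroup G := ⁅D, (⊤ : Subgroup G)⁆ with hLdef
  have hLD : L ≤ D := Subgroup.commutator_le_left D ⊤
  have hDne : D ≠ ⊥ := by
    intro h
    rw [h, Subgroup.card_bot] at hc
    have h2 : 1 < p ^ 2 := Nat.one_lt_pow (by norm_num) hp.one_lt
    omega
  have hLneD : L ≠ D := p4aux_comm_ne D hDne
  have hDcomm : ∀ a ∈ D, ∀ b ∈ D, a * b = b * a := by
    intro a ha b hb
    have := (IsPGroup.isMulCommutative_of_card_eq_prime_sq (G := D) hc).is_comm.comm
      ⟨a, ha⟩ ⟨b, hb⟩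
    exact congrArg Subtype.val this
  -- `L ≠ ⊥`
  have hLne : L ≠ ⊥ := by
    intro hL
    have hDZ : D ≤ Subgroup.center G := by
      have := Subgroup.commutator_eq_bot_iff_le_centralizer.mp hL
      rwa [Subgroup.coe_top, Subgroup.centralizer_univ] at this
    have hnc : ∃ x y : G, x * y ≠ y * x := by
      by_contra hcon
      push Not at hcon
      apply hDne
      rw [hDdef, commutator_def, Subgroup.commutator_eq_bot_iff_le_centralizer]
      intro g _
      rw [Subgroup.mem_centralizer_iff]
      intro h _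
      exact hcon h g
    obtain ⟨x, y, hxy⟩ := hnc
    have hcD : ⁅x, y⁆ ∈ D :=
      Subgroup.commutator_mem_commutator (Subgroup.mem_top x) (Subgroup.mem_top y)
    have hcZ : ⁅x, y⁆ ∈ Subgroup.center G := hDZ hcD
    set K : Subgroup G := Subgroup.zpowers ⁅x, y⁆ with hKdef
    have hKZ : K ≤ Subgroup.center G := by
      rw [hKdef, Subgroup.zpowers_le]
      exact hcZ
    have hKn : K.Normal := by
      refine ⟨fun n hn g => ?_⟩
      have h1 := Subgroup.mem_center_iff.mp (hKZ hn) g
      rw [h1, mul_inv_cancel_right]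
      exact hn
    have hqsurj : Function.Surjective (QuotientGroup.mk' K) := QuotientGroup.mk'_surjective K
    have hqxy : QuotientGroup.mk' K x * QuotientGroup.mk' K y
        = QuotientGroup.mk' K y * QuotientGroup.mk' K x := by
      have h1 : QuotientGroup.mk' K ⁅x, y⁆ = 1 :=
        (QuotientGroup.eq_one_iff _).mpr (Subgroup.mem_zpowers _)
      rw [map_commutatorElement, commutatorElement_eq_one_iff_mul_comm] at h1
      exact h1
    have hxZ : x ∉ Subgroup.center G := fun h => hxy ((Subgroup.mem_center_iff.mp h y).symm)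
    have hyZ : y ∉ Subgroup.center G := fun h => hxy (Subgroup.mem_center_iff.mp h x)
    have hZcard : p ^ 2 ≤ Nat.card (Subgroup.center G) := by
      rw [← hc]
      exact Subgroup.card_le_of_le hDZ
    have hK1card := p4aux_card_sup p hG (Subgroup.center G) hZcard x hxZ
    have hK2card := p4aux_card_sup p hG (Subgroup.center G) hZcard y hyZ
    have hyK1 : y ∉ Subgroup.center G ⊔ Subgroup.zpowers x := by
      intro hy
      have hle : Subgroup.center G ⊔ Subgroup.zpowers x ≤ Subgroup.centralizer {x} := by
        refine sup_le (Subgroup.center_le_centralizer _) ?_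
        rw [Subgroup.zpowers_le, Subgroup.mem_centralizer_singleton_iff]
      have := Subgroup.mem_centralizer_singleton_iff.mp (hle hy)
      exact hxy this.symm
    have hxK2 : x ∉ Subgroup.center G ⊔ Subgroup.zpowers y := by
      intro hx
      have hle : Subgroup.center G ⊔ Subgroup.zpowers y ≤ Subgroup.centralizer {y} := by
        refine sup_le (Subgroup.center_le_centralizer _) ?_
        rw [Subgroup.zpowers_le, Subgroup.mem_centralizer_singleton_iff]
      have := Subgroup.mem_centralizer_singleton_iff.mp (hle hx)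
      exact hxy this
    have hqx : ∀ g : G, QuotientGroup.mk' K g * QuotientGroup.mk' K x
        = QuotientGroup.mk' K x * QuotientGroup.mk' K g := by
      have htop : (Subgroup.centralizer {QuotientGroup.mk' K x}).comap (QuotientGroup.mk' K)
          = ⊤ := by
        refine p4aux_eq_top p hG _ _ hK1card ?_ y ?_ hyK1
        · refine sup_le ?_ ?_
          · intro z hz
            rw [Subgroup.mem_comap, Subgroup.mem_centralizer_singleton_iff, ← map_mul, ← map_mul,
              Subgroup.mem_center_iff.mp hz x]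
          · rw [Subgroup.zpowers_le, Subgroup.mem_comap, Subgroup.mem_centralizer_singleton_iff]
        · rw [Subgroup.mem_comap, Subgroup.mem_centralizer_singleton_iff]
          exact hqxy.symm
      intro g
      have h1 : g ∈ (Subgroup.centralizer {QuotientGroup.mk' K x}).comap (QuotientGroup.mk' K) :=
        htop ▸ Subgroup.mem_top g
      rw [Subgroup.mem_comap, Subgroup.mem_centralizer_singleton_iff] at h1
      exact h1
    have hqy : ∀ g : G, QuotientGroup.mk' K g * QuotientGroup.mk' K y
        = QuotientGroup.mk' K y * QuotientGroup.mk' K g := by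
      have htop : (Subgroup.centralizer {QuotientGroup.mk' K y}).comap (QuotientGroup.mk' K)
          = ⊤ := by
        refine p4aux_eq_top p hG _ _ hK2card ?_ x ?_ hxK2
        · refine sup_le ?_ ?_
          · intro z hz
            rw [Subgroup.mem_comap, Subgroup.mem_centralizer_singleton_iff, ← map_mul, ← map_mul,
              Subgroup.mem_center_iff.mp hz y]
          · rw [Subgroup.zpowers_le, Subgroup.mem_comap, Subgroup.mem_centralizer_singleton_iff]
        · rw [Subgroup.mem_comap, Subgroup.mem_centralizer_singleton_iff]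
          exact hqxy
      intro g
      have h1 : g ∈ (Subgroup.centralizer {QuotientGroup.mk' K y}).comap (QuotientGroup.mk' K) :=
        htop ▸ Subgroup.mem_top g
      rw [Subgroup.mem_comap, Subgroup.mem_centralizer_singleton_iff] at h1
      exact h1
    have hQcomm : ∀ g h : G, QuotientGroup.mk' K g * QuotientGroup.mk' K h
        = QuotientGroup.mk' K h * QuotientGroup.mk' K g := by
      have htop : (Subgroup.center (G ⧸ K)).comap (QuotientGroup.mk' K) = ⊤ := by
        refine p4aux_eq_top p hG _ _ hK1card ?_ y ?_ hyK1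
        · refine sup_le ?_ ?_
          · intro z hz
            rw [Subgroup.mem_comap, Subgroup.mem_center_iff]
            intro w
            obtain ⟨g, rfl⟩ := hqsurj w
            rw [← map_mul, ← map_mul, Subgroup.mem_center_iff.mp hz g]
          · rw [Subgroup.zpowers_le, Subgroup.mem_comap, Subgroup.mem_center_iff]
            intro w
            obtain ⟨g, rfl⟩ := hqsurj w
            exact hqx g
        · rw [Subgroup.mem_comap, Subgroup.mem_center_iff]
          intro w
          obtain ⟨g, rfl⟩ := hqsurj w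
          exact hqy g
      intro g h
      have h1 : h ∈ (Subgroup.center (G ⧸ K)).comap (QuotientGroup.mk' K) :=
        htop ▸ Subgroup.mem_top h
      rw [Subgroup.mem_comap, Subgroup.mem_center_iff] at h1
      exact h1 _
    have hDK : D ≤ K := by
      rw [hDdef, commutator_def, Subgroup.commutator_le]
      intro g _ h _
      have h1 : QuotientGroup.mk' K ⁅g, h⁆ = 1 := by
        rw [map_commutatorElement, commutatorElement_eq_one_iff_mul_comm]
        exact hQcomm g h
      exact (QuotientGroup.eq_one_iff _).mp h1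
    have hcp : ⁅x, y⁆ ^ p = 1 := by
      have h1 : Commute ⁅x, y⁆ x := (Subgroup.mem_center_iff.mp hcZ x).symm
      rw [← Helper2.commutatorElement_pow_left x y h1 p]
      have hxp : x ^ p ∈ Subgroup.center G :=
        hDZ (hDF ▸ Helper2.pow_mem_frattini_of_isPGroup hPG x)
      rw [commutatorElement_eq_one_iff_mul_comm]
      exact (Subgroup.mem_center_iff.mp hxp y).symm
    have hKcard : Nat.card K ≤ p := by
      rw [hKdef, Nat.card_zpowers]
      exact Nat.le_of_dvd hp.pos (orderOf_dvd_of_pow_eq_one hcp)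
    have := Subgroup.card_le_of_le hDK
    rw [hc] at this
    omega
  -- `|L| = p` and `L` is central
  have hLcard : Nat.card L = p := by
    have hdvd : Nat.card L ∣ p ^ 2 := hc ▸ Subgroup.card_dvd_of_le hLD
    obtain ⟨j, hj, hcard⟩ := (Nat.dvd_prime_pow hp).mp hdvd
    interval_cases j
    · exfalso
      apply hLne
      rw [← Subgroup.card_eq_one]
      simpa using hcard
    · simpa using hcard
    · exfalso
      exact hLneD (Subgroup.eq_of_le_of_card_ge hLD (by rw [hcard, hc]))
  have hLn : L.Normal := by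
    rw [hLdef]
    infer_instance
  have hLZ : L ≤ Subgroup.center G := by
    have h1 : ⁅L, (⊤ : Subgroup G)⁆ ≤ L := Subgroup.commutator_le_left L ⊤
    have h2 : ⁅L, (⊤ : Subgroup G)⁆ ≠ L := p4aux_comm_ne L hLne
    have h3 : ⁅L, (⊤ : Subgroup G)⁆ = ⊥ := by
      have hdvd : Nat.card (⁅L, (⊤ : Subgroup G)⁆ : Subgroup G) ∣ p :=
        hLcard ▸ Subgroup.card_dvd_of_le h1
      rcases (Nat.dvd_prime hp).mp hdvd with h | h
      · exact Subgroup.card_eq_one.mp h
      · exact absurd (Subgroup.eq_of_le_of_card_ge h1 (by rw [h, hLcard])) h2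
    have := Subgroup.commutator_eq_bot_iff_le_centralizer.mp h3
    rwa [Subgroup.coe_top, Subgroup.centralizer_univ] at this
  -- the centralizer of `D`
  set C : Subgroup G := Subgroup.centralizer (D : Set G) with hCdef
  have hDC : D ≤ C := by
    intro a ha
    rw [hCdef, Subgroup.mem_centralizer_iff]
    intro b hb
    exact hDcomm b hb a ha
  have hCne : C ≠ ⊤ := by
    intro h
    apply hLne
    rw [hLdef, Subgroup.commutator_eq_bot_iff_le_centralizer, Subgroup.coe_top,
      Subgroup.centralizer_univ]
    exact Subgroup.centralizer_eq_top_iff_subset.mp h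
  obtain ⟨a, haD, haL⟩ : ∃ a ∈ D, a ∉ L := by
    by_contra hcon
    push Not at hcon
    exact hLneD (le_antisymm hLD hcon)
  have hsupD : L ⊔ Subgroup.zpowers a ≤ D :=
    sup_le hLD (by rw [Subgroup.zpowers_le]; exact haD)
  have hDsup : L ⊔ Subgroup.zpowers a = D := by
    apply Subgroup.eq_of_le_of_card_ge hsupD
    have hdvd : Nat.card (L ⊔ Subgroup.zpowers a : Subgroup G) ∣ p ^ 2 :=
      hc ▸ Subgroup.card_dvd_of_le hsupD
    obtain ⟨j, hj, hcard⟩ := (Nat.dvd_prime_pow hp).mp hdvd
    have hlt : Nat.card L < Nat.card (L ⊔ Subgroup.zpowers a : Subgroup G) := by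
      rcases Nat.lt_or_ge (Nat.card L) (Nat.card (L ⊔ Subgroup.zpowers a : Subgroup G)) with h | h
      · exact h
      · exact absurd ((Subgroup.eq_of_le_of_card_ge le_sup_left h) ▸
          Subgroup.mem_sup_right (Subgroup.mem_zpowers a)) haL
    rw [hLcard, hcard] at hlt
    have hj1 : 1 < j := by
      have h1 : p ^ 1 < p ^ j := by simpa using hlt
      exact (Nat.pow_lt_pow_iff_right hp.one_lt).mp h1
    have hj2 : j = 2 := by omega
    rw [hc, hcard, hj2]
  have hcomL : ∀ g : G, ⁅g, a⁆ ∈ L := by
    intro g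
    rw [← commutatorElement_inv]
    exact L.inv_mem (Subgroup.commutator_mem_commutator haD (Subgroup.mem_top g))
  let f : G →* L := MonoidHom.mk' (fun g => ⟨⁅g, a⁆, hcomL g⟩) (by
    intro g h
    apply Subtype.ext
    show ⁅g * h, a⁆ = ⁅g, a⁆ * ⁅h, a⁆
    have hz := Subgroup.mem_center_iff.mp (hLZ (hcomL h))
    have h1 : ⁅g * h, a⁆ = g * ⁅h, a⁆ * g⁻¹ * ⁅g, a⁆ := by
      simp only [commutatorElement_def]
      group
    rw [h1, hz g, mul_inv_cancel_right]
    exact (hz _).symm)
  have hker : f.ker ≤ C := by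
    intro g hg
    have hga : ⁅g, a⁆ = 1 := congrArg Subtype.val (MonoidHom.mem_ker.mp hg)
    have hcomm_a : g * a = a * g := commutatorElement_eq_one_iff_mul_comm.mp hga
    have hle : D ≤ Subgroup.centralizer {g} := by
      rw [← hDsup]
      refine sup_le (le_trans hLZ (Subgroup.center_le_centralizer _)) ?_
      rw [Subgroup.zpowers_le, Subgroup.mem_centralizer_singleton_iff]
      exact hcomm_a.symm
    rw [hCdef, Subgroup.mem_centralizer_iff]
    intro d hd
    exact Subgroup.mem_centralizer_singleton_iff.mp (hle hd)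
  have hCcard : Nat.card C = p ^ 3 := by
    have h1 : f.ker.index = Nat.card f.range := Subgroup.index_ker f
    have h2 : Nat.card f.range ≤ p := by
      have := Subgroup.card_le_card_group f.range
      rwa [hLcard] at this
    have h3 : f.ker.index * Nat.card f.ker = Nat.card G := Subgroup.index_mul_card _
    have h4 : Nat.card f.ker ≤ Nat.card C := Subgroup.card_le_of_le hker
    have hdvd : Nat.card C ∣ p ^ 4 := hG ▸ Subgroup.card_subgroup_dvd_card C
    obtain ⟨j, hj, hcard⟩ := (Nat.dvd_prime_pow hp).mp hdvd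
    have h5 : p ^ 4 ≤ p ^ (j + 1) := by
      calc p ^ 4 = f.ker.index * Nat.card f.ker := by rw [h3, hG]
        _ ≤ p * Nat.card C := Nat.mul_le_mul (h1 ▸ h2) h4
        _ = p ^ (j + 1) := by rw [hcard, pow_succ']
    have hj3 : 4 ≤ j + 1 := (Nat.pow_le_pow_iff_right hp.one_lt).mp h5
    have hj4 : j ≠ 4 := by
      intro h
      apply hCne
      apply Subgroup.eq_top_of_card_eq
      rw [hcard, h, hG]
    have hj' : j = 3 := by omega
    rw [hcard, hj']
  have hLchar : L.Characteristic := by
    rw [hLdef]
    infer_instance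
  have hCchar : C.Characteristic := by
    rw [hCdef]
    infer_instance
  exact ⟨L, D, C, hLchar, hDchar, hCchar, hLD, hDC, hLcard, hc, hCcard⟩

end Cfsg.Agent.Helper52
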