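import Mathlib
import Cfsg.Agent.Helper21.PEDefs

set_option autoImplicit false

namespace Cfsg.Agent.Helper52.PEBETA

open Equiv Cfsg.Agent.Helper21.PE

/-- the cycle `a → c → b → a` -/
def c3 {n : ℕ} (a b c : Fin n) : Perm (Fin n) := swap a b * swap a c

theorem c3_three {n : ℕ} (a b c : Fin n) (ab : a ≠ b) (ac : a ≠ c) (bc : b ≠ c) :
    (c3 a b c).IsThreeCycle := Perm.isThreeCycle_swap_mul_swap_same ab ac bc

/-- a moved point of period prime to `3` -/
theorem not_pow3 {X : Type} (ρ : Perm X) (x : X) (M : ℕ) (hM : Nat.Coprime M 3)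
    (h1 : (ρ ^ M) x = x) (h2 : ρ x ≠ x) : ¬ ∃ k : ℕ, orderOf ρ = 3 ^ k := by
  rintro ⟨k, hk⟩
  rcases Nat.eq_zero_or_pos k with rfl | hk0
  · rw [pow_zero, orderOf_eq_one_iff] at hk
    exact h2 (by rw [hk]; rfl)
  · have hcop : Nat.Coprime M (3 ^ k) := Nat.Coprime.pow_right k hM
    have h3 : 1 < 3 ^ k := Nat.one_lt_pow hk0.ne' (by norm_num)
    obtain ⟨m, -, hm⟩ := Nat.exists_mul_mod_eq_one_of_coprime hcop h3
    have h4 : ρ ^ (M * m) = ρ := by
      rw [← pow_mod_orderOf, hk, hm, pow_one]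
    have h5 : ∀ j : ℕ, ((ρ ^ M) ^ j) x = x := by
      intro j
      induction j with
      | zero => rfl
      | succ j ih => rw [pow_succ, Perm.mul_apply, h1, ih]
    have := h5 m
    rw [← pow_mul, h4] at this
    exact h2 this

theorem not_solvable_of_perfect {G : Type} [Group G] (H : Subgroup G) (hne : H ≠ ⊥)
    (hperf : H ≤ ⁅H, H⁆) : ¬ Group.IsSolvable ↥H := by
  intro hs
  have : Nontrivial ↥H := (Subgroup.nontrivial_iff_ne_bot H).2 hne
  have hlt := Group.IsSolvable.commutator_lt_top_of_nontrivial ↥H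
  have hmap : (commutator ↥H).map H.subtype = ⁅H, H⁆ := Subgroup.map_subtype_commutator H
  apply hlt.ne
  rw [eq_top_iff]
  intro h _
  have hh : (h : G) ∈ ⁅H, H⁆ := hperf h.2
  rw [← hmap] at hh
  obtain ⟨h', hh', he⟩ := hh
  have : h' = h := Subtype.ext he
  exact this ▸ hh'

theorem case1_5 (hA : A5Stmt) :
    ∃ u₀ v₀ c : Perm (Fin 5), u₀.cycleType = {3} ∧ v₀.cycleType = {3} ∧ Good 3 u₀ v₀ ∧
      Perm.sign c = -1 ∧ (c * v₀ = v₀ * c ∨ c * u₀ = u₀ * c) := by
  refine ⟨c3 0 2 1, c3 2 4 3, swap 0 1,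
    (c3_three _ _ _ (by decide) (by decide) (by decide)).cycleType,
    (c3_three _ _ _ (by decide) (by decide) (by decide)).cycleType, ⟨?_, ?_⟩,
    Perm.sign_swap (by decide), Or.inl ?_⟩
  · exact not_pow3 _ 0 5 (by decide) (by decide) (by decide)
  · exact hA (Fin 5) _ (c3 0 2 1) (c3 2 4 3) (Subgroup.subset_closure (by simp))
      (Subgroup.subset_closure (by simp)) (c3_three _ _ _ (by decide) (by decide) (by decide))
      (c3_three _ _ _ (by decide) (by decide) (by decide)) (by decide)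
  · ext x; fin_cases x <;> rfl

theorem case1_6 (hA : A5Stmt) :
    ∃ u₀ v₀ c : Perm (Fin 6), u₀.cycleType = {3} ∧ v₀.cycleType = {3} ∧ Good 3 u₀ v₀ ∧
      Perm.sign c = -1 ∧ (c * v₀ = v₀ * c ∨ c * u₀ = u₀ * c) := by
  refine ⟨c3 0 2 1, c3 2 4 3, swap 0 1,
    (c3_three _ _ _ (by decide) (by decide) (by decide)).cycleType,
    (c3_three _ _ _ (by decide) (by decide) (by decide)).cycleType, ⟨?_, ?_⟩,
    Perm.sign_swap (by decide), Or.inl ?_⟩
  · exact not_pow3 _ 0 5 (by decide) (by decide) (by decide)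
  · exact hA (Fin 6) _ (c3 0 2 1) (c3 2 4 3) (Subgroup.subset_closure (by simp))
      (Subgroup.subset_closure (by simp)) (c3_three _ _ _ (by decide) (by decide) (by decide))
      (c3_three _ _ _ (by decide) (by decide) (by decide)) (by decide)
  · ext x; fin_cases x <;> rfl

/-- `(0 1 2)(3 4 5)` -/
def uu : Perm (Fin 6) := c3 0 2 1 * c3 3 5 4

theorem uu_type : uu.cycleType = {3, 3} := by
  have h2 : Perm.Disjoint (c3 (0 : Fin 6) 2 1) (c3 3 5 4) := by
    intro x; fin_cases x <;> decide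
  unfold uu
  rw [h2.cycleType_mul, (c3_three _ _ _ (by decide) (by decide) (by decide)).cycleType,
    (c3_three _ _ _ (by decide) (by decide) (by decide)).cycleType]
  rfl

/-- `(0 1 3)(2 5 4)` -/
def vv : Perm (Fin 6) := c3 0 3 1 * c3 2 4 5

theorem vv_type : vv.cycleType = {3, 3} := by
  have h2 : Perm.Disjoint (c3 (0 : Fin 6) 3 1) (c3 2 4 5) := by
    intro x; fin_cases x <;> decide
  unfold vv
  rw [h2.cycleType_mul, (c3_three _ _ _ (by decide) (by decide) (by decide)).cycleType,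
    (c3_three _ _ _ (by decide) (by decide) (by decide)).cycleType]
  rfl

theorem conj_eq : uu⁻¹ * c3 0 3 1 * uu = c3 0 2 5 := by
  ext x; fin_cases x <;> rfl

theorem case2 (hA : A5Stmt) :
    ∃ u₀ v₀ c : Perm (Fin 6), u₀.cycleType = {3, 3} ∧ v₀.cycleType = {3} ∧ Good 3 u₀ v₀ ∧
      Perm.sign c = -1 ∧ (c * v₀ = v₀ * c ∨ c * u₀ = u₀ * c) := by
  refine ⟨uu, c3 0 3 1, swap 2 4, uu_type,
    (c3_three _ _ _ (by decide) (by decide) (by decide)).cycleType, ⟨?_, ?_⟩,
    Perm.sign_swap (by decide), Or.inl ?_⟩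
  · exact not_pow3 _ 0 2 (by decide) (by decide) (by decide)
  · refine hA (Fin 6) _ (c3 0 3 1) (uu⁻¹ * c3 0 3 1 * uu) (Subgroup.subset_closure (by simp))
      ?_ (c3_three _ _ _ (by decide) (by decide) (by decide)) ?_ ?_
    · exact Subgroup.mul_mem _ (Subgroup.mul_mem _ (Subgroup.inv_mem _
        (Subgroup.subset_closure (by simp))) (Subgroup.subset_closure (by simp)))
        (Subgroup.subset_closure (by simp))
    · rw [conj_eq]; exact c3_three _ _ _ (by decide) (by decide) (by decide)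
    · rw [conj_eq]; decide
  · ext x; fin_cases x <;> rfl

theorem case3 (hA : A5Stmt) :
    ∃ u₀ v₀ c : Perm (Fin 6), u₀.cycleType = {3} ∧ v₀.cycleType = {3, 3} ∧ Good 3 u₀ v₀ ∧
      Perm.sign c = -1 ∧ (c * v₀ = v₀ * c ∨ c * u₀ = u₀ * c) := by
  refine ⟨c3 0 3 1, uu, swap 2 4,
    (c3_three _ _ _ (by decide) (by decide) (by decide)).cycleType, uu_type, ⟨?_, ?_⟩,
    Perm.sign_swap (by decide), Or.inr ?_⟩
  · exact not_pow3 _ 1 2 (by decide) (by decide) (by decide)
  · refine hA (Fin 6) _ (c3 0 3 1) (uu⁻¹ * c3 0 3 1 * uu) (Subgroup.subset_closure (by simp))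
      ?_ (c3_three _ _ _ (by decide) (by decide) (by decide)) ?_ ?_
    · exact Subgroup.mul_mem _ (Subgroup.mul_mem _ (Subgroup.inv_mem _
        (Subgroup.subset_closure (by simp))) (Subgroup.subset_closure (by simp)))
        (Subgroup.subset_closure (by simp))
    · rw [conj_eq]; exact c3_three _ _ _ (by decide) (by decide) (by decide)
    · rw [conj_eq]; decide
  · ext x; fin_cases x <;> rfl

set_option maxRecDepth 100000 in
theorem cert_u : uu = uu⁻¹ * (vv * uu⁻¹ * vv⁻¹ * uu * vv) * uu⁻¹⁻¹ *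
    (vv * uu⁻¹ * vv⁻¹ * uu * vv)⁻¹ := by
  ext x; fin_cases x <;> rfl

set_option maxRecDepth 100000 in
theorem cert_v : vv = vv⁻¹ * (uu * vv⁻¹ * uu⁻¹ * vv * uu) * vv⁻¹⁻¹ *
    (uu * vv⁻¹ * uu⁻¹ * vv * uu)⁻¹ := by
  ext x; fin_cases x <;> rfl

set_option maxRecDepth 100000 in
theorem case4 :
    ∃ u₀ v₀ c : Perm (Fin 6), u₀.cycleType = {3, 3} ∧ v₀.cycleType = {3, 3} ∧ Good 3 u₀ v₀ ∧
      Perm.sign c = -1 ∧ (c * v₀ = v₀ * c ∨ c * u₀ = u₀ * c) := by
  refine ⟨uu, vv, swap 0 2 * swap 1 5 * swap 3 4, uu_type, vv_type, ⟨?_, ?_⟩, ?_, Or.inl ?_⟩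
  · exact not_pow3 _ 0 5 (by decide) (by decide) (by decide)
  · have hu : uu ∈ Subgroup.closure ({uu, vv} : Set (Perm (Fin 6))) :=
      Subgroup.subset_closure (by simp)
    have hv : vv ∈ Subgroup.closure ({uu, vv} : Set (Perm (Fin 6))) :=
      Subgroup.subset_closure (by simp)
    apply not_solvable_of_perfect
    · intro hbot
      rw [hbot, Subgroup.mem_bot] at hu
      have : uu 0 = 0 := by rw [hu]; rfl
      revert this
      decide
    · rw [Subgroup.closure_le]
      intro x hx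
      rcases hx with rfl | hx
      · have := Subgroup.commutator_mem_commutator (Subgroup.inv_mem _ hu)
          (Subgroup.mul_mem _ (Subgroup.mul_mem _ (Subgroup.mul_mem _ (Subgroup.mul_mem _ hv
            (Subgroup.inv_mem _ hu)) (Subgroup.inv_mem _ hv)) hu) hv)
        exact (congrArg (fun z => z ∈ ⁅Subgroup.closure ({uu, vv} : Set (Perm (Fin 6))),
          Subgroup.closure ({uu, vv} : Set (Perm (Fin 6)))⁆) cert_u).mpr this
      · rw [Set.mem_singleton_iff] at hx
        subst hx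
        have := Subgroup.commutator_mem_commutator (Subgroup.inv_mem _ hv)
          (Subgroup.mul_mem _ (Subgroup.mul_mem _ (Subgroup.mul_mem _ (Subgroup.mul_mem _ hu
            (Subgroup.inv_mem _ hv)) (Subgroup.inv_mem _ hu)) hv) hu)
        exact (congrArg (fun z => z ∈ ⁅Subgroup.closure ({uu, vv} : Set (Perm (Fin 6))),
          Subgroup.closure ({uu, vv} : Set (Perm (Fin 6)))⁆) cert_v).mpr this
  · rw [Perm.sign_mul, Perm.sign_mul, Perm.sign_swap (by decide), Perm.sign_swap (by decide),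
      Perm.sign_swap (by decide)]
    rfl
  · ext x; fin_cases x <;> rfl

theorem pe_beta : A5Stmt → BetaStmt := by
  intro hA n μ ν hn hμ hν
  rcases hn with rfl | rfl
  · have hμ' : μ = {3} := by
      rcases hμ with h | ⟨h, _⟩
      · exact h
      · omega
    have hν' : ν = {3} := by
      rcases hν with h | ⟨h, _⟩
      · exact h
      · omega
    subst hμ' hν'
    exact case1_5 hA
  · rcases hμ with rfl | ⟨-, rfl⟩ <;> rcases hν with rfl | ⟨-, rfl⟩
    · exact case1_6 hA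
    · exact case3 hA
    · exact case2 hA
    · exact case4

end Cfsg.Agent.Helper52.PEBETA
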