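import Mathlib
import Cfsg.Agent.Helper21.PEDefs

set_option autoImplicit false

namespace Cfsg.Agent.Helper52.PEFWD

open Equiv Cfsg.Agent.Helper21.PE

theorem val_finRotate (a : ℕ) (x : Fin a) :
    (finRotate a x).val = if x.val + 1 = a then 0 else x.val + 1 := by
  cases a with
  | zero => exact x.elim0
  | succ s =>
    rw [coe_finRotate]
    by_cases h : x = Fin.last s
    · subst h
      simp
    · have : x.val ≠ s := fun h' => h (Fin.ext h')
      rw [if_neg h, if_neg (by omega)]

theorem pe_fwd : GlueStmt → FwdStmt := by
  intro hG ν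
  induction ν using Multiset.induction with
  | empty =>
    intro N _ _
    refine ⟨1, Perm.cycleType_one, ?_⟩
    intro y
    simp
  | cons a ν ih =>
    intro N h3 hsum
    have ha : 3 ≤ a := h3 a (Multiset.mem_cons_self a ν)
    rw [Multiset.sum_cons] at hsum
    obtain ⟨M, rfl⟩ : ∃ M, N = a + M := ⟨N - a, by omega⟩
    obtain ⟨E', hE1, hE2⟩ := ih M (fun x hx => h3 x (Multiset.mem_cons_of_mem hx)) (by omega)
    obtain ⟨h, hc, hl, hr⟩ := hG a M (finRotate a) E'
    refine ⟨h, ?_, ?_⟩
    · rw [hc, hE1, _root_.cycleType_finRotate_of_le (by omega)]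
      rfl
    · intro y
      by_cases hy : y.val < a
      · have hy' : y = Fin.castAdd M ⟨y.val, hy⟩ := by ext; rfl
        have := hl ⟨y.val, hy⟩
        rw [← hy', val_finRotate] at this
        rw [this]
        simp only
        split_ifs with h1
        · omega
        · omega
      · have hy' : y = Fin.natAdd a ⟨y.val - a, by have := y.2; omega⟩ := by
          ext; simp; omega
        have := hr ⟨y.val - a, by have := y.2; omega⟩
        rw [← hy'] at this
        rw [this]
        have h2 := hE2 ⟨y.val - a, by have := y.2; omega⟩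
        simp only at h2
        omega

end Cfsg.Agent.Helper52.PEFWD
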