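import Mathlib
import Cfsg.Agent.Helper21.PEDefs

set_option autoImplicit false

namespace Cfsg.Agent.Helper52.PEGLUE

open Equiv Cfsg.Agent.Helper21.PE

/-- the left block of `Fin (a + b)` -/
def eL (a b : ℕ) : Fin a ≃ {x : Fin (a + b) // x.val < a} where
  toFun x := ⟨Fin.castAdd b x, x.2⟩
  invFun y := ⟨y.1.val, y.2⟩
  left_inv x := by ext; rfl
  right_inv y := by ext; rfl

/-- the right block of `Fin (a + b)` -/
def eR (a b : ℕ) : Fin b ≃ {x : Fin (a + b) // ¬ x.val < a} where
  toFun y := ⟨Fin.natAdd a y, by simp⟩
  invFun z := ⟨z.1.val - a, by have := z.1.2; have := z.2; omega⟩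
  left_inv y := by ext; simp
  right_inv z := by
    have := z.2
    ext
    simp only [Fin.natAdd_mk]
    omega

theorem pe_glue : GlueStmt := by
  intro a b f g
  refine ⟨f.extendDomain (eL a b) * g.extendDomain (eR a b), ?_, ?_, ?_⟩
  · have hd : Perm.Disjoint (f.extendDomain (eL a b)) (g.extendDomain (eR a b)) := by
      intro x
      by_cases hx : x.val < a
      · right
        exact Perm.extendDomain_apply_not_subtype _ _ (by simpa using hx)
      · left
        exact Perm.extendDomain_apply_not_subtype _ _ hx
    rw [hd.cycleType_mul, Perm.cycleType_extendDomain, Perm.cycleType_extendDomain]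
  · intro x
    have h1 : g.extendDomain (eR a b) (Fin.castAdd b x) = Fin.castAdd b x :=
      Perm.extendDomain_apply_not_subtype _ _ (by simp)
    have h2 : f.extendDomain (eL a b) (Fin.castAdd b x) = Fin.castAdd b (f x) := by
      have := Perm.extendDomain_apply_image f (eL a b) x
      exact this
    rw [Perm.mul_apply, h1, h2]
    rfl
  · intro y
    have h2 : g.extendDomain (eR a b) (Fin.natAdd a y) = Fin.natAdd a (g y) := by
      have := Perm.extendDomain_apply_image g (eR a b) y
      exact this
    have h1 : f.extendDomain (eL a b) (Fin.natAdd a (g y)) = Fin.natAdd a (g y) :=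
      Perm.extendDomain_apply_not_subtype _ _ (by simp)
    rw [Perm.mul_apply, h2, h1]
    rfl

end Cfsg.Agent.Helper52.PEGLUE
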