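import Mathlib
import Cfsg.Agent.Helper21.PEDefs

set_option autoImplicit false

namespace Cfsg.Agent.Helper52.PEREAL9

open Equiv Cfsg.Agent.Helper21.PE

/-- the cycle `a → c → b → a` -/
def c3 {n : ℕ} (a b c : Fin n) : Perm (Fin n) := swap a b * swap a c

theorem c3_three {n : ℕ} (a b c : Fin n) (ab : a ≠ b) (ac : a ≠ c) (bc : b ≠ c) :
    (c3 a b c).IsThreeCycle := Perm.isThreeCycle_swap_mul_swap_same ab ac bc

/-- `(0 1 3)(2 8 4)(5 7 6)` -/
def v9 : Perm (Fin 9) := c3 0 3 1 * c3 2 4 8 * c3 5 6 7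

theorem v9_type : v9.cycleType = {3, 3, 3} := by
  have h1 : Perm.Disjoint (c3 (0 : Fin 9) 3 1 * c3 2 4 8) (c3 5 6 7) := by
    intro x; fin_cases x <;> decide
  have h2 : Perm.Disjoint (c3 (0 : Fin 9) 3 1) (c3 2 4 8) := by
    intro x; fin_cases x <;> decide
  unfold v9
  rw [h1.cycleType_mul, h2.cycleType_mul, (c3_three _ _ _ (by decide) (by decide) (by decide)).cycleType,
    (c3_three _ _ _ (by decide) (by decide) (by decide)).cycleType,
    (c3_three _ _ _ (by decide) (by decide) (by decide)).cycleType]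
  rfl

theorem rho_sq : (finRotate 9 * v9) ^ 2 = c3 1 4 3 := by
  ext x; fin_cases x <;> rfl

theorem pe_real9 : ShiftStmt → CertStmt → Real9Stmt := by
  intro hS hC
  refine ⟨v9, v9_type, ?_, ?_⟩
  · refine hC 3 (Fin 9) (finRotate 9 * v9) 0 2 Nat.prime_three (by decide) ?_ ?_
    · rw [rho_sq]; decide
    · decide
  · refine hS 9 (Subgroup.closure {finRotate 9, v9}) ((finRotate 9 * v9) ^ 2) 1 3 4 (by norm_num)
      (by decide) (Subgroup.subset_closure (by simp)) ?_ ?_ (by decide) (by decide) ?_ (by decide)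
    · exact Subgroup.pow_mem _ (Subgroup.mul_mem _ (Subgroup.subset_closure (by simp))
        (Subgroup.subset_closure (by simp))) 2
    · rw [rho_sq]
      exact c3_three _ _ _ (by decide) (by decide) (by decide)
    · rw [rho_sq]
      decide

end Cfsg.Agent.Helper52.PEREAL9
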