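import Mathlib
import Cfsg.Agent.Helper21.PEDefs

set_option autoImplicit false

namespace Cfsg.Agent.Helper52.PEROT

open Equiv Cfsg.Agent.Helper21.PE

theorem val_finRotate (a : ℕ) (x : Fin a) :
    (finRotate a x).val = if x.val + 1 = a then 0 else x.val + 1 := by
  cases a with
  | zero => exact x.elim0
  | succ s =>
    rw [coe_finRotate]
    by_cases h : x = Fin.last s
    · subst h
      simp
    · have : x.val ≠ s := fun h' => h (Fin.ext h')
      rw [if_neg h, if_neg (by omega)]

theorem val_rot_pow (t : ℕ) (k : ℕ) (x : Fin t) :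
    ((finRotate t ^ k) x).val = (x.val + k) % t := by
  induction k with
  | zero => simp [Nat.mod_eq_of_lt x.2]
  | succ k ih =>
    have hmod : ((x.val + k) % t + 1) % t = (x.val + k + 1) % t :=
      (Nat.mod_modEq (x.val + k) t).add_right 1
    have hlt : (x.val + k) % t < t := Nat.mod_lt _ (by have := x.2; omega)
    rw [pow_succ', Perm.mul_apply, val_finRotate, ih,
      show (x.val + (k + 1)) % t = ((x.val + k) % t + 1) % t from hmod.symm]
    split_ifs with h
    · rw [h, Nat.mod_self]
    · rw [Nat.mod_eq_of_lt (show (x.val + k) % t + 1 < t by omega)]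

theorem pe_rot : RotStmt := by
  intro t e ht hte
  have hd : 0 < Nat.gcd e t := Nat.gcd_pos_of_pos_right e ht
  obtain ⟨e', he'⟩ : Nat.gcd e t ∣ e := Nat.gcd_dvd_left e t
  have hdq : Nat.gcd e t * (t / Nat.gcd e t) = t := Nat.mul_div_cancel' (Nat.gcd_dvd_right e t)
  have hcop : Nat.Coprime (t / Nat.gcd e t) e' := by
    have h := Nat.coprime_div_gcd_div_gcd hd
    have h2 : e / Nat.gcd e t = e' := Nat.div_eq_of_eq_mul_right hd he'
    rw [h2] at h
    exact h.symm
  generalize hdd : Nat.gcd e t = d at *
  generalize hqq : t / d = q at *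
  have hval : ∀ (k : ℕ) (x : Fin t), (((finRotate t ^ e) ^ k) x).val = (x.val + e * k) % t := by
    intro k x
    rw [← pow_mul, val_rot_pow t]
  have hfix : ∀ (k : ℕ) (x : Fin t), ((finRotate t ^ e) ^ k) x = x ↔ q ∣ k := by
    intro k x
    rw [Fin.ext_iff, hval]
    have h1 : (x.val + e * k) % t = x.val ↔ t ∣ e * k := by
      constructor
      · intro h
        have h2 : x.val + e * k ≡ x.val + 0 [MOD t] := by
          show (x.val + e * k) % t = (x.val + 0) % t
          rw [h, add_zero, Nat.mod_eq_of_lt x.2]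
        exact (Nat.modEq_zero_iff_dvd).1 (Nat.ModEq.add_left_cancel' _ h2)
      · intro h
        obtain ⟨c, hc⟩ := h
        rw [hc, Nat.add_mul_mod_self_left, Nat.mod_eq_of_lt x.2]
    rw [h1]
    conv_lhs => rw [← hdq, he', mul_assoc]
    rw [Nat.mul_dvd_mul_iff_left hd]
    exact hcop.dvd_mul_left
  have hmoved : ∀ x : Fin t, (finRotate t ^ e) x ≠ x := by
    intro x hx
    have := (hfix 1 x).1 (by simpa using hx)
    have hq1 : q = 1 := Nat.dvd_one.1 this
    rw [hq1, mul_one] at hdq
    exact hte (by rw [← hdq]; exact ⟨e', he'⟩)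
  have hsupp : (finRotate t ^ e).support = Finset.univ := by
    ext x
    simp [hmoved x]
  have hall : ∀ n ∈ (finRotate t ^ e).cycleType, n = q := by
    intro n hn
    rw [Perm.cycleType_def, Multiset.mem_map] at hn
    obtain ⟨c, hc, rfl⟩ := hn
    have hc' : c ∈ (finRotate t ^ e).cycleFactorsFinset := hc
    have hcyc : c.IsCycle := (Perm.mem_cycleFactorsFinset_iff.1 hc').1
    obtain ⟨x, hx⟩ := hcyc.nonempty_support
    have hceq : c = (finRotate t ^ e).cycleOf x := Perm.cycle_is_cycleOf hx hc'
    have hpow : ∀ k, (c ^ k) x = ((finRotate t ^ e) ^ k) x := by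
      intro k
      rw [hceq, Perm.cycleOf_pow_apply_self]
    have hxm : c x ≠ x := Perm.mem_support.1 hx
    show c.support.card = q
    rw [← hcyc.orderOf]
    apply Nat.dvd_antisymm
    · apply orderOf_dvd_of_pow_eq_one
      rw [hcyc.pow_eq_one_iff' hxm, hpow, hfix]
    · rw [← hfix (orderOf c) x, ← hpow, pow_orderOf_eq_one]
      rfl
  have hq0 : 0 < q := by
    rcases Nat.eq_zero_or_pos q with h | h
    · rw [h, mul_zero] at hdq; omega
    · exact h
  have hrep : (finRotate t ^ e).cycleType =
      Multiset.replicate (Multiset.card (finRotate t ^ e).cycleType) q :=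
    Multiset.eq_replicate_card.2 hall
  have hsum : (finRotate t ^ e).cycleType.sum = t := by
    rw [Perm.sum_cycleType, hsupp, Finset.card_univ, Fintype.card_fin]
  have hcard : Multiset.card (finRotate t ^ e).cycleType = d := by
    rw [hrep, Multiset.sum_replicate, smul_eq_mul] at hsum
    have : Multiset.card (finRotate t ^ e).cycleType * q = d * q := by rw [hsum, hdq]
    exact Nat.eq_of_mul_eq_mul_right hq0 this
  refine ⟨finRotate t ^ e, fun x => val_rot_pow t e x, ?_⟩
  rw [hrep, hcard]

end Cfsg.Agent.Helper52.PEROT
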