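import Mathlib
import Cfsg.Agent.Helper21.PEDefs

set_option autoImplicit false

namespace Cfsg.Agent.Helper52.PESMALL3

open Equiv Cfsg.Agent.Helper21.PE

theorem pe_small3 : Small3Stmt := by
  intro X _ _ u hu hX
  have hp : (orderOf u).Prime := by rw [hu]; exact Nat.prime_three
  obtain ⟨n, hn⟩ := Perm.cycleType_prime_order hp
  rw [hu] at hn
  have hs : u.cycleType.sum ≤ Fintype.card X := Perm.sum_cycleType_le u
  rw [hn, Multiset.sum_replicate, smul_eq_mul] at hs
  have hn1 : n = 0 ∨ n = 1 := by omega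
  rcases hn1 with rfl | rfl
  · left
    rw [hn]; rfl
  · right
    refine ⟨by omega, ?_⟩
    rw [hn]; rfl

end Cfsg.Agent.Helper52.PESMALL3
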