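import Mathlib

set_option autoImplicit false

/-!
# Sub-CALL S74T2 (helper65), piece ARITH: choice of blocks (pure arithmetic)
-/

namespace Cfsg.Agent.Helper52.S74T2

/-- ARITH [S]: choice of blocks (`m = 2 μ`; `μ` even: `e' = min e μ`, then four-blocks, then
hyperbolic planes; `μ` odd: `d` odd, so `h` is odd: one hyperbolic plane first). -/
theorem t2_arith (d m A h e : ℕ) (hsum : 2 * A + h + e = d) (he : Even e) (hme : Even m)
    (hmd : m < d) (hcond : (2 * d) % 4 = 2 ∨ m % 4 = 0) :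
    ∃ a' h' e' : ℕ, a' ≤ A ∧ h' ≤ h ∧ e' ≤ e ∧ Even e' ∧ 4 * a' + 2 * h' + 2 * e' = m := by
  obtain ⟨e₀, he₀⟩ := he
  obtain ⟨μ, hμ⟩ := hme
  by_cases hm4 : m % 4 = 0
  · -- `μ` even
    obtain ⟨ν, hν⟩ : ∃ ν, μ = 2 * ν := ⟨μ / 2, by omega⟩
    by_cases h1 : μ ≤ e
    · exact ⟨0, 0, μ, by omega, by omega, h1, ⟨ν, by omega⟩, by omega⟩
    · by_cases h3 : μ - e ≤ 2 * A
      · exact ⟨ν - e₀, 0, e, by omega, by omega, le_refl e, ⟨e₀, he₀⟩, by omega⟩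
      · exact ⟨A, μ - e - 2 * A, e, le_refl A, by omega, le_refl e, ⟨e₀, he₀⟩, by omega⟩
  · -- `μ` odd, `d` odd, `h` odd
    have hd : (2 * d) % 4 = 2 := by
      rcases hcond with hc | hc
      · exact hc
      · exact absurd hc hm4
    obtain ⟨ν, hν⟩ : ∃ ν, μ = 2 * ν + 1 := ⟨μ / 2, by omega⟩
    by_cases h1 : μ - 1 ≤ e
    · exact ⟨0, 1, μ - 1, by omega, by omega, h1, ⟨ν, by omega⟩, by omega⟩
    · by_cases h3 : μ - 1 - e ≤ 2 * A
      · exact ⟨ν - e₀, 1, e, by omega, by omega, le_refl e, ⟨e₀, he₀⟩, by omega⟩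
      · exact ⟨A, μ - e - 2 * A, e, le_refl A, by omega, le_refl e, ⟨e₀, he₀⟩, by omega⟩

end Cfsg.Agent.Helper52.S74T2
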