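import Mathlib
import Cfsg.Agent.Helper52.O7920Defs
import Cfsg.Agent.Helper52.O7920Defs2
import Cfsg.Agent.Helper52.T7920Syl

/-!
# CALL S0434, pieces C2c, C4a and C3
-/

set_option autoImplicit false

namespace Cfsg.Agent.Helper52

open Subgroup

variable {G : Type*} [Group G] [Finite G]

omit [Finite G] in
/-- an element inverting `D` normalises it -/
theorem o7920_mem_normalizer_of_inv (D : Subgroup G) (j : G)
    (hj : ∀ d ∈ D, j * d * j⁻¹ = d⁻¹) : j ∈ normalizer (D : Set G) := by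
  rw [Subgroup.mem_normalizer_iff]
  intro h
  constructor
  · intro hh
    rw [hj h hh]
    exact inv_mem hh
  · intro hh
    have h1 := hj _ (inv_mem hh)
    have h2 : h = (j * h * j⁻¹)⁻¹ := by
      have h3 : (j * h * j⁻¹)⁻¹ = j⁻¹ * (j * (j * h * j⁻¹)⁻¹ * j⁻¹) * j := by group
      rw [h3, h1, inv_inv]; group
    rw [h2]
    exact inv_mem hh

omit [Finite G] in
/-- an element inverting a subgroup `D` of order 3 does not centralise it -/
theorem o7920_not_mem_centralizer_of_inv (D : Subgroup G) (hD : Nat.card ↥D = 3) (j : G)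
    (hj : ∀ d ∈ D, j * d * j⁻¹ = d⁻¹) : j ∉ centralizer (D : Set G) := by
  intro hjC
  have hex : ∃ d ∈ D, d ≠ 1 := by
    by_contra hcon
    push Not at hcon
    have : D = ⊥ := (Subgroup.eq_bot_iff_forall D).mpr hcon
    rw [this, Subgroup.card_bot] at hD
    omega
  obtain ⟨d, hd, hd1⟩ := hex
  apply hd1
  have h1 : d * j = j * d := Subgroup.mem_centralizer_iff.mp hjC d hd
  have h2 : j * d * j⁻¹ = d := by rw [← h1]; group
  have h3 : d = d⁻¹ := by rw [← hj d hd, h2]
  have h4 : d ^ 2 = 1 := by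
    rw [pow_two]
    nth_rewrite 2 [h3]
    exact mul_inv_cancel d
  have h5 : (⟨d, hd⟩ : ↥D) ^ 3 = 1 := by rw [← hD]; exact pow_card_eq_one'
  have h6 : d ^ 3 = 1 := congrArg Subtype.val h5
  calc d = d ^ 3 * (d ^ 2)⁻¹ := by group
    _ = 1 := by rw [h6, h4]; simp

/-- an element conjugating the finite subgroup `D` into itself normalises it -/
theorem o7920_mem_normalizer_of_conj_mem (D : Subgroup G) (g : G)
    (h : ∀ d ∈ D, g * d * g⁻¹ ∈ D) : g ∈ normalizer (D : Set G) := by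
  rw [Subgroup.mem_normalizer_iff]
  intro a
  constructor
  · exact h a
  · intro ha
    have hinj : Function.Injective (fun d : ↥D => (⟨g * d.1 * g⁻¹, h d.1 d.2⟩ : ↥D)) := by
      intro d d' hdd
      have h1 : g * d.1 * g⁻¹ = g * d'.1 * g⁻¹ := congrArg Subtype.val hdd
      apply Subtype.ext
      have h2 : d.1 = g⁻¹ * (g * d.1 * g⁻¹) * g := by group
      rw [h2, h1]; group
    obtain ⟨d, hd⟩ := (Finite.injective_iff_surjective.mp hinj) ⟨g * a * g⁻¹, ha⟩
    have h1 : g * d.1 * g⁻¹ = g * a * g⁻¹ := congrArg Subtype.val hd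
    have h2 : a = g⁻¹ * (g * a * g⁻¹) * g := by group
    rw [h2, ← h1]
    have h3 : g⁻¹ * (g * d.1 * g⁻¹) * g = d.1 := by group
    rw [h3]
    exact d.2

/-- piece C2c -/
theorem o7920_C_ND_le {R : Sylow 3 G} {D : Subgroup G} {j : G} (c : O7920Conf2 G R D j)
    (h72 : Nat.card ↥(Subgroup.centralizer (D : Set G)) = 72)
    (E : Subgroup G) (hE : E ≤ Subgroup.centralizer (D : Set G)) (hE8 : Nat.card ↥E = 8)
    (z : G) (hzc : ∀ x ∈ E, z * x = x * z)
    (hNR : Subgroup.normalizer ((R : Subgroup G) : Set G) ≤ Subgroup.centralizer ({z} : Set G)) :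
    Subgroup.normalizer (D : Set G) ≤ Subgroup.centralizer ({z} : Set G) := by
  have hG := c.conf.hyp.card
  have hCN : centralizer (D : Set G) ≤ normalizer (D : Set G) :=
    Subgroup.centralizer_le_normalizer _
  have hR9 := (c.syl3 R).1
  have hRC : (R : Subgroup G) ≤ centralizer (D : Set G) :=
    o7920_le_centralizer hG D R c.conf.hDR
  have hEK : E ≤ (centralizer ({z} : Set G) ⊓ normalizer (D : Set G)) ⊓ centralizer (D : Set G) := by
    intro x hx
    exact ⟨⟨Subgroup.mem_centralizer_singleton_iff.mpr (hzc x hx).symm, hCN (hE hx)⟩, hE hx⟩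
  have hRK : (R : Subgroup G) ≤
      (centralizer ({z} : Set G) ⊓ normalizer (D : Set G)) ⊓ centralizer (D : Set G) := by
    intro x hx
    exact ⟨⟨hNR (Subgroup.le_normalizer hx), hCN (hRC hx)⟩, hRC hx⟩
  have h8 := Subgroup.card_dvd_of_le hEK
  have h9 := Subgroup.card_dvd_of_le hRK
  rw [hE8] at h8
  rw [hR9] at h9
  have hle72 := Subgroup.card_dvd_of_le
    (inf_le_right : (centralizer ({z} : Set G) ⊓ normalizer (D : Set G)) ⊓ centralizer (D : Set G) ≤
      centralizer (D : Set G))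
  rw [h72] at hle72
  have hle := Nat.le_of_dvd (by norm_num) hle72
  have hcard : Nat.card ↥((centralizer ({z} : Set G) ⊓ normalizer (D : Set G)) ⊓
      centralizer (D : Set G)) = 72 := by
    have hpos : 0 < Nat.card ↥((centralizer ({z} : Set G) ⊓ normalizer (D : Set G)) ⊓
      centralizer (D : Set G)) := Nat.card_pos
    omega
  have heq : (centralizer ({z} : Set G) ⊓ normalizer (D : Set G)) ⊓ centralizer (D : Set G) =
      centralizer (D : Set G) :=
    Subgroup.eq_of_le_of_card_ge inf_le_right (by rw [hcard, h72])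
  have hCK : centralizer (D : Set G) ≤ centralizer ({z} : Set G) ⊓ normalizer (D : Set G) := by
    rw [← heq]; exact inf_le_left
  have hjD : ∀ d ∈ D, j * d * j⁻¹ = d⁻¹ := fun d hd => c.conf.hjinv d (c.conf.hDR hd)
  have hjK : j ∈ centralizer ({z} : Set G) ⊓ normalizer (D : Set G) :=
    ⟨hNR c.conf.hjN, o7920_mem_normalizer_of_inv D j hjD⟩
  have hjC : j ∉ centralizer (D : Set G) := o7920_not_mem_centralizer_of_inv D c.conf.hD j hjD
  have hN144 : Nat.card ↥(normalizer (D : Set G)) = 144 := by rw [c.conf.nD, h72]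
  have hd1 := Subgroup.card_dvd_of_le hCK
  have hd2 := Subgroup.card_dvd_of_le
    (inf_le_right : centralizer ({z} : Set G) ⊓ normalizer (D : Set G) ≤ normalizer (D : Set G))
  rw [h72] at hd1
  rw [hN144] at hd2
  have hne : Nat.card ↥(centralizer ({z} : Set G) ⊓ normalizer (D : Set G)) ≠ 72 := by
    intro h
    have := Subgroup.eq_of_le_of_card_ge hCK (by rw [h, h72])
    rw [this] at hjC
    exact hjC hjK
  have hle2 := Nat.le_of_dvd (by norm_num) hd2
  have hK144 : Nat.card ↥(centralizer ({z} : Set G) ⊓ normalizer (D : Set G)) = 144 := by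
    obtain ⟨k, hk⟩ := hd1
    rw [hk] at hne hle2 hd2 ⊢
    have hk2 : k ≤ 2 := by omega
    interval_cases k <;> omega
  have heq2 : centralizer ({z} : Set G) ⊓ normalizer (D : Set G) = normalizer (D : Set G) :=
    Subgroup.eq_of_le_of_card_ge inf_le_right (by rw [hK144, hN144])
  rw [← heq2]
  exact inf_le_left

/-- piece C4a -/
theorem o7920_C_no9 {R : Sylow 3 G} {D : Subgroup G} {j : G} (c : O7920Conf2 G R D j)
    (z : G)
    (hu : ∀ x ∈ Subgroup.centralizer ((R : Subgroup G) : Set G), x ^ 16 = 1 → x = 1 ∨ x = z)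
    (hzu : ∀ g : G, g * z * g⁻¹ ∈ Subgroup.centralizer (D : Set G) → g * z * g⁻¹ = z)
    (b : G) (hbD : b ∈ Subgroup.centralizer (D : Set G)) (hb8 : b ^ 8 = 1) (hb1 : b ≠ 1)
    (hbz : b ≠ z) :
    ¬ 9 ∣ Nat.card ↥(Subgroup.centralizer ({b} : Set G)) := by
  have : Fact (Nat.Prime 3) := ⟨by norm_num⟩
  intro h9
  have h9' : 3 ^ 2 ∣ Nat.card ↥(centralizer ({b} : Set G)) := by norm_num; exact h9
  obtain ⟨H', hH'⟩ := Sylow.exists_subgroup_card_pow_prime 3 h9'
  have hH : Nat.card ↥(H'.map (centralizer ({b} : Set G)).subtype) = 9 := by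
    rw [Subgroup.card_map_of_injective (Subgroup.subtype_injective _), hH']; norm_num
  have hHle : H'.map (centralizer ({b} : Set G)).subtype ≤ centralizer ({b} : Set G) :=
    Subgroup.map_subtype_le H'
  have hpg : IsPGroup 3 ↥(H'.map (centralizer ({b} : Set G)).subtype) :=
    IsPGroup.of_card (n := 2) (by rw [hH]; norm_num)
  obtain ⟨S, hS⟩ := hpg.exists_le_sylow
  have hSH : H'.map (centralizer ({b} : Set G)).subtype = (S : Subgroup G) :=
    Subgroup.eq_of_le_of_card_ge hS (by rw [hH, (c.syl3 S).1])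
  obtain ⟨h, rfl⟩ := MulAction.exists_smul_eq G R S
  have hxC : h⁻¹ * b * h ∈ centralizer ((R : Subgroup G) : Set G) := by
    rw [Subgroup.mem_centralizer_iff]
    intro r hr
    have hmem : h * r * h⁻¹ ∈ ((h • R : Sylow 3 G) : Subgroup G) := by
      rw [o7920_mem_smul]
      have : h⁻¹ * (h * r * h⁻¹) * h = r := by group
      rw [this]; exact hr
    have hcomm : h * r * h⁻¹ * b = b * (h * r * h⁻¹) :=
      Subgroup.mem_centralizer_singleton_iff.mp (hHle (hSH ▸ hmem))
    calc r * (h⁻¹ * b * h) = h⁻¹ * (h * r * h⁻¹ * b) * h := by group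
      _ = h⁻¹ * (b * (h * r * h⁻¹)) * h := by rw [hcomm]
      _ = h⁻¹ * b * h * r := by group
  have hx16 : (h⁻¹ * b * h) ^ 16 = 1 := by
    have h1 : h⁻¹ * b * h = h⁻¹ * b * h⁻¹⁻¹ := by rw [inv_inv]
    rw [h1, conj_pow]
    have h2 : b ^ 16 = 1 := by
      calc b ^ 16 = (b ^ 8) ^ 2 := by rw [← pow_mul]
        _ = 1 := by rw [hb8, one_pow]
    rw [h2]; group
  rcases hu _ hxC hx16 with h1 | h1
  · apply hb1
    calc b = h * (h⁻¹ * b * h) * h⁻¹ := by group
      _ = 1 := by rw [h1]; group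
  · apply hbz
    have hb : b = h * z * h⁻¹ := by
      calc b = h * (h⁻¹ * b * h) * h⁻¹ := by group
        _ = h * z * h⁻¹ := by rw [h1]
    rw [hb]
    exact hzu h (hb ▸ hbD)

/-- piece C3 -/
theorem o7920_C_unique {R : Sylow 3 G} {D : Subgroup G} {j : G} (c : O7920Conf2 G R D j)
    (hfus : ∀ g : G, (∀ d ∈ D, g * d * g⁻¹ ∈ (R : Subgroup G)) → ∀ d ∈ D, g * d * g⁻¹ ∈ D)
    (z : G) (hzC : Subgroup.centralizer ({z} : Set G) = Subgroup.normalizer (D : Set G))
    (g : G) (hg : g * z * g⁻¹ ∈ Subgroup.centralizer (D : Set G)) : g * z * g⁻¹ = z := by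
  have : Fact (Nat.Prime 3) := ⟨by norm_num⟩
  -- the conjugate `g⁻¹ D g` lies in `N(D)`
  have h1 : ∀ d ∈ D, g⁻¹ * d * g ∈ normalizer (D : Set G) := by
    intro d hd
    rw [← hzC, Subgroup.mem_centralizer_singleton_iff]
    have hcomm : d * (g * z * g⁻¹) = g * z * g⁻¹ * d := Subgroup.mem_centralizer_iff.mp hg d hd
    calc g⁻¹ * d * g * z = g⁻¹ * (d * (g * z * g⁻¹)) * g := by group
      _ = g⁻¹ * (g * z * g⁻¹ * d) * g := by rw [hcomm]
      _ = z * (g⁻¹ * d * g) := by group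
  have hD0map : ∀ y ∈ D.map (MulAut.conj g⁻¹).toMonoidHom, ∃ d ∈ D, y = g⁻¹ * d * g := by
    intro y hy
    obtain ⟨d, hd, rfl⟩ := Subgroup.mem_map.mp hy
    exact ⟨d, hd, by simp⟩
  have hD0N : D.map (MulAut.conj g⁻¹).toMonoidHom ≤ normalizer (D : Set G) := by
    intro y hy
    obtain ⟨d, hd, rfl⟩ := hD0map y hy
    exact h1 d hd
  have hDp : IsPGroup 3 ↥D := IsPGroup.of_card (n := 1) (by rw [c.conf.hD]; norm_num)
  have hD0p : IsPGroup 3 ↥(D.map (MulAut.conj g⁻¹).toMonoidHom) := hDp.map _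
  have hsup := IsPGroup.to_sup_of_normal_right' hD0p hDp hD0N
  obtain ⟨S, hS⟩ := hsup.exists_le_sylow
  have hDS : D ≤ (S : Subgroup G) := le_sup_right.trans hS
  have hD0S : D.map (MulAut.conj g⁻¹).toMonoidHom ≤ (S : Subgroup G) := le_sup_left.trans hS
  obtain ⟨x, hx, hxS⟩ := c.trans S hDS
  have h2 : ∀ d ∈ D, (x⁻¹ * g⁻¹) * d * (x⁻¹ * g⁻¹)⁻¹ ∈ (R : Subgroup G) := by
    intro d hd
    have hmem : g⁻¹ * d * g ∈ (S : Subgroup G) := by
      apply hD0S
      refine Subgroup.mem_map.mpr ⟨d, hd, by simp⟩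
    have := (hxS _).mp hmem
    have heq : (x⁻¹ * g⁻¹) * d * (x⁻¹ * g⁻¹)⁻¹ = x⁻¹ * (g⁻¹ * d * g) * x := by group
    rw [heq]; exact this
  have h3 := hfus (x⁻¹ * g⁻¹) h2
  have h4 : x⁻¹ * g⁻¹ ∈ normalizer (D : Set G) := o7920_mem_normalizer_of_conj_mem D _ h3
  have hxN : x ∈ normalizer (D : Set G) := Subgroup.centralizer_le_normalizer _ hx
  have h5 : g ∈ normalizer (D : Set G) := by
    have h6 : g⁻¹ ∈ normalizer (D : Set G) := by
      have : g⁻¹ = x * (x⁻¹ * g⁻¹) := by group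
      rw [this]; exact mul_mem hxN h4
    simpa using inv_mem h6
  rw [← hzC, Subgroup.mem_centralizer_singleton_iff] at h5
  rw [h5]; group

end Cfsg.Agent.Helper52
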