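import Mathlib
import Cfsg.Agent.Helper13.TKDefs

set_option autoImplicit false

/-!
# CALL S5956 piece GRAM (helper52): `gram_blk`, statement verbatim from tools/calls/S5956Skel.lean.txt.
-/

namespace Cfsg.Agent.Helper52.TI5956

open Module Polynomial
open Cfsg.Agent.Helper42.SpForm Cfsg.Agent.Helper42.SpGroup Cfsg.Agent.Helper42.SpModels
open Cfsg.Agent.Helper13.TIsp Cfsg.Agent.Helper90.BG
open Cfsg.Agent.Helper11.TI5955 Cfsg.Agent.Helper58.TI5955 Cfsg.Agent.Helper59.TI5955
open Cfsg.Agent.Helper51.TI5955 Cfsg.Agent.Helper70.TI5955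
open Cfsg.Agent.Helper39.TI5961 Cfsg.Agent.Helper58.TI5961 Cfsg.Agent.Helper59.TI5961
open Cfsg.Agent.Helper60.TI5961 Cfsg.Agent.Helper31.TI5961 Cfsg.Agent.Helper19.TI5961

section geom

variable {F : Type*} [Field F] {V : Type*} [AddCommGroup V] [Module F V] [FiniteDimensional F V]
  (B : LinearMap.BilinForm F V)

set_option linter.unusedVariables false in
set_option linter.unusedSectionVars false in
theorem gram_blk (halt : ∀ v, B v v = 0) (T : Module.End F V) (hT : Preserves B T) (n : ℕ)
    (hn : 0 < n) (hTn : T ^ n = 1) (E : Submodule F V) (hET : E.map T ≤ E) (a : ℕ)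
    (hEa : ∀ v ∈ E, ((T - 1) ^ a) v = 0) (u v : V) (hu : u ∈ E) (hv : v ∈ E) (i j : ℕ) :
    (a ≤ i + j → B (((T - 1) ^ i) u) (((T - 1) ^ j) v) = 0) ∧
    (i + j + 1 = a → B (((T - 1) ^ i) u) (((T - 1) ^ j) v) =
      (-1) ^ i * B u (((T - 1) ^ (a - 1)) v)) := by
  have hcTN : Commute T (T - 1) := (Commute.refl T).sub_right (Commute.one_right T)
  have hcSN : Commute (T ^ (n - 1)) (T - 1) := hcTN.pow_left (n - 1)
  have hTS : T * T ^ (n - 1) = 1 := by rw [← pow_succ', Nat.sub_add_cancel hn, hTn]
  have hST : T ^ (n - 1) * T = 1 := by rw [← pow_succ, Nat.sub_add_cancel hn, hTn]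
  have hSN1 : T ^ (n - 1) * (T - 1) = 1 - T ^ (n - 1) := by rw [mul_sub, hST, mul_one]
  have hES : ∀ w ∈ E, (T ^ (n - 1)) w ∈ E := by
    have h : ∀ k : ℕ, ∀ w ∈ E, (T ^ k) w ∈ E := by
      intro k
      induction k with
      | zero => intro w hw; simpa using hw
      | succ k ih =>
        intro w hw
        rw [pow_succ']
        exact hET (Submodule.mem_map_of_mem (ih w hw))
    exact h (n - 1)
  have key0 : ∀ x y, B ((T - 1) x) (T y) = - B x ((T - 1) y) := by
    intro x y
    simp only [LinearMap.sub_apply, Module.End.one_apply, map_sub]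
    rw [hT x y]; ring
  generalize T ^ (n - 1) = S at hcSN hTS hSN1 hES
  generalize T - 1 = N at hcSN hSN1 key0 hEa ⊢
  have hTSw : ∀ w, T (S w) = w := by
    intro w
    have := congrArg (fun f : Module.End F V => f w) hTS
    simpa using this
  have key : ∀ x w, B (N x) w = - B x (N (S w)) := by
    intro x w
    have h := key0 x (S w)
    rw [hTSw] at h
    exact h
  have hind : ∀ (k : ℕ) (x w : V), B ((N ^ k) x) w = (-1) ^ k * B x ((N ^ k * S ^ k) w) := by
    intro k
    induction k with
    | zero => intro x w; simp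
    | succ k ih =>
      intro x w
      have h1 : (N ^ (k + 1)) x = N ((N ^ k) x) := by rw [pow_succ']; rfl
      rw [h1, key, ih]
      have h2 : (N ^ k * S ^ k) (N (S w)) = (N ^ (k + 1) * S ^ (k + 1)) w := by
        have h3 : N ^ k * S ^ k * (N * S) = N ^ (k + 1) * S ^ (k + 1) := by
          have hc : S ^ k * N = N * S ^ k := (hcSN.pow_left k).eq
          calc N ^ k * S ^ k * (N * S) = N ^ k * (S ^ k * N) * S := by simp only [mul_assoc]
            _ = N ^ k * (N * S ^ k) * S := by rw [hc]
            _ = N ^ (k + 1) * S ^ (k + 1) := by rw [pow_succ, pow_succ]; simp only [mul_assoc]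
        have := congrArg (fun f : Module.End F V => f w) h3
        simpa using this
      rw [h2, pow_succ]; ring
  have hNS : ∀ k m : ℕ, N ^ k * S ^ m = S ^ m * N ^ k := fun k m => ((hcSN.pow_pow m k).eq).symm
  have hform : B ((N ^ i) u) ((N ^ j) v) = (-1) ^ i * B u ((S ^ i) ((N ^ (i + j)) v)) := by
    rw [hind]
    have h3 : N ^ i * S ^ i * N ^ j = S ^ i * N ^ (i + j) := by
      rw [hNS, mul_assoc, ← pow_add]
    have := congrArg (fun f : Module.End F V => f v) h3
    simp only [Module.End.mul_apply] at this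
    rw [Module.End.mul_apply, this]
  refine ⟨fun h => ?_, fun h => ?_⟩
  · rw [hform]
    have h4 : (N ^ (i + j)) v = 0 := by
      obtain ⟨d, hd⟩ := Nat.exists_eq_add_of_le h
      rw [hd, add_comm, pow_add, Module.End.mul_apply, hEa v hv, map_zero]
    rw [h4, map_zero, map_zero, mul_zero]
  · rw [hform]
    have hij : i + j = a - 1 := by omega
    have ha1 : a - 1 + 1 = a := by omega
    rw [hij]
    congr 1
    have h5 : ∀ w ∈ E, (N ^ (a - 1)) (S w) = (N ^ (a - 1)) w := by
      intro w hw
      have h6 : N ^ (a - 1) * (1 - S) = S * N ^ a := by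
        have hc : N ^ (a - 1) * S = S * N ^ (a - 1) := by
          have := hNS (a - 1) 1
          simpa using this
        rw [← hSN1, ← mul_assoc, hc, mul_assoc, ← pow_succ, ha1]
      have := congrArg (fun f : Module.End F V => f w) h6
      simp only [Module.End.mul_apply, LinearMap.sub_apply, Module.End.one_apply, map_sub,
        hEa w hw, map_zero] at this
      exact (sub_eq_zero.mp this).symm
    have h7 : ∀ k : ℕ, ∀ w ∈ E, (N ^ (a - 1)) ((S ^ k) w) = (N ^ (a - 1)) w := by
      intro k
      induction k with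
      | zero => intro w hw; simp
      | succ k ih =>
        intro w hw
        rw [pow_succ, Module.End.mul_apply, ih (S w) (hES w hw), h5 w hw]
    have h8 : (S ^ i) ((N ^ (a - 1)) v) = (N ^ (a - 1)) ((S ^ i) v) := by
      have := congrArg (fun f : Module.End F V => f v) (hNS (a - 1) i)
      simpa using this.symm
    rw [h8, h7 i v hv]

end geom

end Cfsg.Agent.Helper52.TI5956
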