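import Mathlib
import Cfsg.Agent.Helper13.TKDefs

set_option autoImplicit false

/-!
# CALL S5956 piece INVBLK (helper52): `inv_blk`, statement verbatim from tools/calls/S5956Skel.lean.txt.
-/

namespace Cfsg.Agent.Helper52.TI5956

open Module Polynomial
open Cfsg.Agent.Helper42.SpForm Cfsg.Agent.Helper42.SpGroup Cfsg.Agent.Helper42.SpModels
open Cfsg.Agent.Helper13.TIsp Cfsg.Agent.Helper90.BG
open Cfsg.Agent.Helper11.TI5955 Cfsg.Agent.Helper58.TI5955 Cfsg.Agent.Helper59.TI5955
open Cfsg.Agent.Helper51.TI5955 Cfsg.Agent.Helper70.TI5955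
open Cfsg.Agent.Helper39.TI5961 Cfsg.Agent.Helper58.TI5961 Cfsg.Agent.Helper59.TI5961
open Cfsg.Agent.Helper60.TI5961 Cfsg.Agent.Helper31.TI5961 Cfsg.Agent.Helper19.TI5961

section geom

variable {F : Type*} [Field F] {V : Type*} [AddCommGroup V] [Module F V] [FiniteDimensional F V]
  (B : LinearMap.BilinForm F V)

set_option linter.unusedSectionVars false in
theorem inv_blk (N : Module.End F V) (a s : ℕ) (u : Fin s → V) (hN : ∀ j, (N ^ a) (u j) = 0) :
    ∀ w ∈ Submodule.span F (Set.range (fun x : Fin s × Fin a => (N ^ (x.2 : ℕ)) (u x.1))),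
      N w ∈ Submodule.span F (Set.range (fun x : Fin s × Fin a => (N ^ (x.2 : ℕ)) (u x.1))) := by
  intro w hw
  induction hw using Submodule.span_induction with
  | mem x hx =>
    obtain ⟨⟨j, i⟩, rfl⟩ := hx
    have h1 : N ((N ^ (i : ℕ)) (u j)) = (N ^ ((i : ℕ) + 1)) (u j) := by
      rw [pow_succ']; rfl
    show N ((N ^ (i : ℕ)) (u j)) ∈ _
    rw [h1]
    by_cases h : (i : ℕ) + 1 < a
    · exact Submodule.subset_span ⟨(j, ⟨(i : ℕ) + 1, h⟩), rfl⟩
    · have h2 : (i : ℕ) + 1 = a := by have := i.2; omega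
      rw [h2, hN]; exact Submodule.zero_mem _
  | zero => simp
  | add x y _ _ hx hy => rw [map_add]; exact Submodule.add_mem _ hx hy
  | smul c x _ hx => rw [map_smul]; exact Submodule.smul_mem _ c hx

end geom

end Cfsg.Agent.Helper52.TI5956
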