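import Mathlib
import Cfsg.Agent.Helper13.TKDefs
import Cfsg.Agent.Helper37.TKJTXFER
import Cfsg.Agent.Helper80.TKCAYLEY

set_option autoImplicit false

/-!
# CALL S5956 piece MODEL1 (helper52): `model_one`, statement verbatim from tools/calls/S5956Skel.lean.txt.
Uses `jt_xfer` (Helper37.TKJTXFER) and `cayley_ker` (Helper80.TKCAYLEY).
-/

namespace Cfsg.Agent.Helper52.TI5956

open Module Polynomial
open Cfsg.Agent.Helper42.SpForm Cfsg.Agent.Helper42.SpGroup Cfsg.Agent.Helper42.SpModels
open Cfsg.Agent.Helper13.TIsp Cfsg.Agent.Helper90.BG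
open Cfsg.Agent.Helper11.TI5955 Cfsg.Agent.Helper58.TI5955 Cfsg.Agent.Helper59.TI5955
open Cfsg.Agent.Helper51.TI5955 Cfsg.Agent.Helper70.TI5955
open Cfsg.Agent.Helper39.TI5961 Cfsg.Agent.Helper58.TI5961 Cfsg.Agent.Helper59.TI5961
open Cfsg.Agent.Helper60.TI5961 Cfsg.Agent.Helper31.TI5961 Cfsg.Agent.Helper19.TI5961
open Cfsg.Agent.Helper37.TI5956 Cfsg.Agent.Helper80.TI5956

section sp

variable {F : Type*} [Field F]

/-- The kernel of the `j`-th power of the shift on `Fin (k + 1) → F` has dimension `min (k + 1) j`. -/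
theorem model_one_shift_ker (k j : ℕ) :
    Module.finrank F (LinearMap.ker ((shiftUp F k) ^ j)) = min (k + 1) j := by
  classical
  have hker : LinearMap.ker ((shiftUp F k) ^ j) =
      ⨅ m ∈ {m : Fin (k + 1) | m.val + j < k + 1},
        LinearMap.ker (LinearMap.proj m : (Fin (k + 1) → F) →ₗ[F] F) := by
    ext v
    simp only [LinearMap.mem_ker, Submodule.mem_iInf, Set.mem_ofPred_eq, LinearMap.proj_apply]
    constructor
    · intro h m hm
      have h1 := congrFun h ⟨m.val + j, hm⟩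
      rw [shiftUp_pow_apply, dif_pos (by simp)] at h1
      have h2 : (⟨(⟨m.val + j, hm⟩ : Fin (k + 1)).val - j, by simp only; omega⟩ : Fin (k + 1)) = m :=
        Fin.ext (by simp)
      rw [h2] at h1
      exact h1
    · intro h
      funext i
      rw [shiftUp_pow_apply]
      split_ifs with hji
      · exact h _ (by simp only; omega)
      · rfl
  rw [hker]
  have e := LinearMap.iInfKerProjEquiv F (fun _ : Fin (k + 1) => F)
    (I := {m : Fin (k + 1) | ¬ (m.val + j < k + 1)}) (J := {m : Fin (k + 1) | m.val + j < k + 1})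
    (by rw [Set.disjoint_left]; intro a ha hb; exact ha hb)
    (by intro a _; by_cases h : a.val + j < k + 1; exact Or.inr h; exact Or.inl h)
  rw [e.finrank_eq, Module.finrank_pi]
  have hc : Fintype.card {m : Fin (k + 1) // m.val + j < k + 1} = k + 1 - j := by
    have e2 : {m : Fin (k + 1) // m.val + j < k + 1} ≃ {m : Fin (k + 1) // m.val < k + 1 - j} :=
      Equiv.subtypeEquivRight (fun m => by omega)
    rw [Fintype.card_congr e2,
      ← Fintype.card_congr (Fin.castLEOrderIso (Nat.sub_le (k + 1) j)).toEquiv, Fintype.card_fin]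
  have hc2 : Fintype.card {m : Fin (k + 1) // ¬ (m.val + j < k + 1)} = k + 1 - (k + 1 - j) := by
    rw [Fintype.card_subtype_compl, hc, Fintype.card_fin]
  have hc3 : Fintype.card ↑{m : Fin (k + 1) | ¬ (m.val + j < k + 1)} = k + 1 - (k + 1 - j) := by
    rw [← hc2]; exact Fintype.card_congr (Equiv.refl _)
  rw [hc3]
  omega

theorem model_one (p : ℕ) [Fact p.Prime] [CharP F p] (h2 : (2 : F) ≠ 0) (n : ℕ) (hn : 1 ≤ n)
    (hnp : 2 * n ≤ p) :
    ∃ g : Matrix.symplecticGroup (Fin n) F, toEnd g ^ p = 1 ∧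
      JT (toEnd g - 1) ⊤ (Multiset.replicate 1 (2 * n)) := by
  obtain ⟨k, hk⟩ : ∃ k, 2 * n = k + 1 := ⟨2 * n - 1, by omega⟩
  have hkodd : Odd k := by rw [Nat.odd_iff]; omega
  obtain ⟨U, hUB, hUp, hUk⟩ := cayley_ker (revForm F k) (shiftUp F k) p h2
    (shiftUp_pow_eq_zero F k p (by omega)) (revForm_shift F k)
  obtain ⟨g, Φ, hΦ, hg⟩ := xfer n (Fin (k + 1) → F) (revForm F k) (revForm_alt F k hkodd h2)
    (revForm_nondeg F k) (by rw [Module.finrank_fin_fun]; omega) U hUB
  have hgpow : ∀ j : ℕ, ∀ v, (toEnd g ^ j) (Φ v) = Φ ((U ^ j) v) := by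
    intro j
    induction j with
    | zero => intro v; simp
    | succ j ih =>
      intro v
      rw [pow_succ, Module.End.mul_apply, hg, ih, pow_succ, Module.End.mul_apply]
  refine ⟨g, ?_, ?_⟩
  · apply LinearMap.ext
    intro w
    obtain ⟨v, rfl⟩ := Φ.surjective w
    rw [hgpow, hUp]
    simp
  · apply jt_xfer Φ (U - 1) (toEnd g - 1)
    · intro v
      simp [hg]
    · intro j
      rw [hUk j, top_inf_eq, model_one_shift_ker, hk]
      simp

end sp

end Cfsg.Agent.Helper52.TI5956
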